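import Mathlib
import Cfsg.Agent.Base
import Cfsg.Agent.Lib.NGrp.Tools
import Cfsg.Agent.Lib.LocStruct.ResAct
import Cfsg.Agent.Lib.LocEven.K3

/-!
Simple groups of 2-rank 3 and characteristic 2 type: interfaces and small tools (see `blueprint/RK3C.md`).
-/

set_option autoImplicit false
set_option linter.unusedSectionVars false
set_option linter.unusedVariables false

namespace H22.RK

open Subgroup H69 H70 Cfsg
open scoped commutatorElement Pointwise

/-- the conclusion of the theorem. -/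
def Concl (G : Type*) [Group G] : Prop :=
  (∃ (F : Type) (_ : Field F) (_ : Fintype F), Fintype.card F = 8 ∧
    Nonempty (G ≃* Matrix.ProjectiveSpecialLinearGroup (Fin 2) F)) ∨
  (∃ (F : Type) (_ : Field F) (_ : Fintype F), Fintype.card F = 64 ∧ Nonempty (G ≃* Cfsg.PSU 3 F 8)) ∨
  (∃ (F : Type) (_ : Field F) (_ : Fintype F), Fintype.card F = 8 ∧ Nonempty (G ≃* ↥(Cfsg.Lie.Sz F 4))) ∨
  (∃ (F : Type) (_ : Field F) (_ : Fintype F), Fintype.card F = 3 ∧ Nonempty (G ≃* ↥(Cfsg.Lie.chevG2.group F)))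

/-- the standing hypothesis. -/
structure Hy (G : Type*) [Group G] : Prop where
  simple : IsSimpleGroup G
  nab : ¬ IsMulCommutative G
  rk : PRankLE 2 3 G
  rk' : ¬ PRankLE 2 2 G
  ct : IsCharacteristicTwoType G

/-- some `F*(C(z))` is of symplectic type. -/
def Sy (G : Type*) [Group G] : Prop :=
  ∃ z : G, orderOf z = 2 ∧ IsOfSymplecticType (generalizedFittingSubgroup (centralizer ({z} : Set G)))

/-- 2-rank at least 4. -/
def R4 (X : Type*) [Group X] : Prop := ¬ PRankLE 2 3 X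

/-- some involution centraliser is not of characteristic 2. -/
def NC (X : Type*) [Group X] : Prop := ∃ t : X, orderOf t = 2 ∧ ¬ CharP 2 (centralizer ({t} : Set X))

variable {G : Type*} [Group G]

/-- an elementary abelian subgroup of order 8. -/
structure E8 (V : Subgroup G) : Prop where
  sq : ∀ a ∈ V, a * a = 1
  card : Nat.card V = 8

/-- a non-cyclic normal elementary abelian subgroup of `C(z)` which is characteristic in `O₂(C(z))`. -/
structure CW (z : G) (W : Subgroup G) : Prop where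
  z1 : z ≠ 1
  mem : z ∈ W
  sq : ∀ a ∈ W, a * a = 1
  big : ∃ t ∈ W, t ≠ 1 ∧ t ≠ z
  le : W ≤ 𝐎(centralizer {z})
  norm : centralizer {z} ≤ 𝐍(W)
  chr : ∀ y ∈ 𝐎(centralizer {z}), y * y = z →
    (∀ q ∈ 𝐎(centralizer {z}), q * y = y * q ∨ q * y = z * (y * q)) → ∀ w ∈ W, w * y = y * w

/-- three independent elements of an elementary abelian 2-group. -/
def Ind (a b c : G) : Prop := a ≠ 1 ∧ b ≠ 1 ∧ b ≠ a ∧ c ≠ 1 ∧ c ≠ a ∧ c ≠ b ∧ c ≠ a * b

/-- `N(V)` is transitive on the ordered bases of `V`. -/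
def Full (V : Subgroup G) : Prop :=
  ∀ a ∈ V, ∀ b ∈ V, ∀ c ∈ V, ∀ a' ∈ V, ∀ b' ∈ V, ∀ c' ∈ V, Ind a b c → Ind a' b' c' →
    ∃ m ∈ 𝐍(V), m * a * m⁻¹ = a' ∧ m * b * m⁻¹ = b' ∧ m * c * m⁻¹ = c'

theorem comm_of_sq {A : Subgroup G} (h : ∀ a ∈ A, a * a = 1) {a b : G} (ha : a ∈ A) (hb : b ∈ A) :
    a * b = b * a := ea_comm (ea_of h) ha hb

theorem inv_of_sq {a : G} (h : a * a = 1) : a⁻¹ = a := inv_eq_of_mul_eq_one_right h

theorem orderOf_two {a : G} (h : a * a = 1) (h1 : a ≠ 1) : orderOf a = 2 :=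
  orderOf_eq_prime (by rw [pow_two, h]) h1

theorem sq_of_orderOf {a : G} (h : orderOf a = 2) : a * a = 1 ∧ a ≠ 1 :=
  ⟨by rw [← pow_two, ← h, pow_orderOf_eq_one], fun e => by rw [e, orderOf_one] at h; omega⟩

theorem isP_of_sq {A : Subgroup G} (h : ∀ a ∈ A, a * a = 1) : IsPGroup 2 A := ea_isP (ea_of h)

theorem card_le_of_rank {k : ℕ} (h : PRankLE 2 k G) {A : Subgroup G} (hA : ∀ a ∈ A, a * a = 1) :
    Nat.card A ≤ 2 ^ k :=
  h A ⟨⟨fun a b => Subtype.ext (comm_of_sq hA a.2 b.2)⟩⟩ fun a ha => by rw [pow_two, hA a ha]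

theorem mem_zpowers_two {d x : G} (hd : d * d = 1) : x ∈ zpowers d ↔ x = 1 ∨ x = d := by
  constructor
  · rintro ⟨k, rfl⟩
    have h2 : d ^ (2 : ℤ) = 1 := by rw [zpow_two, hd]
    rcases Int.even_or_odd' k with ⟨j, rfl | rfl⟩
    · left; simp [zpow_mul, h2]
    · right; simp [zpow_add, zpow_mul, h2]
  · rintro (rfl | rfl)
    exacts [one_mem _, mem_zpowers _]

theorem mem_adj {A : Subgroup G} {d x : G} (hd : d * d = 1) (hc : d ∈ 𝐂(A)) :
    x ∈ A ⊔ zpowers d ↔ x ∈ A ∨ x * d ∈ A := by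
  rw [mem_sup_of_le_normalizer_left (le_normalizer_of_le_centralizer ((zpowers_le_of_mem hc)))]
  constructor
  · rintro ⟨a, ha, b, hb, rfl⟩
    rcases (mem_zpowers_two hd).1 hb with rfl | rfl
    · left; simpa using ha
    · right; simpa [mul_assoc, hd] using ha
  · rintro (h | h)
    · exact ⟨x, h, 1, one_mem _, by simp⟩
    · exact ⟨x * d, h, d, mem_zpowers _, by simp [mul_assoc, hd]⟩

theorem sq_adj {A : Subgroup G} {d : G} (hA : ∀ a ∈ A, a * a = 1) (hd : d * d = 1) (hc : d ∈ 𝐂(A)) :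
    ∀ x ∈ A ⊔ zpowers d, x * x = 1 := fun x hx => by
  rcases (mem_adj hd hc).1 hx with h | h
  · exact hA x h
  · have h1 := hA _ h
    have h2 := mem_centralizer_iff_commute.1 hc _ h
    have h3 : x * d = d * x := by
      have : x * d * d = d * (x * d) := h2
      rw [mul_assoc, hd, mul_one] at this
      calc x * d = d * (d * x * d) := by rw [← mul_assoc, ← mul_assoc, hd, one_mul]
        _ = d * x := by rw [mul_assoc d x d, ← this]
    calc x * x = x * (d * d) * x := by rw [hd, mul_one]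
      _ = x * d * (d * x) := by simp only [mul_assoc]
      _ = x * d * (x * d) := by rw [← h3]
      _ = 1 := h1

theorem card_adj [Finite G] {A : Subgroup G} {d : G} (hd : d * d = 1) (hc : d ∈ 𝐂(A)) (hn : d ∉ A) :
    Nat.card (A ⊔ zpowers d : Subgroup G) = 2 * Nat.card A := by
  have h1 : A.relIndex (A ⊔ zpowers d) = 2 := by
    rw [relIndex_eq_two_iff]
    refine ⟨d, mem_sup_right (mem_zpowers d), fun b hb => ?_⟩
    rcases (mem_adj hd hc).1 hb with h | h
    · exact Or.inr ⟨h, fun h' => hn (by simpa using mul_mem (inv_mem h) h')⟩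
    · exact Or.inl ⟨h, fun h' => hn (by simpa using mul_mem (inv_mem h') h)⟩
  have h2 := card_mul_index (A.subgroupOf (A ⊔ zpowers d))
  rw [card_subgroupOf le_sup_left] at h2
  rw [← h2, mul_comm]
  exact congrArg (· * Nat.card A) h1

/-- the subgroup generated by three commuting involutions. -/
def sp3 (a b c : G) : Subgroup G := (zpowers a ⊔ zpowers b) ⊔ zpowers c

theorem sq_zpowers {a : G} (h : a * a = 1) : ∀ x ∈ zpowers a, x * x = 1 := fun x hx => by
  rcases (mem_zpowers_two h).1 hx with rfl | rfl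
  exacts [mul_one _, h]

theorem cent_zpowers {a b : G} (h : a * b = b * a) : b ∈ 𝐂(zpowers a) := by
  rw [H69.centralizer_zpowers]; exact mem_centralizer_singleton_iff.2 h.symm

theorem cent_sup {A B : Subgroup G} {x : G} (h1 : x ∈ 𝐂(A)) (h2 : x ∈ 𝐂(B)) : x ∈ 𝐂(A ⊔ B) := by
  rw [H69.centralizer_sup]; exact ⟨h1, h2⟩

theorem mem_sp2 {a b x : G} (ha : a * a = 1) (hb : b * b = 1) (ab : a * b = b * a) :
    x ∈ zpowers a ⊔ zpowers b ↔ x = 1 ∨ x = a ∨ x = b ∨ x = a * b := by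
  rw [mem_adj hb (cent_zpowers ab), mem_zpowers_two ha, mem_zpowers_two ha, mul_eq_one_iff_eq_inv,
    ← eq_mul_inv_iff_mul_eq, inv_of_sq hb]
  tauto

theorem mem_sp3 {a b c x : G} (ha : a * a = 1) (hb : b * b = 1) (hc : c * c = 1) (ab : a * b = b * a)
    (ac : a * c = c * a) (bc : b * c = c * b) :
    x ∈ sp3 a b c ↔ x = 1 ∨ x = a ∨ x = b ∨ x = a * b ∨ x = c ∨ x = a * c ∨ x = b * c ∨ x = a * b * c := by
  rw [sp3, mem_adj hc (cent_sup (cent_zpowers ac) (cent_zpowers bc)), mem_sp2 ha hb ab, mem_sp2 ha hb ab,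
    mul_eq_one_iff_eq_inv, ← eq_mul_inv_iff_mul_eq, ← eq_mul_inv_iff_mul_eq, ← eq_mul_inv_iff_mul_eq,
    inv_of_sq hc]
  tauto

theorem card_sp2 [Finite G] {a b : G} (ha : a * a = 1) (hb : b * b = 1) (ab : a * b = b * a) (a1 : a ≠ 1)
    (b1 : b ≠ 1) (ba : b ≠ a) : Nat.card (zpowers a ⊔ zpowers b : Subgroup G) = 4 := by
  rw [card_adj hb (cent_zpowers ab) (by rw [mem_zpowers_two ha]; tauto), Nat.card_zpowers, orderOf_two ha a1]

theorem e8_sp3 [Finite G] {a b c : G} (ha : a * a = 1) (hb : b * b = 1) (hc : c * c = 1) (ab : a * b = b * a)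
    (ac : a * c = c * a) (bc : b * c = c * b) (h : Ind a b c) : E8 (sp3 a b c) := by
  obtain ⟨a1, b1, ba, c1, ca, cb, cab⟩ := h
  have hcc := cent_sup (cent_zpowers ac) (cent_zpowers bc)
  refine ⟨sq_adj (sq_adj (sq_zpowers ha) hb (cent_zpowers ab)) hc hcc, ?_⟩
  rw [sp3, card_adj hc hcc (by rw [mem_sp2 ha hb ab]; tauto), card_sp2 ha hb ab a1 b1 ba]

/-- three independent elements of an `E₈` generate it. -/
theorem E8.eq_sp3 [Finite G] {V : Subgroup G} (h : E8 V) {a b c : G} (ha : a ∈ V) (hb : b ∈ V) (hc : c ∈ V)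
    (hi : Ind a b c) : V = sp3 a b c :=
  (eq_of_le_of_card_ge (H := sp3 a b c)
    (sup_le (sup_le (zpowers_le_of_mem ha) (zpowers_le_of_mem hb)) (zpowers_le_of_mem hc))
    (by rw [h.card, (e8_sp3 (h.sq a ha) (h.sq b hb) (h.sq c hc) (comm_of_sq h.sq ha hb) (comm_of_sq h.sq ha hc)
      (comm_of_sq h.sq hb hc) hi).card])).symm

theorem E8.cases [Finite G] {V : Subgroup G} (h : E8 V) {a b c x : G} (ha : a ∈ V) (hb : b ∈ V) (hc : c ∈ V)
    (hi : Ind a b c) (hx : x ∈ V) :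
    x = 1 ∨ x = a ∨ x = b ∨ x = a * b ∨ x = c ∨ x = a * c ∨ x = b * c ∨ x = a * b * c := by
  rw [h.eq_sp3 ha hb hc hi] at hx
  exact (mem_sp3 (h.sq a ha) (h.sq b hb) (h.sq c hc) (comm_of_sq h.sq ha hb) (comm_of_sq h.sq ha hc)
    (comm_of_sq h.sq hb hc)).1 hx

theorem exists_not_mem [Finite G] {A B : Subgroup G} (h : Nat.card A < Nat.card B) : ∃ x ∈ B, x ∉ A := by
  by_contra hc
  push Not at hc
  exact absurd (card_le_of_le hc) (by omega)

/-- two independent elements of an `E₈` extend to a basis. -/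
theorem E8.ext3 [Finite G] {V : Subgroup G} (h : E8 V) {a b : G} (ha : a ∈ V) (hb : b ∈ V) (a1 : a ≠ 1)
    (b1 : b ≠ 1) (ba : b ≠ a) : ∃ c ∈ V, Ind a b c := by
  have ab := comm_of_sq h.sq ha hb
  obtain ⟨c, hc, hn⟩ := exists_not_mem (A := zpowers a ⊔ zpowers b) (B := V)
    (by rw [card_sp2 (h.sq a ha) (h.sq b hb) ab a1 b1 ba, h.card]; omega)
  rw [mem_sp2 (h.sq a ha) (h.sq b hb) ab] at hn
  exact ⟨c, hc, a1, b1, ba, by tauto⟩

theorem E8.ext2 [Finite G] {V : Subgroup G} (h : E8 V) {a : G} (ha : a ∈ V) (a1 : a ≠ 1) :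
    ∃ b ∈ V, ∃ c ∈ V, Ind a b c := by
  obtain ⟨b, hb, hn⟩ := exists_not_mem (A := zpowers a) (B := V)
    (by rw [Nat.card_zpowers, orderOf_two (h.sq a ha) a1, h.card]; omega)
  rw [mem_zpowers_two (h.sq a ha), not_or] at hn
  obtain ⟨c, hc, hi⟩ := h.ext3 ha hb a1 hn.1 hn.2
  exact ⟨b, hb, c, hc, hi⟩

theorem E8.ne_bot {V : Subgroup G} (h : E8 V) : V ≠ ⊥ := fun e => by
  have := h.card
  rw [e, card_bot] at this
  omega

/-- in 2-rank 3 an involution centralising an `E₈` lies in it. -/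
theorem E8.mem_of_cent [Finite G] (h3 : PRankLE 2 3 G) {V : Subgroup G} (h : E8 V) {d : G} (hd : d * d = 1)
    (hc : d ∈ 𝐂(V)) : d ∈ V := by
  by_contra hn
  have := card_le_of_rank h3 (sq_adj h.sq hd hc)
  rw [card_adj hd hc hn, h.card] at this
  omega

/-- four commuting independent involutions give 2-rank at least 4. -/
theorem r4_of [Finite G] {a b c d : G} (ha : a * a = 1) (hb : b * b = 1) (hc : c * c = 1) (hd : d * d = 1)
    (ab : a * b = b * a) (ac : a * c = c * a) (bc : b * c = c * b) (ad : a * d = d * a) (bd : b * d = d * b)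
    (cd : c * d = d * c) (h : Ind a b c)
    (hn : ¬ (d = 1 ∨ d = a ∨ d = b ∨ d = a * b ∨ d = c ∨ d = a * c ∨ d = b * c ∨ d = a * b * c)) : R4 G :=
  fun h3 => hn ((mem_sp3 ha hb hc ab ac bc).1 ((e8_sp3 ha hb hc ab ac bc h).mem_of_cent h3 hd
    (cent_sup (cent_sup (cent_zpowers ad) (cent_zpowers bd)) (cent_zpowers cd))))

theorem rank_of_inj {X : Type*} [Group X] {k : ℕ} (f : X →* G) (hf : Function.Injective f)
    (h : PRankLE 2 k G) : PRankLE 2 k X := fun A hA h2 => by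
  rw [← card_map_of_injective hf]
  refine card_le_of_rank h ?_
  rintro _ ⟨a, ha, rfl⟩
  rw [← map_mul, ← pow_two, h2 a ha, map_one]

theorem rank_of_equiv {X : Type*} [Group X] {k : ℕ} (e : X ≃* G) (h : PRankLE 2 k G) : PRankLE 2 k X :=
  rank_of_inj e.toMonoidHom e.injective h

theorem R4.of_inj {X : Type*} [Group X] (f : X →* G) (hf : Function.Injective f) (h : R4 X) : R4 G :=
  fun h3 => h (rank_of_inj f hf h3)

theorem R4.of_sub {H : Subgroup G} (h : R4 H) : R4 G := h.of_inj H.subtype H.subtype_injective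

theorem R4.of_equiv {X : Type*} [Group X] (e : G ≃* X) (h : R4 X) : R4 G :=
  h.of_inj e.symm.toMonoidHom e.symm.injective

theorem NC.of_equiv {X : Type*} [Group X] (e : G ≃* X) (h : NC X) : NC G := by
  obtain ⟨t, ht, hn⟩ := h
  refine ⟨e.symm t, by rw [e.symm.orderOf_eq, ht], fun hc => hn ?_⟩
  have := hc.map (f := e.toMonoidHom) e.injective
  convert this using 1
  ext x
  obtain ⟨y, rfl⟩ := e.surjective x
  refine Iff.trans ?_ (mem_map_iff_mem (f := e.toMonoidHom) e.injective (x := y)).symm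
  rw [mem_centralizer_singleton_iff, mem_centralizer_singleton_iff, ← e.apply_eq_iff_eq (x := y * _), map_mul,
    map_mul, e.apply_symm_apply]

namespace Hy

variable [Finite G] (h : Hy G)
include h

theorem chrN {P : Subgroup G} (hP : IsPGroup 2 P) (h1 : P ≠ ⊥) : CharP 2 𝐍(P) := charP_iff.2 (h.ct.2 P hP h1)

theorem chrC {P : Subgroup G} (hP : IsPGroup 2 P) (h1 : P ≠ ⊥) : CharP 2 𝐂(P) :=
  (h.chrN hP h1).of_normal (centralizer_le_normalizer _) (H69.normalizer_le_normalizer_centralizer P)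

theorem chrz {z : G} (z2 : z * z = 1) (z1 : z ≠ 1) : CharP 2 (centralizer ({z} : Set G)) := by
  rw [← H69.centralizer_zpowers]
  exact h.chrC (isP_of_sq (sq_zpowers z2)) (by rwa [Ne, zpowers_eq_bot])

theorem not_nc : ¬ NC G := fun ⟨t, ht, hn⟩ => hn (h.chrz (sq_of_orderOf ht).1 (sq_of_orderOf ht).2)

theorem not_r4 : ¬ R4 G := fun h4 => h4 h.rk

theorem card_le {A : Subgroup G} (hA : ∀ a ∈ A, a * a = 1) : Nat.card A ≤ 8 := card_le_of_rank h.rk hA

end Hy

end H22.RK
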