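import Mathlib
import Cfsg.Agent.Lib.Rk3C.Defs
import Cfsg.Agent.Lib.Blk86.UqA
import Cfsg.Agent.Lib.Dim3.R3
import Cfsg.Agent.Lib.GL.Basic
import Cfsg.Agent.S0279

/-! Small simple groups of 2-rank at most 2. -/

set_option autoImplicit false
set_option linter.unusedSectionVars false
set_option linter.unusedVariables false

namespace H22.RK

open Subgroup H69 H70 Cfsg
open scoped commutatorElement Pointwise

variable {G : Type*} [Group G] [Finite G]

namespace R4'

theorem rk_of (h : ∀ A : Subgroup G, IsMulCommutative A → (∀ a ∈ A, a ^ 2 = 1) → 8 ∣ Nat.card A → False) :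
    PRankLE 2 2 G := fun A hA h2 => by
  obtain ⟨n, hn⟩ := IsPGroup.iff_card.1 (isP_of_sq (A := A) fun a ha => by rw [← pow_two, h2 a ha])
  by_contra hc
  rw [hn, Nat.pow_le_pow_iff_right one_lt_two] at hc
  exact h A hA h2 (hn ▸ pow_dvd_pow 2 (by omega : 3 ≤ n))

theorem rk_of_r2 (h : H86.Uq.R2 G) : PRankLE 2 2 G := rk_of fun A hA h2 h8 =>
  h.false (A := A) ⟨⟨hA, h2⟩, Nat.le_of_dvd Nat.card_pos h8⟩

theorem rk_sl3 {F : Type} [Field F] [Fintype F] {n : ℕ} (h : Fintype.card F = 3 ^ (n + 1))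
    (H : Subgroup (Matrix.SpecialLinearGroup (Fin 3) F)) : PRankLE 2 2 H := by
  have h3 : (3 : F) = 0 := by
    have := FiniteField.cast_card_eq_zero F
    rw [h] at this
    exact (pow_eq_zero_iff (n := n + 1) (by omega)).1 (by exact_mod_cast this)
  refine H98.D3.R3.rank_le (ρ := Matrix.SpecialLinearGroup.coeMonoidHom.comp H.subtype) (π := MonoidHom.id H)
    ⟨fun a b e => Subtype.ext (Subtype.ext e), fun x => x.1.2, Function.surjective_id, fun x =>
      ⟨fun e => ⟨1, by rw [show x = 1 from e, map_one, one_smul]⟩, fun ⟨c, e⟩ => ?_⟩⟩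
    fun e => one_ne_zero (α := F) (by linear_combination h3 - e)
  have h1 : c ^ 3 = 1 := by
    have := x.1.2
    rw [show x.1.1 = c • 1 from e] at this
    simpa using this
  have h2 : (c - 1) ^ 3 = 0 := by linear_combination h1 + (c - c ^ 2) * h3
  obtain rfl := sub_eq_zero.1 (pow_eq_zero_iff (by omega) |>.1 h2)
  exact Subtype.ext (Subtype.ext (e.trans (one_smul _ _)))

theorem rk_quot (h : PRankLE 2 2 G) (h1 : Nat.card (center G) = 1) : PRankLE 2 2 (G ⧸ center G) :=
  rank_of_equiv ((QuotientGroup.quotientMulEquivOfEq (card_eq_one.1 h1)).trans QuotientGroup.quotientBot) h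

end R4'

open R4'

theorem rk_l2 {F : Type} [Field F] [Fintype F] (h : Odd (Fintype.card F) ∨ Fintype.card F ≤ 4) :
    PRankLE 2 2 (Matrix.ProjectiveSpecialLinearGroup (Fin 2) F) := by
  by_cases ho : Odd (Fintype.card F)
  · exact rk_of_r2 (H86.Uq.r2_psl ho (MulEquiv.refl _))
  refine rk_of fun A _ _ h8 => ?_
  have h1 := H10.card_PSL_two (F := F)
  have h2 := h8.trans (card_subgroup_dvd_card A)
  have h3 := h.resolve_left ho
  have h4 := Fintype.one_lt_card (α := F)
  rw [Nat.odd_iff] at ho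
  rw [Nat.card_eq_fintype_card (α := F)] at h1
  obtain e | e : Fintype.card F = 2 ∨ Fintype.card F = 4 := by omega
  all_goals
    rw [e] at h1
    norm_num at h1
    rw [h1] at h2
    omega

theorem rk_l33 {F : Type} [Field F] [Fintype F] (h : Fintype.card F = 3) :
    PRankLE 2 2 (Matrix.ProjectiveSpecialLinearGroup (Fin 3) F) :=
  rk_quot (rank_of_equiv topEquiv.symm (rk_sl3 (n := 0) h ⊤))
    (by rw [H10.card_center_SL, Nat.card_eq_fintype_card, h]; simp)

theorem rk_u33 {F : Type} [Field F] [Fintype F] (h : Fintype.card F = 9) : PRankLE 2 2 (PSU 3 F 3) :=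
  rk_quot (rk_sl3 (n := 1) h _) (Cfsg.Agent.S0279.result (q := 3) h 3 le_rfl)

theorem rk_a7 : PRankLE 2 2 (alternatingGroup (Fin 7)) := rk_of fun A _ h2 h8 => by
  have hc : Nat.card (alternatingGroup (Fin 7)) = 2 ^ 3 * 315 := by
    rw [nat_card_alternatingGroup]; simp [Nat.factorial]
  let g : alternatingGroup (Fin 7) := ⟨c[0, 1, 2, 3] * c[4, 5], by rw [Equiv.Perm.mem_alternatingGroup]; decide⟩
  have g4 : g ^ 2 ^ 2 = 1 := Subtype.ext (by decide)
  obtain ⟨P, hP⟩ := (isP_of_sq (A := A) fun a ha => by rw [← pow_two, h2 a ha]).exists_le_sylow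
  obtain ⟨Q, hQ⟩ := (IsPGroup.of_card (p := 2) (G := zpowers g) (n := 2) (by
    rw [Nat.card_zpowers]
    exact orderOf_eq_prime_pow (p := 2) (n := 1) (fun e => absurd (congrArg Subtype.val e) (by decide)) g4)).exists_le_sylow
  have e : A = P := eq_of_le_of_card_ge hP (by
    rw [P.card_eq_multiplicity, hc]
    refine le_trans (le_of_eq ?_) (Nat.le_of_dvd Nat.card_pos h8)
    rw [Nat.factorization_mul (by norm_num) (by norm_num), Nat.prime_two.factorization_pow]
    simp [Nat.factorization_eq_zero_of_not_dvd])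
  obtain ⟨x, rfl⟩ := MulAction.exists_smul_eq (alternatingGroup (Fin 7)) P Q
  obtain ⟨a, ha, e'⟩ := hQ (mem_zpowers g)
  have : g ^ 2 = 1 := by rw [show g = MulAut.conj x a from e'.symm, ← map_pow, h2 a (e ▸ ha), map_one]
  exact absurd (congrArg Subtype.val this) (by decide)

theorem rk_m11 (h : Spor.IsoM11 G) : PRankLE 2 2 G := rk_of_r2 (H86.Uq.r2_M11 h)

end H22.RK
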