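import Mathlib
import Cfsg.Agent.Lib.Rk3C.Defs
import Cfsg.Agent.Lib.SylInt.Inner
import Cfsg.Agent.Lib.GL.Basic

set_option autoImplicit false
set_option linter.unusedSectionVars false
set_option linter.unusedVariables false

namespace H22.RK

open Subgroup H69 H70 Cfsg
open scoped commutatorElement Pointwise

variable {G : Type*} [Group G] [Finite G]

theorem R5.rank_eq (h3 : PRankLE 2 3 G) (h2 : ¬ PRankLE 2 2 G) {T Ω : Subgroup G}
    (hT : IsSylowIn 2 T ⊤) (h : ∀ x ∈ T, x * x = 1 → x ∈ Ω) (hs : ∀ x ∈ Ω, x * x = 1) {n : ℕ}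
    (hn : Nat.card Ω = 2 ^ n) : n = 3 := by
  have : Fact (Nat.Prime 2) := ⟨Nat.prime_two⟩
  have h4 := card_le_of_rank h3 hs
  simp only [PRankLE, not_forall, not_le] at h2
  obtain ⟨A, -, hA, h5⟩ := h2
  simp only [pow_two] at hA
  obtain ⟨g, -, hg⟩ := hT.exists_cj_le (isP_of_sq hA) le_top
  have h6 : A ^ᶜ g ≤ Ω := fun x hx => h x (hg hx) (by
    obtain ⟨a, ha, rfl⟩ := mem_cj'.1 hx
    rw [conj_mul, hA a ha, mul_one, mul_inv_cancel])
  have h7 := card_le_of_le h6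
  rw [card_cj, hn] at h7
  rw [hn] at h4
  have h8 := (Nat.pow_le_pow_iff_right (by norm_num : 1 < 2)).1 h4
  have h9 := (Nat.pow_lt_pow_iff_right (by norm_num : 1 < 2)).1 (h5.trans_le h7)
  omega

/-- a Bender group of 2-rank 3 is `L₂(8)`, `U₃(8)` or `Sz(8)`. -/
theorem concl_of_bender (hB : IsBenderGroup G) (h3 : PRankLE 2 3 G) (h2 : ¬ PRankLE 2 2 G) : Concl G := by
  have : Fact (Nat.Prime 2) := ⟨Nat.prime_two⟩
  rcases hB with ⟨F, _, _, h4, h5, ⟨e⟩⟩ | ⟨F, _, _, n, h4, h5, ⟨e⟩⟩ | ⟨F, _, _, m, h4, h5, ⟨e⟩⟩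
  · obtain ⟨n, h6, h7⟩ := H72.exists_card_eq_two_pow F h5
    obtain ⟨T, hT⟩ := exists_isSylowIn 2 (⊤ : Subgroup G)
    have h8 := H10.card_PSL_two (F := F)
    have h9 : 2 ∣ 2 ^ n := dvd_pow_self 2 (by omega)
    have h0 : 0 < 2 ^ n := by positivity
    have o1 : ¬ 2 ∣ 2 ^ n - 1 := by omega
    have o2 : ¬ 2 ∣ 2 ^ n + 1 := by omega
    rw [Nat.card_eq_fintype_card (α := F), h7, (Nat.prime_two.coprime_iff_not_dvd.2 o1).gcd_eq_one,
      one_mul, ← Nat.card_congr e.toEquiv] at h8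
    obtain rfl := R5.rank_eq h3 h2 hT (fun _ hx _ => hx) (fun x hx => H69.SI.L2e.sq
      ⟨F, _, _, n, h6, h7, ⟨e⟩⟩ (H69.isPGroup_iff_mem.1 hT.isP x hx)) (n := n) (by
        rw [hT.card_eq_pow_factorization, card_top, h8, Nat.factorization_mul (mul_ne_zero (by omega) (by omega)) (by omega),
          Nat.factorization_mul (by omega) (by omega), Finsupp.add_apply, Finsupp.add_apply,
          Nat.factorization_eq_zero_of_not_dvd o1, Nat.factorization_eq_zero_of_not_dvd o2,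
          Nat.prime_two.factorization_pow]
        simp)
    exact .inl ⟨F, _, _, h7, ⟨e⟩⟩
  · have : H11.U.IsSq F (2 ^ n) := ⟨h5⟩
    have : _root_.CharP F 2 := H69.SI.charP_two (n := n * 2) (by omega) (by rw [h5, pow_mul])
    let Ω : Subgroup (H72.UQ F (2 ^ n)) :=
      { carrier := {a | a.X = 0}
        mul_mem' := fun {a b} ha hb => by
          rw [Set.mem_ofPred_eq] at *
          rw [H72.UQ.mul_X, ha, hb, add_zero]
        one_mem' := rfl
        inv_mem' := fun ha => ha }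
    have hf : Function.Injective (e.symm.toMonoidHom.comp (H72.UQ.toPSU F (2 ^ n))) :=
      e.symm.injective.comp H72.UQ.toPSU_injective
    obtain rfl := R5.rank_eq h3 h2 (Ω := Ω.map (e.symm.toMonoidHom.comp (H72.UQ.toPSU F (2 ^ n))))
      (H69.SI.isSylowIn_equiv e (H69.SI.isSylowIn_UQ (dvd_pow_self 2 (by omega)))) (by
        rintro _ ⟨_, ⟨a, rfl⟩, rfl⟩ ha
        exact ⟨a, H72.UQ.mul_self_eq_one_iff.1 (hf (by rw [map_mul, map_one]; exact ha)), rfl⟩) (by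
        rintro _ ⟨a, ha, rfl⟩
        rw [← map_mul, H72.UQ.mul_self_eq_one_iff.2 ha, map_one]) (n := n) (by
        refine (card_map_of_injective hf).trans (Eq.trans ?_
          (H69.SI.card_trace (F := F) (q := 2 ^ n) (map_zero _)))
        exact Nat.card_congr ⟨fun a => ⟨a.1.Y, by rw [a.1.h, show a.1.X = 0 from a.2, zero_mul]⟩,
          fun y => ⟨⟨0, y.1, by rw [y.2, zero_mul]⟩, rfl⟩,
          fun a => Subtype.ext (H72.UQ.ext (Eq.symm a.2) rfl), fun _ => rfl⟩)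
    exact .inr (.inl ⟨F, _, _, h5, ⟨e⟩⟩)
  · have : H14.Sz.SzF F m := ⟨h4, h5⟩
    let M := (H14.Sz.lieModel F m).comap e
    have := R5.rank_eq h3 h2 (T := M.U) (Ω := M.Z) (M.coe_sylow ▸ isSylowIn_top M.sylow)
      (fun x h1 h2 => M.mem_Z_iff.2 ⟨h1, h2⟩) (fun x hx => (M.mem_Z_iff.1 hx).2) (M.card_Z.trans h5)
    obtain rfl : m = 1 := by omega
    exact .inr (.inr (.inl ⟨F, _, _, h5, ⟨e⟩⟩))

end H22.RK
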