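import Mathlib
import Cfsg.Agent.Lib.Rk3C.Defs
import Cfsg.Agent.Lib.FF.EAGL
import Cfsg.Agent.S0493

set_option autoImplicit false
set_option linter.unusedSectionVars false
set_option linter.unusedVariables false

namespace H22.RK

open Subgroup H69 H70 Cfsg
open scoped commutatorElement Pointwise

namespace B1'

universe u

/-- a group of order at most 100 and prime to 5 is solvable. -/
theorem solv100 : ∀ (n : ℕ) (X : Type u) [Group X] [Finite X], Nat.card X = n → n ≤ 100 → ¬ 5 ∣ n →
    Group.IsSolvable X := by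
  intro n
  induction n using Nat.strong_induction_on with
  | _ n ih =>
  intro X _ _ hn h100 h5
  rcases subsingleton_or_nontrivial X with h | h
  · infer_instance
  by_cases hs : IsSimpleGroup X
  · by_cases hc : IsCyclic X
    · exact Group.isSolvable_of_comm fun a b => (IsCyclic.isMulCommutative).is_comm.comm a b
    · have := Cfsg.Agent.S0493.result hc (by omega)
      omega
  · obtain ⟨N, hN, h1, h2⟩ : ∃ N : Subgroup X, N.Normal ∧ N ≠ ⊥ ∧ N ≠ ⊤ := by
      by_contra hc
      push Not at hc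
      exact hs ⟨fun N hN => by
        by_cases h : N = ⊥
        · exact Or.inl h
        · exact Or.inr (hc N hN h)⟩
    have e := card_mul_index N
    have a1 := one_lt_index_of_ne_top h2
    have a2 := (one_lt_card_iff_ne_bot N).2 h1
    have := ih (Nat.card N) (by nlinarith) N rfl (by nlinarith)
      (fun h => h5 (hn ▸ e ▸ h.mul_right _))
    have := ih N.index (by nlinarith) (X ⧸ N) rfl (by nlinarith)
      (fun h => h5 (hn ▸ e ▸ h.mul_left _))
    exact Group.isSolvable_of_ker_le_range N.subtype (QuotientGroup.mk' N) (by simp)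

theorem not_solv {X : Type*} [Group X] {N K : Subgroup X} (h : K ≤ N) (h1 : K ≠ ⊥) (hK : ⁅K, K⁆ = K) :
    ¬ Group.IsSolvable N := fun hs => by
  have h2 : K.subgroupOf N ≠ ⊥ := fun e => h1 (by
    rw [← map_subgroupOf_eq_of_le h, e, Subgroup.map_bot])
  refine (Group.IsSolvable.commutator_lt_of_ne_bot h2).ne (map_injective N.subtype_injective ?_)
  rw [map_commutator, map_subgroupOf_eq_of_le h, hK]

variable {G : Type*} [Group G] [Finite G]

/-- a perfect group inducing a solvable group of automorphisms centralises. -/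
theorem cent_of_solv {V K : Subgroup G} (hK : ⁅K, K⁆ = K) (hn : K ≤ 𝐍(V))
    (hs : Group.IsSolvable (H2.conjAut hn).range) : K ≤ 𝐂(V) := by
  have h1 : ⁅(⊤ : Subgroup K), (⊤ : Subgroup K)⁆ = ⊤ := by
    refine map_injective K.subtype_injective ?_
    rw [map_commutator, ← MonoidHom.range_eq_map, range_subtype, hK]
  have h2 : ⁅(H2.conjAut hn).range, (H2.conjAut hn).range⁆ = (H2.conjAut hn).range := by
    rw [MonoidHom.range_eq_map, ← map_commutator, h1]
  have h3 : (H2.conjAut hn).range = ⊥ := by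
    by_contra h
    exact not_solv le_rfl h h2 hs
  rw [MonoidHom.range_eq_bot_iff, ← MonoidHom.ker_eq_top_iff, H23.ker_conjAut, subgroupOf_eq_top] at h3
  exact h3

theorem card_aut {V : Subgroup G} (hV : E8 V) : Nat.card (MulAut V) = 168 := by
  haveI : Fact (Nat.Prime 2) := ⟨Nat.prime_two⟩
  obtain ⟨e⟩ := H23.nonempty_mulAut_equiv_GL (W := V) (p := 2) (n := 3)
    ⟨⟨fun a b => Subtype.ext (comm_of_sq hV.sq a.2 b.2)⟩⟩
    (fun w => Subtype.ext (by rw [pow_two]; exact hV.sq w w.2)) hV.card
  rw [Nat.card_congr e.toEquiv, Matrix.card_GL_field]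
  simp [Fin.prod_univ_three]

theorem basis_aux {A : Type*} [CommGroup A] [Finite A] [Module (ZMod 2) (Additive A)]
    (hc : Nat.card A = 8) {a b c : A} (hi : Ind a b c) (h2 : ∀ x : A, x * x = 1) :
    ∃ B : Module.Basis (Fin 3) (ZMod 2) (Additive A), B 0 = Additive.ofMul a ∧ B 1 = Additive.ofMul b ∧
      B 2 = Additive.ofMul c := by
  haveI : Module.Finite (ZMod 2) (Additive A) := Module.Finite.of_finite
  have hfr : Module.finrank (ZMod 2) (Additive A) = 3 := by
    have h1 := Module.natCard_eq_pow_finrank (K := ZMod 2) (V := Additive A)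
    rw [Nat.card_zmod, show Nat.card (Additive A) = Nat.card A from rfl, hc] at h1
    exact (Nat.pow_right_injective le_rfl (h1.symm.trans (by norm_num : 8 = 2 ^ 3)))
  obtain ⟨a1, b1, ba, c1, ca, cb, cab⟩ := hi
  have k2 : ∀ {x y : A}, x * y = 1 → y = x := fun {x y} e => mul_left_cancel (e.trans (h2 x).symm)
  have hli : LinearIndependent (ZMod 2) ![Additive.ofMul a, Additive.ofMul b, Additive.ofMul c] := by
    rw [Fintype.linearIndependent_iff]
    intro g hg
    rw [Fin.sum_univ_three] at hg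
    have k : ∀ s : ZMod 2, s = 0 ∨ s = 1 := by decide
    have hg' : g 0 • Additive.ofMul a + g 1 • Additive.ofMul b + g 2 • Additive.ofMul c = 0 := hg
    have key : g 0 = 0 ∧ g 1 = 0 ∧ g 2 = 0 := by
      rcases k (g 0) with e0 | e0 <;> rcases k (g 1) with e1 | e1 <;> rcases k (g 2) with e2 | e2 <;>
        rw [e0, e1, e2] at hg' <;> simp only [zero_smul, one_smul, zero_add, add_zero] at hg'
      · exact ⟨e0, e1, e2⟩
      · exact absurd hg' c1
      · exact absurd hg' b1
      · exact absurd (k2 (x := b) (y := c) hg') cb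
      · exact absurd hg' a1
      · exact absurd (k2 (x := a) (y := c) hg') ca
      · exact absurd (k2 (x := a) (y := b) hg') ba
      · exact absurd (k2 (x := a * b) (y := c) hg') cab
    intro i
    fin_cases i
    exacts [key.1, key.2.1, key.2.2]
  refine ⟨basisOfLinearIndependentOfCardEqFinrank hli (by rw [hfr]; simp), ?_, ?_, ?_⟩ <;>
    rw [coe_basisOfLinearIndependentOfCardEqFinrank] <;> rfl

theorem exists_aut {A : Type*} [Group A] [Finite A] (hc : Nat.card A = 8) (h2 : ∀ x : A, x * x = 1)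
    {a b c a' b' c' : A} (hi : Ind a b c) (hi' : Ind a' b' c') :
    ∃ f : MulAut A, f a = a' ∧ f b = b' ∧ f c = c' := by
  have hv : ∀ x : A, x⁻¹ = x := fun x => inv_eq_of_mul_eq_one_right (h2 x)
  letI : CommGroup A := { (inferInstance : Group A) with
    mul_comm := fun x y => by rw [← hv (x * y), mul_inv_rev, hv, hv] }
  letI : Module (ZMod 2) (Additive A) := AddCommGroup.zmodModule (n := 2) (fun x => by
    change Additive.ofMul (x.toMul ^ 2) = 0
    rw [pow_two, h2]; rfl)
  obtain ⟨B, h3, h4, h5⟩ := basis_aux hc hi h2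
  obtain ⟨B', h6, h7, h8⟩ := basis_aux hc hi' h2
  refine ⟨MulEquiv.toAdditive.symm (B.equiv B' (Equiv.refl _)).toAddEquiv, ?_, ?_, ?_⟩
  · change Additive.toMul (B.equiv B' (Equiv.refl _) (Additive.ofMul a)) = a'
    rw [← h3, Module.Basis.equiv_apply, Equiv.refl_apply, h6]; rfl
  · change Additive.toMul (B.equiv B' (Equiv.refl _) (Additive.ofMul b)) = b'
    rw [← h4, Module.Basis.equiv_apply, Equiv.refl_apply, h7]; rfl
  · change Additive.toMul (B.equiv B' (Equiv.refl _) (Additive.ofMul c)) = c'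
    rw [← h5, Module.Basis.equiv_apply, Equiv.refl_apply, h8]; rfl

theorem ind_coe {V : Subgroup G} {a b c : G} (ha : a ∈ V) (hb : b ∈ V) (hc : c ∈ V) (hi : Ind a b c) :
    Ind (⟨a, ha⟩ : V) ⟨b, hb⟩ ⟨c, hc⟩ := by
  obtain ⟨a1, b1, ba, c1, ca, cb, cab⟩ := hi
  exact ⟨fun e => a1 (congrArg Subtype.val e), fun e => b1 (congrArg Subtype.val e),
    fun e => ba (congrArg Subtype.val e), fun e => c1 (congrArg Subtype.val e),
    fun e => ca (congrArg Subtype.val e), fun e => cb (congrArg Subtype.val e),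
    fun e => cab (congrArg Subtype.val e)⟩

end B1'

variable {G : Type*} [Group G] [Finite G]

/-- a perfect group acting non-trivially on `E₈` induces `GL₃(2)`. -/
theorem full_of_perfect {V K : Subgroup G} (hV : E8 V) (hK : ⁅K, K⁆ = K) (hn : K ≤ 𝐍(V)) (hc : ¬ K ≤ 𝐂(V)) :
    Full V := by
  have htop : (H2.conjAut hn).range = ⊤ := by
    by_contra h
    have e := card_mul_index (H2.conjAut hn).range
    have a1 := one_lt_index_of_ne_top h
    rw [B1'.card_aut hV] at e
    refine hc (B1'.cent_of_solv hK hn (B1'.solv100 _ _ rfl (by nlinarith) fun h5 => ?_))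
    have : 5 ∣ 168 := e ▸ h5.mul_right _
    omega
  intro a ha b hb c hc a' ha' b' hb' c' hc' hi hi'
  obtain ⟨f, h1, h2, h3⟩ := B1'.exists_aut (A := V) hV.card (fun x => Subtype.ext (hV.sq x x.2))
    (B1'.ind_coe ha hb hc hi) (B1'.ind_coe ha' hb' hc' hi')
  obtain ⟨k, rfl⟩ := MonoidHom.range_eq_top.1 htop f
  exact ⟨k, hn k.2, congrArg Subtype.val h1, congrArg Subtype.val h2, congrArg Subtype.val h3⟩

/-- a perfect group normalising an elementary abelian group of order at most 4 centralises it. -/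
theorem cent_of_le_four {V K : Subgroup G} (hV : ∀ a ∈ V, a * a = 1) (h4 : Nat.card V ≤ 4) (hK : ⁅K, K⁆ = K)
    (hn : K ≤ 𝐍(V)) : K ≤ 𝐂(V) := by
  have h1 : Nat.card (H2.conjAut hn).range ∣ Nat.card (Equiv.Perm V) :=
    (card_subgroup_dvd_card _).trans (Subgroup.card_dvd_of_injective (MulAut.toPerm V)
      fun f g e => MulEquiv.ext fun x => congrArg (fun s : Equiv.Perm V => s x) e)
  rw [Nat.card_perm] at h1
  have h2 : Nat.card (H2.conjAut hn).range ∣ 24 := h1.trans (Nat.factorial_dvd_factorial h4)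
  refine B1'.cent_of_solv hK hn (B1'.solv100 _ _ rfl ((Nat.le_of_dvd (by norm_num) h2).trans (by norm_num))
    fun h5 => ?_)
  have := h5.trans h2
  omega

/-- a non-solvable subgroup contains a non-trivial perfect subgroup. -/
theorem exists_perfect {N : Subgroup G} (h : ¬ Group.IsSolvable N) : ∃ K ≤ N, K ≠ ⊥ ∧ ⁅K, K⁆ = K := by
  rw [Group.isSolvable_iff_commutator_lt] at h
  push Not at h
  obtain ⟨H, h1, h2⟩ := h
  have h3 : ⁅H, H⁆ = H := by
    by_contra h4
    exact h2 (lt_of_le_of_ne (commutator_le.2 fun a ha b hb =>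
      mul_mem (mul_mem (mul_mem ha hb) (inv_mem ha)) (inv_mem hb)) h4)
  refine ⟨H.map N.subtype, map_subtype_le _, fun e => h1 ((map_eq_bot_iff_of_injective _ N.subtype_injective).1 e), ?_⟩
  rw [← map_commutator, h3]

theorem not_solv_of_perfect {N K : Subgroup G} (h : K ≤ N) (h1 : K ≠ ⊥) (hK : ⁅K, K⁆ = K) :
    ¬ Group.IsSolvable N :=
  B1'.not_solv h h1 hK

end H22.RK
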