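import Mathlib
import Cfsg.Agent.Lib.Rk3C.Defs
import Cfsg.Agent.Lib.Comp.PConstrained
import Cfsg.Agent.Lib.FGS.TwoOrbits

/-!
If `O₂(C(z))` is not of symplectic type, `C(z)` has a non-cyclic normal elementary abelian subgroup.
-/

set_option autoImplicit false
set_option linter.unusedSectionVars false
set_option linter.unusedVariables false

namespace H22.RK

open Subgroup H69 H70 Cfsg
open scoped commutatorElement Pointwise

variable {G : Type*} [Group G] [Finite G]

open Classical in
/-- the reflection in an element whose square generates `[Q, y]`. -/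
theorem exists_refl {Q : Type*} [Group Q] [Finite Q] {y z : Q} (z2 : z * z = 1) (zc : ∀ q, q * z = z * q)
    (yy : y * y = z) (h : ∀ q, q * y = y * q ∨ q * y = z * (y * q)) :
    ∃ r : Q ≃* Q, ∀ q, q * y ≠ y * q → r q = q * y := by
  let f : Q →* Q := MonoidHom.mk' (fun q => if q * y = y * q then q else q * y) fun a b => by
    by_cases ha : a * y = y * a <;> by_cases hb : b * y = y * b
    · have : a * b * y = y * (a * b) := by rw [mul_assoc, hb, ← mul_assoc, ha, mul_assoc]
      simp only [ha, hb, this, if_true]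
    · have : ¬ a * b * y = y * (a * b) := fun e => hb (by
        rw [← mul_assoc, ← ha, mul_assoc, mul_assoc] at e; exact mul_left_cancel e)
      simp only [ha, hb, this, if_true, if_false, mul_assoc]
      rw [if_neg (by simpa only [mul_assoc] using this)]
    · have : ¬ a * b * y = y * (a * b) := fun e => ha (by
        rw [mul_assoc, hb, ← mul_assoc, ← mul_assoc] at e; exact mul_right_cancel e)
      rw [if_neg this, if_neg ha, if_pos hb, mul_assoc, hb, mul_assoc]
    · have ha' := (h a).resolve_left ha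
      have hb' := (h b).resolve_left hb
      have : a * b * y = y * (a * b) := by
        rw [mul_assoc, hb', ← mul_assoc, zc a, mul_assoc, ← mul_assoc a, ha', ← mul_assoc, ← mul_assoc, z2,
          one_mul, mul_assoc]
      rw [if_pos this, if_neg ha, if_neg hb, hb', mul_assoc, ← mul_assoc y, zc y, mul_assoc z, ← mul_assoc y, yy,
        ← mul_assoc z, z2, one_mul]
  have hf : Function.Injective f := (injective_iff_map_eq_one f).2 fun a ha => by
    by_cases h1 : a * y = y * a
    · simpa [f, h1] using ha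
    · have h2 : a * y = 1 := by simpa [f, h1] using ha
      exact absurd (by rw [h2, mul_eq_one_comm.1 h2]) h1
  exact ⟨MulEquiv.ofBijective f (Finite.injective_iff_bijective.1 hf), fun q hq => by simp [f, hq]⟩

theorem chrz_of_ct (hc : IsCharacteristicTwoType G) {z : G} (hz : orderOf z = 2) :
    CharP 2 (centralizer ({z} : Set G)) := by
  obtain ⟨z2, z1⟩ := sq_of_orderOf hz
  rw [← H69.centralizer_zpowers]
  exact (charP_iff.2 (hc.2 _ (isP_of_sq (sq_zpowers z2)) (by rwa [Ne, zpowers_eq_bot]))).of_normal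
    (centralizer_le_normalizer _) (H69.normalizer_le_normalizer_centralizer _)

theorem fstar_eq {C : Subgroup G} (h : CharP 2 C) : generalizedFittingSubgroup C = pCore 2 C :=
  H23.fStar_eq_pCore_iff.2 (charP_iff.1 h)

theorem mem_O2_cent {z : G} (z2 : z * z = 1) : z ∈ 𝐎(centralizer ({z} : Set G)) :=
  le_pCoreOf (isP_of_sq (sq_zpowers z2)) (zpowers_le_of_mem (mem_centralizer_singleton_iff.2 rfl))
    (le_normalizer_of_le_centralizer (H69.centralizer_zpowers z).ge) (mem_zpowers z)

theorem exists_cw {z : G} (hc : CharP 2 (centralizer ({z} : Set G))) (hz : orderOf z = 2)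
    (hn : ¬ IsOfSymplecticType (generalizedFittingSubgroup (centralizer ({z} : Set G)))) : ∃ W, CW z W := by
  obtain ⟨z2, z1⟩ := sq_of_orderOf hz
  rw [fstar_eq hc] at hn
  set C := centralizer ({z} : Set G) with hC
  have hP : IsPGroup 2 (pCore 2 C) := isPGroup_pCore 2 C
  obtain ⟨A, hA, hcm, hcy⟩ : ∃ A : Subgroup (pCore 2 C), A.Characteristic ∧ IsMulCommutative A ∧ ¬ IsCyclic A := by
    by_contra h
    push Not at h
    exact hn ⟨hP, h⟩
  have : (pCore 2 C).Normal := by
    rw [← pCoreOf_subgroupOf]; exact nrm (le_normalizer_pCoreOf 2 C)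
  let ι : pCore 2 C →* G := C.subtype.comp (pCore 2 C).subtype
  have hι : Function.Injective ι := C.subtype_injective.comp (pCore 2 C).subtype_injective
  have hr : ∀ q ∈ 𝐎(C), ∃ a, ι a = q := by
    rintro _ ⟨a, ha, rfl⟩
    exact ⟨⟨a, ha⟩, rfl⟩
  have hO : ∀ a, ι a ∈ 𝐎(C) := fun a => ⟨a.1, a.2, rfl⟩
  have cm : ∀ a ∈ A, ∀ b ∈ A, a * b = b * a := fun a ha b hb =>
    congrArg Subtype.val (hcm.1.1 (⟨a, ha⟩ : A) ⟨b, hb⟩)
  let W0 : Subgroup G :=
    { carrier := {x | x ∈ A.map ι ∧ x * x = 1}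
      one_mem' := ⟨one_mem _, mul_one _⟩
      mul_mem' := by
        rintro _ _ ⟨⟨a, ha, rfl⟩, h1⟩ ⟨⟨b, hb, rfl⟩, h2⟩
        refine ⟨mul_mem ⟨a, ha, rfl⟩ ⟨b, hb, rfl⟩, ?_⟩
        have : ι b * ι a = ι a * ι b := by rw [← map_mul, ← map_mul, cm b hb a ha]
        rw [mul_assoc, ← mul_assoc (ι b), this, mul_assoc, h2, mul_one, h1]
      inv_mem' := fun {x} hx => by rwa [inv_of_sq hx.2] }
  have hW0 : W0 ≤ 𝐎(C) := by
    rintro _ ⟨⟨a, ha, rfl⟩, -⟩
    exact hO a
  have zc : z ∈ 𝐂(W0) := mem_centralizer_iff_commute.2 fun a ha =>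
    mem_centralizer_singleton_iff.1 (pCoreOf_le 2 C (hW0 ha))
  have nW : C ≤ 𝐍(W0) := le_normalizer_of_cj_le fun g hg x hx => by
    obtain ⟨_, ⟨⟨a, ha, rfl⟩, h1⟩, rfl⟩ := mem_cj'.1 hx
    refine ⟨⟨MulAut.conjNormal (⟨g, hg⟩ : C) a, ?_, rfl⟩, ?_⟩
    · rw [← hA.fixed (MulAut.conjNormal (⟨g, hg⟩ : C))] at ha
      exact ha
    · calc g * ι a * g⁻¹ * (g * ι a * g⁻¹) = g * (ι a * ι a) * g⁻¹ := by group
        _ = 1 := by rw [h1]; group
  refine ⟨W0 ⊔ zpowers z, z1, mem_sup_right (mem_zpowers z), sq_adj (fun a ha => ha.2) z2 zc, ?_,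
    sup_le hW0 (zpowers_le_of_mem (mem_O2_cent z2)),
    H69.le_normalizer_sup nW (le_normalizer_of_le_centralizer (H69.centralizer_zpowers z).ge), ?_⟩
  · by_contra h
    push Not at h
    obtain ⟨z', hz'⟩ := hr z (mem_O2_cent z2)
    apply hcy
    letI : CommGroup A := { (inferInstance : Group A) with mul_comm := hcm.1.1 }
    by_cases hzA : z' ∈ A
    · refine H78.TwoOrbits.isCyclic_of_unique_invol (hP.to_subgroup A) ⟨z', hzA⟩ fun a ha => ?_
      by_cases h1 : ι a = 1
      · exact .inl (Subtype.ext (hι (h1.trans (map_one ι).symm)))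
      · exact .inr (Subtype.ext (hι ((h _ (mem_sup_left ⟨⟨a, a.2, rfl⟩, by
          rw [← map_mul, ← coe_mul, ha, coe_one, map_one]⟩) h1).trans hz'.symm)))
    · refine H78.TwoOrbits.isCyclic_of_unique_invol (hP.to_subgroup A) 1 fun a ha => ?_
      by_cases h1 : ι a = 1
      · exact .inl (Subtype.ext (hι (h1.trans (map_one ι).symm)))
      · exact absurd (hι ((h _ (mem_sup_left ⟨⟨a, a.2, rfl⟩, by
          rw [← map_mul, ← coe_mul, ha, coe_one, map_one]⟩) h1).trans hz'.symm) ▸ a.2) hzA
  · intro y hy yy hq w hw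
    have zy : z * y = y * z := (mem_centralizer_singleton_iff.1 (pCoreOf_le 2 C hy)).symm
    have key : ∀ w ∈ W0, w * y = y * w := by
      rintro _ ⟨⟨a, ha, rfl⟩, -⟩
      obtain ⟨y', rfl⟩ := hr y hy
      obtain ⟨z', hz'⟩ := hr z (mem_O2_cent z2)
      obtain ⟨r, hr'⟩ := exists_refl (y := y') (z := z') (hι (by rw [map_mul, hz', z2, map_one]))
        (fun q => hι (by
          rw [map_mul, map_mul, hz']; exact mem_centralizer_singleton_iff.1 (pCoreOf_le 2 C (hO q))))
        (hι (by rw [map_mul, hz', yy])) fun q => (hq _ (hO q)).imp (fun e => hι (by rw [map_mul, map_mul, e]))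
          fun e => hι (by rw [map_mul, map_mul, map_mul, hz', e])
      by_contra hne
      have h1 : a * y' ≠ y' * a := fun e => hne (by rw [← map_mul, e, map_mul])
      have h2 : r a ∈ A := by
        rw [← hA.fixed r] at ha
        exact ha
      rw [hr' a h1] at h2
      exact h1 (cm a ha y' (by simpa using mul_mem (inv_mem ha) h2))
    rcases (mem_adj z2 zc).1 hw with h | h
    · exact key w h
    · have := key _ h
      rw [mul_assoc, zy, ← mul_assoc, ← mul_assoc] at this
      exact mul_right_cancel this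

theorem CW.four_le {z : G} {W : Subgroup G} (h : CW z W) : 4 ≤ Nat.card W := by
  obtain ⟨t, ht, t1, tz⟩ := h.big
  rw [← card_sp2 (h.sq z h.mem) (h.sq t ht) (comm_of_sq h.sq h.mem ht) h.z1 t1 tz]
  exact card_le_of_le (sup_le (zpowers_le_of_mem h.mem) (zpowers_le_of_mem ht))

/-- either some `F*(C(z))` is of symplectic type or every involution has a subgroup `W`. -/
theorem sy_or_cw (hc : IsCharacteristicTwoType G) : Sy G ∨ ∀ z : G, z * z = 1 → z ≠ 1 → ∃ W, CW z W := by
  by_cases h : Sy G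
  · exact .inl h
  · exact .inr fun z z2 z1 => exists_cw (chrz_of_ct hc (orderOf_two z2 z1)) (orderOf_two z2 z1)
      fun hs => h ⟨z, orderOf_two z2 z1, hs⟩

end H22.RK
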