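import Mathlib
import Cfsg.Agent.Lib.Rk3C.NS
import Cfsg.Agent.Lib.Rk3C.B1

/-!
2-rank 3: interfaces for the case of a non-solvable involution centraliser (see `blueprint/RK3C2.md`).
-/

set_option autoImplicit false
set_option linter.unusedSectionVars false
set_option linter.unusedVariables false

namespace H22.RK

open Subgroup H69 H70 Cfsg
open scoped commutatorElement Pointwise

universe u

section LA

variable {X U W : Type*} [Group X] [AddCommGroup U] [AddCommGroup W] [DistribMulAction X U]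

/-- an `X`-invariant quadratic map `q` with polar form `B` between `𝔽₂`-spaces. -/
structure QS (X : Type*) [Group X] [DistribMulAction X U] (q : U → W) (B : U →+ U →+ W) : Prop where
  u2 : ∀ u : U, u + u = 0
  w2 : ∀ w : W, w + w = 0
  add : ∀ u v, q (u + v) = q u + q v + B u v
  inv : ∀ (x : X) (u : U), q (x • u) = q u

/-- no totally singular 2-space. -/
def TS (q : U → W) : Prop := ∀ u v, q u = 0 → q v = 0 → q (u + v) = 0 → u = 0 ∨ v = 0 ∨ u = v

/-- `K` centralises every proper `X`-invariant subgroup of `U`. -/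
def Mn (K : Subgroup X) (U : Type*) [AddCommGroup U] [DistribMulAction X U] : Prop :=
  ∀ N : AddSubgroup U, (∀ x : X, ∀ u ∈ N, x • u ∈ N) → N ≠ ⊤ → ∀ k ∈ K, ∀ u ∈ N, k • u = u

/-- `x` acts with order 5, `m` is a regular orbit with sum `0`, and `U = ⟨m⟩ ⊕ C_U(x)`. -/
structure Pent (x : X) (m : Fin 5 → U) : Prop where
  x5 : ∀ u : U, x ^ 5 • u = u
  cyc : ∀ i, x • m i = m (i + 1)
  sum : m 0 + m 1 + m 2 + m 3 + m 4 = 0
  ne : m 0 ≠ 0
  dec : ∀ u : U, ∃ c, x • c = c ∧ (u = c ∨ (∃ i, u = m i + c) ∨ ∃ i j, i ≠ j ∧ u = m i + m j + c)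

variable {q : U → W} {B : U →+ U →+ W}

theorem QS.zero (h : QS X q B) : q 0 = 0 := by
  have := h.add 0 0
  simpa using this

theorem QS.alt (h : QS X q B) (u : U) : B u u = 0 := by
  have := h.add u u
  rwa [h.u2, h.zero, h.w2, zero_add, eq_comm] at this

theorem QS.symm (h : QS X q B) (u v : U) : B u v = B v u := by
  have := (h.add u v).symm.trans ((congrArg q (add_comm u v)).trans (h.add v u))
  rw [add_comm (q v)] at this
  exact add_left_cancel this

theorem QS.invB (h : QS X q B) (x : X) (u v : U) : B (x • u) (x • v) = B u v := by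
  have := h.add (x • u) (x • v)
  rw [← smul_add, h.inv, h.inv, h.inv, h.add] at this
  exact (add_left_cancel this).symm

end LA

/-- a multiplicative functional relation gives a permutation action on five points. -/
theorem exists_perm {K : Type*} [Group K] (R : K → Fin 5 → Fin 5 → Prop) (ex : ∀ k i, ∃ j, R k i j)
    (uq : ∀ k i j j', R k i j → R k i j' → j = j') (one : ∀ i, R 1 i i)
    (mul : ∀ k l i j n, R l i j → R k j n → R (k * l) i n) :
    ∃ φ : K →* Equiv.Perm (Fin 5), ∀ k i, R k i (φ k i) := by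
  choose f hf using ex
  letI : MulAction K (Fin 5) :=
    { smul := f
      one_smul := fun i => uq 1 i _ _ (hf 1 i) (one i)
      mul_smul := fun k l i => uq (k * l) i _ _ (hf _ i) (mul k l i _ _ (hf l i) (hf k _)) }
  exact ⟨MulAction.toPermHom K (Fin 5), hf⟩

theorem solv59 : ∀ (n : ℕ) (X : Type u) [Group X] [Finite X], Nat.card X = n → n < 60 → Group.IsSolvable X := by
  intro n
  induction n using Nat.strong_induction_on with
  | _ n ih =>
  intro X _ _ hn h100
  rcases subsingleton_or_nontrivial X with h | h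
  · infer_instance
  by_cases hs : IsSimpleGroup X
  · by_cases hc : IsCyclic X
    · exact Group.isSolvable_of_comm fun a b => (IsCyclic.isMulCommutative).is_comm.comm a b
    · have := Cfsg.Agent.S0493.result hc (by omega)
      omega
  · obtain ⟨N, hN, h1, h2⟩ : ∃ N : Subgroup X, N.Normal ∧ N ≠ ⊥ ∧ N ≠ ⊤ := by
      by_contra hc
      push Not at hc
      exact hs ⟨fun N hN => by
        by_cases h : N = ⊥
        · exact Or.inl h
        · exact Or.inr (hc N hN h)⟩
    have e := card_mul_index N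
    have a1 := one_lt_index_of_ne_top h2
    have a2 := (one_lt_card_iff_ne_bot N).2 h1
    have := ih (Nat.card N) (by nlinarith) N rfl (by nlinarith)
    have := ih N.index (by nlinarith) (X ⧸ N) rfl (by nlinarith)
    exact Group.isSolvable_of_ker_le_range N.subtype (QuotientGroup.mk' N) (by simp)

/-- a non-trivial image of a perfect group in `S₅` is `A₅`. -/
theorem perf5 {X : Type*} [Group X] {K : Subgroup X} (hK : ⁅K, K⁆ = K) (φ : X →* Equiv.Perm (Fin 5)) :
    (∀ k ∈ K, Equiv.Perm.sign (φ k) = 1) ∧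
      ((∃ k ∈ K, φ k ≠ 1) → ∀ σ, Equiv.Perm.sign σ = 1 → ∃ k ∈ K, φ k = σ) := by
  have hp : ⁅K.map φ, K.map φ⁆ = K.map φ := by rw [← map_commutator, hK]
  have hle : K.map φ ≤ alternatingGroup (Fin 5) := by
    rw [← hp, commutator_le]
    intro a _ b _
    rw [Equiv.Perm.mem_alternatingGroup, map_commutatorElement, commutatorElement_eq_one_iff_mul_comm, mul_comm]
  refine ⟨fun k hk => Equiv.Perm.mem_alternatingGroup.1 (hle ⟨k, hk, rfl⟩), fun ⟨k, hk, h1⟩ σ hσ => ?_⟩
  have hb : K.map φ ≠ ⊥ := fun e => h1 (mem_bot.1 (e ▸ (⟨k, hk, rfl⟩ : φ k ∈ K.map φ)))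
  have hns := B1'.not_solv le_rfl hb hp
  have hc : Nat.card (alternatingGroup (Fin 5)) = 60 := by
    rw [nat_card_alternatingGroup]; simp [Nat.factorial]
  have : K.map φ = alternatingGroup (Fin 5) := by
    refine eq_of_le_of_card_ge hle ?_
    by_contra hlt
    exact hns (solv59 _ _ rfl (by omega))
  have h2 : σ ∈ K.map φ := this ▸ Equiv.Perm.mem_alternatingGroup.2 hσ
  exact h2

variable {G : Type*} [Group G]

/-- the largest perfect subgroup of `L`. -/
def pc (L : Subgroup G) : Subgroup G := sSup {P | P ≤ L ∧ ⁅P, P⁆ = P}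

theorem pc_le (L : Subgroup G) : pc L ≤ L := sSup_le fun _ h => h.1

theorem le_pc {L P : Subgroup G} (h : P ≤ L) (hP : ⁅P, P⁆ = P) : P ≤ pc L := le_sSup ⟨h, hP⟩

theorem pc_perf (L : Subgroup G) : ⁅pc L, pc L⁆ = pc L :=
  le_antisymm (commutator_le_of_le le_rfl le_rfl) (sSup_le fun P h =>
    h.2.ge.trans (commutator_mono (le_pc h.1 h.2) (le_pc h.1 h.2)))

theorem cj_perf {P : Subgroup G} (hP : ⁅P, P⁆ = P) (g : G) : ⁅P ^ᶜ g, P ^ᶜ g⁆ = P ^ᶜ g := by
  rw [← cj_commutator, hP]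

theorem cj_pc (L : Subgroup G) (g : G) : pc L ^ᶜ g = pc (L ^ᶜ g) :=
  le_antisymm (le_pc (cj_mono g (pc_le L)) (cj_perf (pc_perf L) g))
    (le_cj_iff.2 (le_pc (le_cj_iff.1 (pc_le _)) (cj_perf (pc_perf _) _)))

theorem norm_pc (L : Subgroup G) : 𝐍(L) ≤ 𝐍(pc L) :=
  normalizer_le_normalizer_of_cj fun g hg => by rw [cj_pc, hg]

/-- a perfect group with `[D, K, K] = 1` centralises `D`. -/
theorem cent_of_perf {D K : Subgroup G} (hK : ⁅K, K⁆ = K) (h : ⁅D, K⁆ ≤ 𝐂(K)) : K ≤ 𝐂(D) :=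
  hK.ge.trans (three_subgroups_cent (by rwa [commutator_comm]) h)

/-- a perfect group normalising an `E₈` and fixing one of its involutions centralises it. -/
theorem cent_of_fix [Finite G] {V K : Subgroup G} (hV : E8 V) (hK : ⁅K, K⁆ = K) (hn : K ≤ 𝐍(V)) {s : G}
    (hs : s ∈ V) (s1 : s ≠ 1) (hc : K ≤ centralizer {s}) : K ≤ 𝐂(V) := by
  have h : (H2.conjAut hn).range ≠ ⊤ := fun htop => by
    obtain ⟨b, hb, c, hc', hi⟩ := hV.ext2 hs s1
    obtain ⟨c', hc'', hi'⟩ := hV.ext3 hb hs hi.2.1 s1 hi.2.2.1.symm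
    obtain ⟨f, h1, -, -⟩ := B1'.exists_aut (A := V) hV.card (fun x => Subtype.ext (hV.sq x x.2))
      (B1'.ind_coe hs hb hc' hi) (B1'.ind_coe hb hs hc'' hi')
    obtain ⟨k, rfl⟩ := MonoidHom.range_eq_top.1 htop f
    have h2 : (k : G) * s * (k : G)⁻¹ = b := congrArg Subtype.val h1
    rw [mem_centralizer_singleton_iff.1 (hc k.2), mul_inv_cancel_right] at h2
    exact hi.2.2.1 h2.symm
  have e := card_mul_index (H2.conjAut hn).range
  have a1 := one_lt_index_of_ne_top h
  rw [B1'.card_aut hV] at e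
  refine B1'.cent_of_solv hK hn (B1'.solv100 _ _ rfl (by nlinarith) fun h5 => ?_)
  have : 5 ∣ 168 := e ▸ h5.mul_right _
  omega

/-- `D / W` is elementary abelian, `W` is elementary and central, `L` normalises `D` and centralises `W`. -/
structure Adm (W D L : Subgroup G) : Prop where
  WD : W ≤ D
  w2 : ∀ w ∈ W, w * w = 1
  sq : ∀ d ∈ D, d * d ∈ W
  cen : D ≤ 𝐂(W)
  LW : L ≤ 𝐂(W)
  LD : L ≤ 𝐍(D)

/-- no two commuting involutions of `D` are independent modulo `W`. -/
def TSG (W D : Subgroup G) : Prop :=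
  ∀ d ∈ D, ∀ e ∈ D, d * d = 1 → e * e = 1 → d * e = e * d → d ∈ W ∨ e ∈ W ∨ d * e ∈ W

/-- `K` centralises every proper `L`-invariant subgroup of `D` containing `W`. -/
def MnG (W D L K : Subgroup G) : Prop := ∀ N : Subgroup G, W ≤ N → N < D → L ≤ 𝐍(N) → K ≤ 𝐂(N)

/-- generators of an extraspecial group `2^{1+4}_-` with centre `z`. -/
structure Es (z : G) (a : Fin 5 → G) : Prop where
  z1 : z ≠ 1
  z2 : z * z = 1
  zc : ∀ i, z * a i = a i * z
  sq : ∀ i, a i * a i = 1
  cm : ∀ i j, i ≠ j → a i * a j = z * (a j * a i)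
  prod : a 0 * a 1 * a 2 * a 3 * a 4 = 1 ∨ a 0 * a 1 * a 2 * a 3 * a 4 = z

/-- a pre-frame: `D = W ⟨a⟩`, and `x ∈ K` permutes the generators cyclically. -/
structure PF (W K D : Subgroup G) (z x : G) (a : Fin 5 → G) : Prop where
  es : Es z a
  zW : z ∈ W
  mem : ∀ i, a i ∈ D
  memK : ∀ i, a i ∈ K
  xK : x ∈ K
  xo : Odd (orderOf x)
  xa : ∀ i, x * a i * x⁻¹ = a (i + 1)
  gen : ∀ d ∈ D, ∃ w ∈ W, d = w ∨ (∃ i, d = a i * w) ∨ ∃ i j, i ≠ j ∧ d = a i * a j * w

/-- `h` maps `a i` to `a j` modulo `z`. -/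
def Mp (z : G) (a : Fin 5 → G) (h : G) (i j : Fin 5) : Prop :=
  h * a i * h⁻¹ = a j ∨ h * a i * h⁻¹ = z * a j

/-- `h` induces the permutation `σ` on the five singular points. -/
def Act (z : G) (a : Fin 5 → G) (h : G) (σ : Equiv.Perm (Fin 5)) : Prop := ∀ i, Mp z a h i (σ i)

/-- a frame: `K` is perfect of shape `2^{1+4}_- . A₅` modulo a central subgroup. -/
structure Fr (K : Subgroup G) (z : G) (a : Fin 5 → G) : Prop where
  es : Es z a
  perf : ⁅K, K⁆ = K
  mem : ∀ i, a i ∈ K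
  zc : z ∈ 𝐂(K)
  act : ∀ k ∈ K, ∀ i, ∃ j, Mp z a k i j
  cent : ∀ k ∈ K, (∀ i, k * a i = a i * k) → k ∈ 𝐂(K)

/-- the extraspecial group of a frame. -/
def Eg (a : Fin 5 → G) : Subgroup G := closure (Set.range a)

/-- a frame with `C(z) ≤ N(K)` together with a characteristic four-subgroup of `O₂(C(z))`. -/
structure Gd (K : Subgroup G) (z : G) (a : Fin 5 → G) (W : Subgroup G) : Prop where
  fr : Fr K z a
  cw : CW z W
  card : Nat.card W = 4
  WK : W ≤ 𝐂(K)
  norm : centralizer {z} ≤ 𝐍(K)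

/-- the elements of a four-group. -/
theorem cases4 [Finite G] {W : Subgroup G} (hW : ∀ w ∈ W, w * w = 1) (h4 : Nat.card W = 4) {z t w : G}
    (hz : z ∈ W) (ht : t ∈ W) (z1 : z ≠ 1) (t1 : t ≠ 1) (tz : t ≠ z) (hw : w ∈ W) :
    w = 1 ∨ w = z ∨ w = t ∨ w = z * t := by
  have zt := comm_of_sq hW hz ht
  rw [← eq_of_le_of_card_ge (H := zpowers z ⊔ zpowers t) (sup_le (zpowers_le_of_mem hz) (zpowers_le_of_mem ht))
    (by rw [h4, card_sp2 (hW z hz) (hW t ht) zt z1 t1 tz])] at hw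
  exact (mem_sp2 (hW z hz) (hW t ht) zt).1 hw

end H22.RK
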