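import Mathlib
import Cfsg.Agent.Lib.Rk3C.Fr
import Cfsg.Agent.Lib.Elusive.CW
import Cfsg.Agent.S0144

/-! Quadratic maps over the field with two elements: size bounds and elements of order five. -/

set_option autoImplicit false
set_option linter.unusedSectionVars false
set_option linter.unusedVariables false

namespace H22.RK

open Subgroup H69 H70 Cfsg
open scoped commutatorElement Pointwise

variable {X U W : Type*} [Group X] [AddCommGroup U] [AddCommGroup W] [DistribMulAction X U] [Finite U] [Finite W]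
  {q : U → W} {B : U →+ U →+ W}

namespace LA1'

theorem q_nsmul (h : QS X q B) (u : U) : ∀ n : ℕ, q (n • u) = (n * n) • q u
  | 0 => by rw [zero_smul, h.zero, mul_zero, zero_smul]
  | n + 1 => by
    rw [succ_nsmul, h.add, q_nsmul h u n, map_nsmul, AddMonoidHom.nsmul_apply, h.alt, smul_zero, add_zero,
      show (n + 1) * (n + 1) = n * n + 1 + n * 2 by ring, add_nsmul, add_nsmul, mul_nsmul' _ n 2, two_nsmul,
      h.w2, smul_zero, add_zero, one_nsmul]

theorem card_pow (u2 : ∀ u : U, u + u = 0) (M : AddSubgroup U) : ∃ n, Nat.card M = 2 ^ n := by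
  let _ : Module (ZMod 2) M := AddCommGroup.zmodModule fun x => Subtype.ext (by
    rw [two_nsmul]; exact u2 x)
  exact ⟨_, (Module.natCard_eq_pow_finrank (K := ZMod 2) (V := M)).trans (by rw [Nat.card_zmod])⟩

theorem card_mod {p : ℕ} (hp : p.Prime) {x : X} (h : ∀ u : U, x ^ p • u = u) {M : AddSubgroup U}
    (hM : ∀ u ∈ M, x • u ∈ M) (hf : ∀ u ∈ M, x • u = u → u = 0) : Nat.card M ≡ 1 [MOD p] := by
  classical
  have := Fintype.ofFinite M
  let f : Function.End M := fun u => ⟨x • u, hM u u.2⟩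
  have e : ∀ n (u : M), ((f ^ n) u : U) = x ^ n • (u : U) := fun n => by
    induction n with
    | zero => intro u; rw [pow_zero, pow_zero, one_smul]; rfl
    | succ n ih =>
      intro u
      rw [pow_succ, pow_succ, mul_smul]
      exact ih (f u)
  have h1 := Equiv.Perm.card_fixedPoints_modEq (f := f) (n := 1) (hp := ⟨hp⟩)
    (funext fun u => Subtype.ext ((e _ u).trans (by rw [pow_one]; exact h u)))
  rw [← Nat.card_eq_fintype_card, ← Nat.card_eq_fintype_card] at h1
  rwa [show Nat.card f.fixedPoints = 1 from Nat.card_eq_one_iff_exists.2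
    ⟨⟨0, Subtype.ext (smul_zero x)⟩, fun y => Subtype.ext (Subtype.ext
      (hf _ y.1.2 (congrArg Subtype.val y.2)))⟩] at h1

/-- the trace map -/
def tr (x : X) (p : ℕ) : U →+ U := ∑ i ∈ Finset.range p, DistribSMul.toAddMonoidHom U (x ^ i)

theorem tr_apply (x : X) (p : ℕ) (u : U) : tr x p u = ∑ i ∈ Finset.range p, x ^ i • u :=
  AddMonoidHom.finsetSum_apply _ _ _

variable {x : X} {p : ℕ}

theorem tr_smul (h : ∀ u : U, x ^ p • u = u) (u : U) : tr x p (x • u) = tr x p u := by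
  have e := (Finset.sum_range_succ (fun i => x ^ i • u) p).symm.trans (Finset.sum_range_succ' _ p)
  rw [h, pow_zero, one_smul] at e
  simp only [tr_apply, ← mul_smul, ← pow_succ]
  exact (add_right_cancel e).symm

theorem smul_tr (h : ∀ u : U, x ^ p • u = u) (u : U) : x • tr x p u = tr x p u := by
  refine Eq.trans ?_ (tr_smul h u)
  rw [tr_apply, tr_apply, Finset.smul_sum]
  simp only [← mul_smul, ← pow_succ, ← pow_succ']

theorem tr_fix (u2 : ∀ u : U, u + u = 0) (hp : Odd p) {c : U} (h : x • c = c) : tr x p c = c := by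
  have : ∀ i : ℕ, x ^ i • c = c := fun i => pow_mem (MulAction.mem_stabilizer_iff.2 h) i
  obtain ⟨k, rfl⟩ := hp
  simp only [tr_apply, this, Finset.sum_const, Finset.card_range]
  rw [succ_nsmul, two_mul, add_nsmul, u2, zero_add]

theorem ker_inv (h : ∀ u : U, x ^ p • u = u) : ∀ u ∈ (tr x p : U →+ U).ker, x • u ∈ (tr x p : U →+ U).ker :=
  fun u hu => (tr_smul h u).trans hu

theorem ker_fpf (u2 : ∀ u : U, u + u = 0) (hp : Odd p) : ∀ u ∈ (tr x p : U →+ U).ker, x • u = u → u = 0 :=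
  fun _ hu e => (tr_fix u2 hp e).symm.trans hu

theorem c16 (u2 : ∀ u : U, u + u = 0) (hc : Nat.card U ≤ 128) (h : ∀ u : U, x ^ 5 • u = u) {M : AddSubgroup U}
    (hM : ∀ u ∈ M, x • u ∈ M) (hf : ∀ u ∈ M, x • u = u → u = 0) : Nat.card M = 1 ∨ Nat.card M = 16 := by
  have h1 := card_mod Nat.prime_five h hM hf
  have h2 := (AddSubgroup.card_le_card_addGroup M).trans hc
  obtain ⟨n, hn⟩ := card_pow u2 M
  rw [hn] at h1 h2 ⊢
  have : n ≤ 7 := (Nat.pow_le_pow_iff_right (by norm_num)).1 (h2.trans_eq (by norm_num))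
  revert h1
  unfold Nat.ModEq
  interval_cases n <;> simp

theorem seven (h : QS X q B) {a b c : U} {k : W} (h1 : q a = k) (h2 : q b = k) (h3 : q c = k)
    (h4 : q (a + c) = k) (h5 : q (b + c) = k) (h6 : q (a + b) = k) (h7 : q (a + b + c) = k) : k = 0 := by
  rw [h.add, h1, h3, h.w2, zero_add] at h4
  rw [h.add, h2, h3, h.w2, zero_add] at h5
  rw [h.add, h6, h3, map_add, AddMonoidHom.add_apply, h4, h5, h.w2 k, zero_add] at h7
  exact h7.symm

theorem sub3 : ∀ c : Fin 5 → ZMod 2, ∃ d, (d = c ∨ d = c + fun _ => 1) ∧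
    (d = 0 ∨ (∃ i, d = Pi.single i 1) ∨ ∃ i j, i ≠ j ∧ d = Pi.single i 1 + Pi.single j 1) := by
  intro c
  have : (c = 0 ∨ (∃ i, c = Pi.single i 1) ∨ ∃ i j, i ≠ j ∧ c = Pi.single i 1 + Pi.single j 1) ∨
      ((c + fun _ => 1) = 0 ∨ (∃ i, (c + fun _ => 1) = Pi.single i 1) ∨
        ∃ i j, i ≠ j ∧ (c + fun _ => 1) = Pi.single i 1 + Pi.single j 1) := by
    revert c
    decide +kernel
  exact this.elim (fun a => ⟨_, Or.inl rfl, a⟩) fun a => ⟨_, Or.inr rfl, a⟩

theorem no7 (h : QS X q B) (ht : TS q) {u : U} (e : x • x • x • u = u + x • u ∨ x • x • x • u = u + x • x • u) :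
    x • u = u := by
  have i1 := h.inv x u
  have i2 := (h.inv x _).trans i1
  have i3 := (h.inv x _).trans i2
  have k : q (u + x • u) = q u ∧ q u = 0 := by
    rcases e with e | e <;> rw [e] at i3
    · have i4 := (h.inv x _).trans i3
      rw [smul_add] at i4
      have i5 := (h.inv x _).trans i4
      rw [smul_add, e, add_comm] at i5
      have i6 := (h.inv x _).trans i5
      rw [smul_add, smul_add, e, show x • u + x • x • u + (u + x • u) = u + x • x • u by
        linear_combination (norm := abel1) h.u2 (x • u)] at i6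
      exact ⟨i3, seven h rfl i1 i2 i6 i4 i3 i5⟩
    · have i4 := (h.inv x _).trans i3
      rw [smul_add, e, ← add_assoc, add_comm (x • u)] at i4
      have i5 := (h.inv x _).trans i4
      rw [smul_add, smul_add, e, show x • u + x • x • u + (u + x • x • u) = u + x • u by
        linear_combination (norm := abel1) h.u2 (x • x • u)] at i5
      have i6 := (h.inv x _).trans i5
      rw [smul_add] at i6
      exact ⟨i5, seven h rfl i1 i2 i3 i6 i5 i4⟩
  rcases ht u (x • u) k.2 (i1.trans k.2) (k.1.trans k.2) with e | e | e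
  · rw [e, smul_zero]
  · rw [(smul_eq_zero_iff_eq x).1 e, smul_zero]
  · exact e.symm

theorem noM (h : QS X q B) (ht : TS q) (hp : p.Prime) (h7 : 7 ≤ p) (hx : ∀ u : U, x ^ p • u = u)
    {M : AddSubgroup U} (hM : ∀ u ∈ M, x • u ∈ M) (hf : ∀ u ∈ M, x • u = u → u = 0)
    (hc : Nat.card M = p + 1) : False := by
  classical
  have ex : ∀ s : Finset U, s.card ≤ 4 → ∃ a ∈ M, a ∉ s := fun s hs => by
    by_contra hn
    push Not at hn
    have := Set.ncard_le_ncard (s := (M : Set U)) (t := s) hn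
    rw [Set.ncard_coe_finset] at this
    have : Nat.card M ≤ s.card := this
    omega
  obtain ⟨a, ha, a0⟩ := ex {0} (by simp)
  obtain ⟨b, hb, b0⟩ := ex {0, a} (Finset.card_le_two.trans (by norm_num))
  obtain ⟨c, hc', c0⟩ := ex {0, a, b, a + b} Finset.card_le_four
  simp only [Finset.mem_insert, Finset.mem_singleton, not_or] at a0 b0 c0
  have hm : Function.minimalPeriod (x • ·) a = p := by
    have : Fact p.Prime := ⟨hp⟩
    exact Function.minimalPeriod_eq_prime (by rw [Function.IsPeriodicPt, smul_iterate]; exact hx a)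
      fun e => a0 (hf a ha e)
  have hs : (fun i => (x • ·)^[i] a) '' Set.Iio p = (M : Set U) \ {0} := by
    refine Set.eq_of_subset_of_ncard_le ?_ ?_
    · rintro _ ⟨i, -, rfl⟩
      refine ⟨Function.Iterate.rec (· ∈ M) ha (fun u => hM u) i, ?_⟩
      simp only [smul_iterate]
      exact fun e => a0 ((smul_eq_zero_iff_eq _).1 e)
    · rw [Set.ncard_sdiff_singleton_of_mem M.zero_mem, ← hm,
        Function.iterate_injOn_Iio_minimalPeriod.ncard_image, hm]
      have : (M : Set U).ncard = p + 1 := hc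
      simp [this]
  have k : ∀ u ∈ M, u ≠ 0 → q u = q a := fun u hu u0 => by
    obtain ⟨i, -, rfl⟩ := hs.ge (⟨hu, u0⟩ : u ∈ (M : Set U) \ {0})
    simp only [smul_iterate]
    exact h.inv _ _
  have n : ∀ {u v : U}, v ≠ u → u + v ≠ 0 := fun {u v} e e' => e (by
    linear_combination (norm := abel1) e' - h.u2 u)
  have z := seven h rfl (k b hb b0.1) (k c hc' c0.1) (k _ (add_mem ha hc') (n c0.2.1))
    (k _ (add_mem hb hc') (n c0.2.2.1)) (k _ (add_mem ha hb) (n b0.2))
    (k _ (add_mem (add_mem ha hb) hc') (n c0.2.2.2))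
  rcases ht a b z ((k b hb b0.1).trans z) ((k _ (add_mem ha hb) (n b0.2)).trans z) with e | e | e
  exacts [a0 e, b0.1 e, b0.2 e.symm]

theorem big_prime {n : ℕ} (h0 : n ≠ 0) (h : ∀ a b, n ≠ 2 ^ a * 3 ^ b) :
    ∃ p, p.Prime ∧ p ≠ 2 ∧ p ≠ 3 ∧ p ∣ n := by
  obtain ⟨a, m, h2, rfl⟩ := Nat.exists_eq_pow_mul_and_not_dvd h0 2 (by norm_num)
  obtain ⟨b, k, h3, rfl⟩ := Nat.exists_eq_pow_mul_and_not_dvd (right_ne_zero_of_mul h0) 3 (by norm_num)
  obtain ⟨p, hp, hk⟩ := Nat.exists_prime_and_dvd (n := k) (by rintro rfl; exact h a b (by rw [mul_one]))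
  exact ⟨p, hp, by rintro rfl; exact h2 (hk.mul_left _), by rintro rfl; exact h3 hk,
    (hk.mul_left _).mul_left _⟩

theorem mers {p n : ℕ} (hp : p.Prime) (h3 : p ≠ 3) (h5 : p ≠ 5) (h7 : p ≠ 7) (n0 : n ≠ 0) (n7 : n ≤ 7)
    (h : 2 ^ n ≡ 1 [MOD p]) : 2 ^ n = p + 1 ∧ 7 ≤ p := by
  have hd := (Nat.modEq_iff_dvd' Nat.one_le_two_pow).1 h.symm
  have k : ∀ {r : ℕ}, r.Prime → p ∣ r → p = r := fun hr e => (Nat.prime_dvd_prime_iff_eq hp hr).1 e
  interval_cases n
  · exact absurd rfl n0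
  · exact absurd (Nat.dvd_one.1 hd) hp.one_lt.ne'
  · exact absurd (k Nat.prime_three hd) h3
  · exact absurd (k Nat.prime_seven hd) h7
  · exact ((hp.dvd_mul (m := 3) (n := 5)).1 hd).elim (fun e => absurd (k Nat.prime_three e) h3)
      fun e => absurd (k Nat.prime_five e) h5
  · rw [k (r := 31) (by norm_num) hd]; norm_num
  · exact ((hp.dvd_mul (m := 3 ^ 2) (n := 7)).1 hd).elim
      (fun e => absurd (k Nat.prime_three (hp.dvd_of_dvd_pow e)) h3) fun e => absurd (k Nat.prime_seven e) h7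
  · rw [k (r := 127) (by norm_num) hd]; norm_num

end LA1'

open LA1'

theorem QS.card_aniso (h : QS X q B) (N : AddSubgroup U) (W0 : AddSubgroup W) (h0 : ∀ u ∈ N, q u ∈ W0)
    (ha : ∀ u ∈ N, q u = 0 → u = 0) : Nat.card N ≤ Nat.card W0 ^ 2 := by
  by_contra hlt
  have hB : ∀ u v : N, B u v ∈ W0 := fun u v => by
    have := sub_mem (h0 _ (add_mem u.2 v.2)) (add_mem (h0 _ u.2) (h0 _ v.2))
    rwa [h.add, add_sub_cancel_left] at this
  let β : N →+ N →+ W0 := AddMonoidHom.mk' (fun u => AddMonoidHom.mk' (fun v => ⟨B u v, hB u v⟩)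
    fun v w => Subtype.ext (map_add (B u) _ _)) fun u v => AddMonoidHom.ext fun w => Subtype.ext (by
      show B (u + v) w = B u w + B v w
      rw [map_add, AddMonoidHom.add_apply])
  have := H99.cw_fun (p := 2) (ι := Unit) (A := N) (B := W0)
    (fun a => Subtype.ext (by rw [two_nsmul]; exact h.u2 a)) (fun a => Subtype.ext (by rw [two_nsmul]; exact h.w2 a))
    (fun _ u => ⟨q u, h0 u u.2⟩) (fun _ => β) (fun _ u v => Subtype.ext (h.add u v))
    (fun _ n u => Subtype.ext (q_nsmul h u n)) (by simpa using hlt)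
  obtain ⟨b, hb, b0⟩ := H99.exists_ne_of_dvd_card this (a := 0) fun _ => Subtype.ext h.zero
  exact b0 (Subtype.ext (ha b b.2 (congrArg Subtype.val (hb ()))))

theorem QS.card_ts (h : QS X q B) (h4 : Nat.card W ≤ 4) (ht : TS q) : Nat.card U ≤ 128 := by
  have k : ∀ N : AddSubgroup U, (∀ u ∈ N, q u = 0 → u = 0) → Nat.card N ≤ 16 := fun N hN =>
    (h.card_aniso N ⊤ (fun _ _ => trivial) hN).trans (by
      rw [AddSubgroup.card_top]; exact Nat.pow_le_pow_left h4 2)
  by_cases ha : ∀ u, q u = 0 → u = 0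
  · have := k ⊤ fun u _ => ha u
    rw [AddSubgroup.card_top] at this
    omega
  push Not at ha
  obtain ⟨u, hu, u0⟩ := ha
  let _ : Module (ZMod 2) U := AddCommGroup.zmodModule fun x => by rw [two_nsmul]; exact h.u2 x
  obtain ⟨f, hf⟩ : ∃ f : Module.Dual (ZMod 2) U, f u ≠ 0 := by
    by_contra hn
    push Not at hn
    exact u0 ((Module.forall_dual_apply_eq_zero_iff (ZMod 2) u).1 hn)
  let g : U →+ W × ZMod 2 := (B u).prod f.toAddMonoidHom
  have h1 := k g.ker fun v hv qv => by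
    have e : (B u v, f v) = 0 := hv
    rcases ht u v hu qv (by rw [h.add, hu, qv, zero_add, zero_add]; exact (Prod.ext_iff.1 e).1) with e' | e' | rfl
    · exact absurd e' u0
    · exact e'
    · exact absurd (Prod.ext_iff.1 e).2 hf
  have h2 := AddSubgroup.card_mul_index g.ker
  rw [AddSubgroup.index_ker] at h2
  have h3 := AddSubgroup.card_le_card_addGroup g.range
  rw [Nat.card_prod, Nat.card_zmod] at h3
  rw [← h2]
  exact (Nat.mul_le_mul h1 (h3.trans (Nat.mul_le_mul_right 2 h4))).trans (by norm_num)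

theorem QS.fpf5 (h : QS X q B) (h4 : Nat.card W ≤ 4) (ht : TS q) {x : X} (h5 : ∀ u : U, x ^ 5 • u = u)
    (hf : ∀ u : U, x • u = u → u = 0) : Nat.card U ≤ 16 := by
  have := c16 h.u2 (h.card_ts h4 ht) h5 (M := ⊤) (fun _ _ => trivial) fun u _ => hf u
  rw [AddSubgroup.card_top] at this
  omega

theorem pent (u2 : ∀ u : U, u + u = 0) (hc : Nat.card U ≤ 128) {x : X} (h5 : ∀ u : U, x ^ 5 • u = u) {m : U}
    (h0 : m ≠ 0) (hs : m + x • m + x ^ 2 • m + x ^ 3 • m + x ^ 4 • m = 0) :
    Pent x fun i : Fin 5 => x ^ (i : ℕ) • m := by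
  have cyc : ∀ i : Fin 5, x • x ^ (i : ℕ) • m = x ^ ((i + 1 : Fin 5) : ℕ) • m := fun i => by
    rw [← mul_smul, ← pow_succ']
    fin_cases i
    exacts [rfl, rfl, rfl, rfl, (h5 m).trans (by simp)]
  have sum : x ^ 0 • m + x ^ 1 • m + x ^ 2 • m + x ^ 3 • m + x ^ 4 • m = 0 := by
    rwa [pow_zero, one_smul, pow_one]
  refine ⟨h5, cyc, sum, by simpa using h0, fun u => ⟨tr x 5 u, smul_tr h5 u, ?_⟩⟩
  let _ : Module (ZMod 2) U := AddCommGroup.zmodModule fun x => by rw [two_nsmul]; exact u2 x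
  let φ := Fintype.linearCombination (ZMod 2) fun i : Fin 5 => x ^ (i : ℕ) • m
  have o5 : Odd 5 := by decide
  have hle : (LinearMap.range φ).toAddSubgroup ≤ (tr x 5).ker := by
    have t0 : ∀ i : ℕ, tr x 5 (x ^ i • m) = 0 := fun i => by
      induction i with
      | zero => rw [pow_zero, one_smul, tr_apply, ← sum]; simp [Finset.sum_range_succ]
      | succ i ih => rw [pow_succ', mul_smul, tr_smul h5, ih]
    rintro _ ⟨c, rfl⟩
    simp only [AddMonoidHom.mem_ker, φ, Fintype.linearCombination_apply, map_sum, ZMod.map_smul, t0, smul_zero,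
      Finset.sum_const_zero]
  have hs : ∀ i, φ (Pi.single i 1) = x ^ (i : ℕ) • m := fun i => by
    simp only [φ, Fintype.linearCombination_apply_single, one_smul]
  have c1 := c16 u2 hc h5 (M := (LinearMap.range φ).toAddSubgroup) (by
    rintro _ ⟨c, rfl⟩
    simp only [φ, Fintype.linearCombination_apply, Finset.smul_sum]
    refine sum_mem fun i _ => ?_
    have := ZMod.map_smul (DistribSMul.toAddMonoidHom U x) (c i) (x ^ (i : ℕ) • m)
    rw [DistribSMul.toAddMonoidHom_apply, DistribSMul.toAddMonoidHom_apply, cyc] at this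
    rw [this]
    exact Submodule.smul_mem _ _ ⟨_, hs _⟩) fun v hv => ker_fpf u2 o5 v (hle hv)
  have c2 := c16 u2 hc h5 (ker_inv h5) (ker_fpf u2 o5)
  have e : (LinearMap.range φ).toAddSubgroup = (tr x 5).ker := by
    refine AddSubgroup.eq_of_le_of_card_ge hle ?_
    rcases c1 with c1 | c1
    · have : x ^ ((0 : Fin 5) : ℕ) • m ∈ (LinearMap.range φ).toAddSubgroup := ⟨_, hs 0⟩
      rw [AddSubgroup.card_eq_one.1 c1, AddSubgroup.mem_bot] at this
      exact absurd (by simpa using this) h0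
    · omega
  obtain ⟨c, hc⟩ : u + tr x 5 u ∈ (LinearMap.range φ).toAddSubgroup := by
    rw [e, AddMonoidHom.mem_ker, map_add, tr_fix u2 o5 (smul_tr h5 u), u2]
  obtain ⟨d, hd, hd'⟩ := sub3 c
  have e1 : u = φ d + tr x 5 u := by
    have : φ d = φ c := by
      rcases hd with rfl | rfl
      · rfl
      · rw [map_add, add_eq_left, ← sum]
        simp only [φ, Fintype.linearCombination_apply, one_smul, Fin.sum_univ_five]
        rfl
    rw [this, hc, add_assoc, u2, add_zero]
  rcases hd' with rfl | ⟨i, rfl⟩ | ⟨i, j, hij, rfl⟩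
  · exact Or.inl (by rwa [map_zero, zero_add] at e1)
  · exact Or.inr (Or.inl ⟨i, by rwa [hs] at e1⟩)
  · exact Or.inr (Or.inr ⟨i, j, hij, by rwa [map_add, hs, hs] at e1⟩)

theorem QS.five (h : QS X q B) (hc : Nat.card U ≤ 128) (ht : TS q) {K : Subgroup X} (hK : ⁅K, K⁆ = K)
    (hn : ∃ k ∈ K, ∃ u : U, k • u ≠ u) : ∃ x ∈ K, (∀ u : U, x ^ 5 • u = u) ∧ ∃ u : U, x • u ≠ u := by
  let φ := MulAction.toPermHom X U
  obtain ⟨k, hk, u, hu⟩ := hn
  have hb : K.map φ ≠ ⊥ := fun e =>
    hu (DFunLike.congr_fun (mem_bot.1 (e.le (mem_map_of_mem φ hk))) u)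
  have ns := B1'.not_solv le_rfl hb (by rw [← map_commutator, hK])
  obtain ⟨p, hp, h2, h3, hd⟩ := big_prime (Nat.card_pos (α := K.map φ)).ne' fun a b e =>
    ns (Cfsg.Agent.S0144.result 2 3 a b Nat.prime_two Nat.prime_three e)
  have : Fact p.Prime := ⟨hp⟩
  obtain ⟨⟨_, x, hx, rfl⟩, ho⟩ := exists_prime_orderOf_dvd_card' p hd
  replace ho : orderOf (φ x) = p := (orderOf_coe _).trans ho
  have xp : ∀ u : U, x ^ p • u = u := fun u =>
    DFunLike.congr_fun (show φ (x ^ p) = 1 by rw [map_pow, ← ho, pow_orderOf_eq_one]) u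
  obtain ⟨u, hu⟩ : ∃ u : U, x • u ≠ u := by
    by_contra hn
    push Not at hn
    rw [show φ x = 1 from Equiv.ext hn, orderOf_one] at ho
    exact hp.one_lt.ne ho
  by_cases h5 : p = 5
  · exact ⟨x, hx, h5 ▸ xp, u, hu⟩
  exfalso
  have op := hp.odd_of_ne_two h2
  have hv : u + x • u ∈ (tr x p).ker := by rw [AddMonoidHom.mem_ker, map_add, tr_smul xp, h.u2]
  have v0 : u + x • u ≠ 0 := fun e => hu (by linear_combination (norm := abel1) e - h.u2 u)
  generalize u + x • u = v at hv v0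
  by_cases h7 : p = 7
  · subst h7
    by_cases w0 : x • x • x • v + (v + x • v) = 0
    · exact v0 (ker_fpf h.u2 op v hv (no7 h ht (Or.inl (by
        linear_combination (norm := abel1) w0 - h.u2 (v + x • v)))))
    · refine w0 (ker_fpf h.u2 op _ (add_mem (ker_inv xp _ (ker_inv xp _ (ker_inv xp _ hv)))
        (add_mem hv (ker_inv xp _ hv))) (no7 h ht (Or.inr ?_)))
      have t : tr x 7 v = 0 := hv
      simp only [tr_apply, Finset.sum_range_succ, Finset.sum_range_zero, pow_succ', mul_smul, pow_zero,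
        one_smul] at t
      simp only [smul_add]
      linear_combination (norm := abel1) t - h.u2 v - h.u2 (x • v) - h.u2 (x • x • v) - h.u2 (x • x • x • v) -
        h.u2 (x • x • x • x • x • v)
  · obtain ⟨n, hn⟩ := card_pow h.u2 (tr x p).ker
    have h1 := card_mod hp xp (ker_inv xp) (ker_fpf h.u2 op)
    have h4 := (AddSubgroup.card_le_card_addGroup (tr x p : U →+ U).ker).trans hc
    rw [hn] at h1 h4
    obtain ⟨e, p7⟩ := mers hp h3 h5 h7 (by
      rintro rfl
      rw [AddSubgroup.card_eq_one.1 hn] at hv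
      exact v0 hv) ((Nat.pow_le_pow_iff_right (by norm_num)).1 (h4.trans_eq (by norm_num))) h1
    exact noM h ht hp p7 xp (ker_inv xp) (ker_fpf h.u2 op) (hn.trans e)

end H22.RK
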