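import Mathlib
import Cfsg.Agent.Lib.Rk3C.Fr
import Cfsg.Agent.Lib.Rk3C.LA1

set_option autoImplicit false
set_option linter.unusedSectionVars false
set_option linter.unusedVariables false

namespace H22.RK

open Subgroup H69 H70 Cfsg
open scoped commutatorElement Pointwise

variable {X U W : Type*} [Group X] [AddCommGroup U] [AddCommGroup W] [DistribMulAction X U] [Finite U] [Finite W]
  {q : U → W} {B : U →+ U →+ W}

namespace LA2'

/-- the vectors of trace zero. -/
def Tr (x : X) (U : Type*) [AddCommGroup U] [DistribMulAction X U] : AddSubgroup U where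
  carrier := {u | u + x • u + x ^ 2 • u + x ^ 3 • u + x ^ 4 • u = 0}
  zero_mem' := by simp
  add_mem' := fun {a b} ha hb => by
    simp only [Set.mem_ofPred_eq, smul_add] at *
    linear_combination (norm := abel1) ha + hb
  neg_mem' := fun {a} ha => by
    simp only [Set.mem_ofPred_eq, smul_neg] at *
    linear_combination (norm := abel1) -ha

/-- the sums of at most two basis vectors. -/
def In (m : Fin 5 → U) (μ : U) : Prop := μ = 0 ∨ (∃ i, μ = m i) ∨ ∃ i j, i ≠ j ∧ μ = m i + m j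

/-- a four-group of values. -/
def V4 (w2 : ∀ w : W, w + w = 0) (a b c : W) (h : a + b + c = 0) : AddSubgroup W where
  carrier := {w | w = 0 ∨ w = a ∨ w = b ∨ w = c}
  zero_mem' := Or.inl rfl
  add_mem' := by
    have h1 : a + b = c := by linear_combination (norm := abel1) h - w2 c
    have h2 : a + c = b := by linear_combination (norm := abel1) h - w2 b
    have h3 : b + c = a := by linear_combination (norm := abel1) h - w2 a
    have h4 : b + a = c := by rw [add_comm, h1]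
    have h5 : c + a = b := by rw [add_comm, h2]
    have h6 : c + b = a := by rw [add_comm, h3]
    rintro u v (hu | hu | hu | hu) (hv | hv | hv | hv) <;>
      simp only [Set.mem_ofPred_eq, hu, hv, add_zero, zero_add, w2, h1, h2, h3, h4, h5, h6, true_or,
        or_true]
  neg_mem' := fun {u} hu => by rwa [neg_eq_of_add_eq_zero_left (w2 u)]

theorem eqns_la2 : True := by
  have := @Tr.eq_1.{0,0}; have := @In.eq_1.{0}; have := @V4.eq_1.{0}
  trivial

theorem eq_of_add {A : Type*} [AddCommGroup A] (w2 : ∀ w : A, w + w = 0) {a b : A} (h : a + b = 0) :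
    a = b := by linear_combination (norm := abel1) h - w2 b

theorem fix_pow {x : X} {c : U} (hc : x • c = c) (n : ℕ) : x ^ n • c = c := by
  induction n with
  | zero => simp
  | succ n ih => rw [pow_succ, mul_smul, hc, ih]

variable (h : QS X q B) {x : X} {m : Fin 5 → U}
include h

theorem tr_fix {c : U} (h1 : c ∈ Tr x U) (hc : x • c = c) : c = 0 := by
  have e : c + x • c + x ^ 2 • c + x ^ 3 • c + x ^ 4 • c = 0 := h1
  simp only [fix_pow hc, hc] at e
  linear_combination (norm := abel1) e - h.u2 c - h.u2 c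

theorem B_tr {μ c : U} (h1 : μ ∈ Tr x U) (hc : x • c = c) : B μ c = 0 := by
  have e : μ + x • μ + x ^ 2 • μ + x ^ 3 • μ + x ^ 4 • μ = 0 := h1
  have k : ∀ n : ℕ, B (x ^ n • μ) c = B μ c := fun n => by rw [← h.invB (x ^ n) μ, fix_pow hc]
  have e2 := congrArg (fun u => B u c) e
  have k1 := k 1
  rw [pow_one] at k1
  simp only [map_add, AddMonoidHom.add_apply, k, k1, map_zero, AddMonoidHom.zero_apply] at e2
  linear_combination (norm := abel1) e2 - h.w2 (B μ c) - h.w2 (B μ c)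

theorem q_tr {μ c : U} (h1 : μ ∈ Tr x U) (hc : x • c = c) : q (μ + c) = q μ + q c := by
  rw [h.add, B_tr h h1 hc, add_zero]

variable (P : Pent x m)
include P

theorem m_tr (i : Fin 5) : m i ∈ Tr x U := by
  have s := P.sum
  change m i + x • m i + x ^ 2 • m i + x ^ 3 • m i + x ^ 4 • m i = 0
  simp only [pow_succ, mul_smul, pow_zero, one_smul, P.cyc]
  fin_cases i <;> simp <;> linear_combination (norm := abel1) s

theorem in_tr {μ : U} (hμ : In m μ) : μ ∈ Tr x U := by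
  rcases hμ with rfl | ⟨i, rfl⟩ | ⟨i, j, -, rfl⟩
  exacts [zero_mem _, m_tr h P i, add_mem (m_tr h P i) (m_tr h P j)]

omit h in
theorem dec (u : U) : ∃ c μ, x • c = c ∧ In m μ ∧ u = μ + c := by
  obtain ⟨c, hc, e | ⟨i, e⟩ | ⟨i, j, hij, e⟩⟩ := P.dec u
  exacts [⟨c, 0, hc, Or.inl rfl, by rw [zero_add, e]⟩, ⟨c, _, hc, Or.inr (Or.inl ⟨i, rfl⟩), e⟩,
    ⟨c, _, hc, Or.inr (Or.inr ⟨i, j, hij, rfl⟩), e⟩]

theorem not_fix : x • m 0 ≠ m 0 := fun e => P.ne (tr_fix h (m_tr h P 0) e)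

theorem ne01 : m 0 + m 1 ≠ 0 := fun e =>
  not_fix h P ((P.cyc 0).trans (eq_of_add h.u2 e).symm)

theorem ne02 : m 0 + m 2 ≠ 0 := fun e => by
  have e0 := eq_of_add h.u2 e
  have e1 : m 1 = m 3 := (P.cyc 0).symm.trans ((congrArg (x • ·) e0).trans (P.cyc 2))
  have e2 : m 2 = m 4 := (P.cyc 1).symm.trans ((congrArg (x • ·) e1).trans (P.cyc 3))
  have e3 : m 3 = m 0 := (P.cyc 2).symm.trans ((congrArg (x • ·) e2).trans (P.cyc 4))
  exact not_fix h P ((P.cyc 0).trans (e1.trans e3))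

theorem q_m (i : Fin 5) : q (m i) = q (m 0) := by
  have k : ∀ i, q (m (i + 1)) = q (m i) := fun i => by rw [← P.cyc, h.inv]
  have k1 : q (m 1) = q (m 0) := k 0
  have k2 : q (m 2) = q (m 0) := (k 1).trans k1
  have k3 : q (m 3) = q (m 0) := (k 2).trans k2
  have k4 : q (m 4) = q (m 0) := (k 3).trans k3
  fin_cases i
  exacts [rfl, k1, k2, k3, k4]

theorem B_sh (d i : Fin 5) : B (m i) (m (i + d)) = B (m 0) (m d) := by
  have k : ∀ i, B (m (i + 1)) (m (i + 1 + d)) = B (m i) (m (i + d)) := fun i => by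
    rw [add_right_comm, ← P.cyc, ← P.cyc, h.invB]
  have k0 : B (m 0) (m (0 + d)) = B (m 0) (m d) := by rw [zero_add]
  have k1 : B (m 1) (m (1 + d)) = B (m 0) (m d) := (k 0).trans k0
  have k2 : B (m 2) (m (2 + d)) = B (m 0) (m d) := (k 1).trans k1
  have k3 : B (m 3) (m (3 + d)) = B (m 0) (m d) := (k 2).trans k2
  have k4 : B (m 4) (m (4 + d)) = B (m 0) (m d) := (k 3).trans k3
  fin_cases i
  exacts [k0, k1, k2, k3, k4]

theorem B1 {i j : Fin 5} (e : j = i + 1 ∨ i = j + 1) : B (m i) (m j) = B (m 0) (m 1) := by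
  rcases e with rfl | rfl
  exacts [B_sh h P 1 i, (h.symm _ _).trans (B_sh h P 1 j)]

theorem B2 {i j : Fin 5} (e : j = i + 2 ∨ i = j + 2) : B (m i) (m j) = B (m 0) (m 2) := by
  rcases e with rfl | rfl
  exacts [B_sh h P 2 i, (h.symm _ _).trans (B_sh h P 2 j)]

theorem B12 {i j : Fin 5} (e : i ≠ j) :
    B (m i) (m j) = B (m 0) (m 1) ∨ B (m i) (m j) = B (m 0) (m 2) := by
  have : ∀ i j : Fin 5, i ≠ j → (j = i + 1 ∨ i = j + 1) ∨ (j = i + 2 ∨ i = j + 2) := by decide
  exact (this i j e).imp (B1 h P) (B2 h P)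

theorem q_mm (i j : Fin 5) : q (m i + m j) = B (m i) (m j) := by
  rw [h.add, q_m h P i, q_m h P j, h.w2, zero_add]

theorem rel : q (m 0) + B (m 0) (m 1) + B (m 0) (m 2) = 0 := by
  have e := congrArg q P.sum
  simp only [h.add, map_add, AddMonoidHom.add_apply, h.zero] at e
  rw [q_m h P 1, q_m h P 2, q_m h P 3, q_m h P 4, B1 h P (i := 1) (j := 2) (by decide),
    B1 h P (i := 2) (j := 3) (by decide), B1 h P (i := 3) (j := 4) (by decide),
    B1 h P (i := 0) (j := 4) (by decide), B2 h P (i := 0) (j := 3) (by decide),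
    B2 h P (i := 1) (j := 3) (by decide), B2 h P (i := 1) (j := 4) (by decide),
    B2 h P (i := 2) (j := 4) (by decide)] at e
  linear_combination (norm := abel1) e - h.w2 (q (m 0)) - h.w2 (q (m 0)) - h.w2 (B (m 0) (m 1)) -
    h.w2 (B (m 0) (m 1)) - h.w2 (B (m 0) (m 2)) - h.w2 (B (m 0) (m 2))

theorem rebase (hc : Nat.card U ≤ 128) : ∃ m' : Fin 5 → U, Pent x m' ∧ q (m' 0) = B (m 0) (m 1) ∧
    B (m' 0) (m' 1) = B (m 0) (m 2) ∧ B (m' 0) (m' 2) = q (m 0) := by
  have P' := pent h.u2 hc P.x5 (ne01 h P) (add_mem (m_tr h P 0) (m_tr h P 1))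
  have e0 : x ^ ((0 : Fin 5) : ℕ) • (m 0 + m 1) = m 0 + m 1 := by simp
  have e1 : x ^ ((1 : Fin 5) : ℕ) • (m 0 + m 1) = m 1 + m 2 := by simp [P.cyc]
  have k1 : B (m 0 + m 1) (m 1 + m 2) = B (m 0) (m 2) := by
    simp only [map_add, AddMonoidHom.add_apply, h.alt]
    rw [B1 h P (i := 1) (j := 2) (by decide)]
    linear_combination (norm := abel1) h.w2 (B (m 0) (m 1))
  have r := rel h P'
  refine ⟨_, P', by simp only [e0, q_mm h P], by simp only [e0, e1, k1], ?_⟩
  simp only [e0, e1, k1, q_mm h P] at r ⊢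
  linear_combination (norm := abel1) r - rel h P + h.w2 (q (m 0)) - h.w2 (q (m 0))

variable {K : Subgroup X}

theorem vals (hm : Mn K U) (hx : x ∈ K) (u : U) :
    q u ∈ V4 h.w2 _ _ _ (rel h P) ∧ ∀ v, B u v ∈ V4 h.w2 _ _ _ (rel h P) := by
  set W0 := V4 h.w2 _ _ _ (rel h P)
  let N : AddSubgroup U :=
    { carrier := {u | q u ∈ W0 ∧ ∀ v, B u v ∈ W0}
      zero_mem' := ⟨by rw [h.zero]; exact zero_mem _, fun v => by simp⟩
      add_mem' := fun {a b} ha hb => ⟨by
        rw [h.add]; exact add_mem (add_mem ha.1 hb.1) (ha.2 b),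
        fun v => by rw [map_add]; exact add_mem (ha.2 v) (hb.2 v)⟩
      neg_mem' := fun {a} ha => by rwa [neg_eq_of_add_eq_zero_left (h.u2 a)] }
  have k : ∀ i, B (m 0) (m i) ∈ W0 := fun i => by
    by_cases e : 0 = i
    · rw [← e, h.alt]; exact zero_mem _
    · exact Or.inr (Or.inr (B12 h P e))
  have h0 : m 0 ∈ N := ⟨Or.inr (Or.inl rfl), fun v => by
    obtain ⟨c, μ, hc, hμ, rfl⟩ := dec P v
    rw [map_add, B_tr h (m_tr h P 0) hc, add_zero]
    rcases hμ with rfl | ⟨i, rfl⟩ | ⟨i, j, -, rfl⟩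
    exacts [by simp, k i, by rw [map_add]; exact add_mem (k i) (k j)]⟩
  have : N = ⊤ := by
    by_contra hN
    exact not_fix h P (hm N (fun g u hu => ⟨by rw [h.inv]; exact hu.1, fun v => by
      rw [← smul_inv_smul g v, h.invB]; exact hu.2 _⟩) hN x hx _ h0)
  exact (this ▸ AddSubgroup.mem_top u : u ∈ N)

/-- a totally isotropic subgroup on which `q` takes every value. -/
theorem ell (hm : Mn K U) (hx : x ∈ K) : ∃ f : U → U, (∀ u, f u ∈ Tr x U) ∧ (∀ u, q (f u) = q u) ∧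
    ∀ u v, B (f u) (f v) = 0 := by
  have : ∀ u, ∃ μ, (μ = 0 ∨ μ = m 0 ∨ μ = m 2 + m 3 ∨ μ = m 1 + m 4) ∧ q μ = q u := fun u => by
    rcases (vals h P hm hx u).1 with e | e | e | e
    · exact ⟨_, Or.inl rfl, h.zero.trans e.symm⟩
    · exact ⟨_, Or.inr (Or.inl rfl), e.symm⟩
    · exact ⟨_, Or.inr (Or.inr (Or.inl rfl)), by rw [q_mm h P, B1 h P (by decide), e]⟩
    · exact ⟨_, Or.inr (Or.inr (Or.inr rfl)), by rw [q_mm h P, B2 h P (by decide), e]⟩
  choose f h1 h2 using this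
  have a1 : B (m 0) (m 2 + m 3) = 0 := by rw [map_add, B2 h P (i := 0) (j := 3) (by decide), h.w2]
  have a2 : B (m 0) (m 1 + m 4) = 0 := by rw [map_add, B1 h P (i := 0) (j := 4) (by decide), h.w2]
  have a3 : B (m 2 + m 3) (m 1 + m 4) = 0 := by
    simp only [map_add, AddMonoidHom.add_apply]
    rw [B1 h P (i := 2) (j := 1) (by decide), B2 h P (i := 3) (j := 1) (by decide),
      B2 h P (i := 2) (j := 4) (by decide), B1 h P (i := 3) (j := 4) (by decide)]
    linear_combination (norm := abel1) h.w2 (B (m 0) (m 1)) + h.w2 (B (m 0) (m 2))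
  have a4 := (h.symm _ _).trans a1
  have a5 := (h.symm _ _).trans a2
  have a6 := (h.symm _ _).trans a3
  refine ⟨f, fun u => ?_, h2, fun u v => ?_⟩
  · rcases h1 u with e | e | e | e <;> rw [e]
    exacts [zero_mem _, m_tr h P 0, add_mem (m_tr h P _) (m_tr h P _),
      add_mem (m_tr h P _) (m_tr h P _)]
  · rcases h1 u with e | e | e | e <;> rcases h1 v with e' | e' | e' | e' <;> rw [e, e'] <;>
      first | assumption | exact h.alt _ | exact map_zero _ | rw [map_zero, AddMonoidHom.zero_apply]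

theorem one (hm : Mn K U) (hx : x ∈ K) (ht : TS q) (h0 : q (m 0) = 0) :
    ∃ z : W, z ≠ 0 ∧ ∃ x ∈ K, ∃ m : Fin 5 → U, (∀ u : U, x ^ 5 • u = u) ∧ (∀ i, x • m i = m (i + 1)) ∧
      (∀ i, q (m i) = 0) ∧ (∀ i j, i ≠ j → B (m i) (m j) = z) ∧ m 0 + m 1 + m 2 + m 3 + m 4 = 0 ∧
      ∀ u : U, u = 0 ∨ (∃ i, u = m i) ∨ ∃ i j, i ≠ j ∧ u = m i + m j := by
  have r := rel h P
  rw [h0, zero_add] at r
  have e := eq_of_add h.w2 r
  have hB : ∀ i j, i ≠ j → B (m i) (m j) = B (m 0) (m 1) := fun i j hij =>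
    (B12 h P hij).elim id fun e' => e'.trans e.symm
  have hz : B (m 0) (m 1) ≠ 0 := fun e0 => by
    rcases ht (m 0) (m 1) h0 ((q_m h P 1).trans h0) ((q_mm h P 0 1).trans e0) with e' | e' | e'
    · exact P.ne e'
    · exact P.ne ((smul_eq_zero_iff_eq x).1 ((P.cyc 0).trans e'))
    · exact ne01 h P (by rw [← e', h.u2])
  have fx : ∀ c : U, x • c = c → c = 0 := fun c hc => by
    have k : q c = 0 ∨ q c = B (m 0) (m 1) := by
      rcases (vals h P hm hx c).1 with e' | e' | e' | e'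
      exacts [Or.inl e', Or.inl (e'.trans h0), Or.inr e', Or.inr (e'.trans e.symm)]
    rcases k with k | k
    · rcases ht (m 0) c h0 k (by rw [q_tr h (m_tr h P 0) hc, h0, k, add_zero]) with e' | e' | e'
      exacts [absurd e' P.ne, e', tr_fix h (e' ▸ m_tr h P 0) hc]
    · have t12 := add_mem (m_tr h P 1) (m_tr h P 2)
      have k1 : q (m 1 + m 2 + c) = 0 := by
        rw [q_tr h t12 hc, q_mm h P, hB 1 2 (by decide), k, h.w2]
      rcases ht (m 0) _ h0 k1 (by
        rw [h.add, h0, k1, map_add, map_add, r, B_tr h (m_tr h P 0) hc]; simp) with e' | e' | e'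
      · exact absurd e' P.ne
      · exact tr_fix h (eq_of_add h.u2 e' ▸ t12) hc
      · exact tr_fix h ((add_mem_cancel_left t12).1 (e' ▸ m_tr h P 0)) hc
  refine ⟨_, hz, x, hx, m, P.x5, P.cyc, fun i => (q_m h P i).trans h0, hB, P.sum, fun u => ?_⟩
  obtain ⟨c, μ, hc, hμ, rfl⟩ := dec P u
  rw [fx c hc, add_zero]
  exact hμ

variable (n0 : q (m 0) ≠ 0) (n1 : B (m 0) (m 1) ≠ 0) (n2 : B (m 0) (m 2) ≠ 0)
include n0 n1 n2

theorem dist : q (m 0) ≠ B (m 0) (m 1) ∧ q (m 0) ≠ B (m 0) (m 2) ∧ B (m 0) (m 1) ≠ B (m 0) (m 2) := by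
  have r := rel h P
  refine ⟨fun e => n2 ?_, fun e => n1 ?_, fun e => n0 ?_⟩
  · rwa [e, h.w2, zero_add] at r
  · rwa [e, add_right_comm, h.w2, zero_add] at r
  · rwa [e, add_assoc, h.w2, add_zero] at r

theorem perm (hK : ⁅K, K⁆ = K) (hx : x ∈ K) {c : U} (hc : ∀ g : X, g • c = c) (hB : ∀ v, B c v = 0)
    (hf : ∀ u, x • u = u → u = 0 ∨ u = c) (hq : q c = 0 ∨ q c = q (m 0)) : False := by
  obtain ⟨d1, d2, d3⟩ := dist h P n0 n1 n2
  have hB' : ∀ v, B v c = 0 := fun v => (h.symm _ _).trans (hB v)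
  have nB : ∀ i j, i ≠ j → B (m i) (m j) ≠ 0 := fun i j hij e =>
    (B12 h P hij).elim (fun e' => n1 (e'.symm.trans e)) fun e' => n2 (e'.symm.trans e)
  have uq : ∀ (g : X) (i j j' : Fin 5), (g • m i = m j ∨ g • m i = m j + c) →
      (g • m i = m j' ∨ g • m i = m j' + c) → j = j' := fun g i j j' h1 h2 => by
    by_contra hne
    have e := h.alt (g • m i)
    refine nB j j' hne ?_
    rcases h1 with h1 | h1 <;> rcases h2 with h2 | h2 <;>
    · nth_rw 1 [h1] at e
      rw [h2] at e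
      simpa [hB, hB'] using e
  obtain ⟨φ, hφ⟩ := exists_perm (K := X) (fun g i j => g • m i = m j ∨ g • m i = m j + c)
    (fun g i => by
      obtain ⟨c', μ, hc', hμ, e⟩ := dec P (g • m i)
      have e1 : q (m 0) = q μ + q c' := by rw [← q_tr h (in_tr h P hμ) hc', ← e, h.inv, q_m h P i]
      have k : q μ = q (m 0) → ∃ j, μ = m j := fun e2 => by
        rcases hμ with rfl | hμ | ⟨j, k, hjk, rfl⟩
        · exact absurd (e2.symm.trans h.zero) n0
        · exact hμ
        · rw [q_mm h P] at e2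
          exact ((B12 h P hjk).elim (fun e' => d1 (e2.symm.trans e')) fun e' => d2 (e2.symm.trans e')).elim
      rcases hf c' hc' with rfl | rfl
      · obtain ⟨j, rfl⟩ := k (by rw [e1, h.zero, add_zero])
        exact ⟨j, Or.inl (by rw [e, add_zero])⟩
      rcases hq with hq | hq
      · obtain ⟨j, rfl⟩ := k (by rw [e1, hq, add_zero])
        exact ⟨j, Or.inr e⟩
      · rw [hq, right_eq_add] at e1
        exfalso
        rcases hμ with rfl | ⟨j, rfl⟩ | ⟨j, k', hjk, rfl⟩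
        · rw [zero_add, ← hc g, smul_left_cancel_iff] at e
          have := tr_fix h (e ▸ m_tr h P i) hc'
          exact n0 (by rw [← hq, this, h.zero])
        · exact n0 ((q_m h P j).symm.trans e1)
        · exact nB j k' hjk ((q_mm h P j k').symm.trans e1))
    uq (fun i => Or.inl (one_smul _ _)) (fun g l i j n h1 h2 => by
      rcases h1 with h1 | h1 <;> rcases h2 with h2 | h2 <;>
        simp only [mul_smul, h1, h2, smul_add, hc, add_assoc, h.u2, add_zero, true_or, or_true])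
  obtain ⟨k, -, e⟩ := (perf5 hK φ).2 ⟨x, hx, fun e => absurd
    (uq x 0 _ 1 (hφ x 0) (Or.inl (P.cyc 0))) (by rw [e]; decide)⟩
    (Equiv.swap 1 3 * Equiv.swap 1 2) (by decide)
  have e0 := hφ k 0
  have e1 := hφ k 1
  rw [e, show (Equiv.swap 1 3 * Equiv.swap 1 2 : Equiv.Perm (Fin 5)) 0 = 0 by decide] at e0
  rw [e, show (Equiv.swap 1 3 * Equiv.swap 1 2 : Equiv.Perm (Fin 5)) 1 = 2 by decide] at e1
  refine d3 ((h.invB k _ _).symm.trans ?_)
  rcases e0 with e0 | e0 <;> rcases e1 with e1 | e1 <;> simp [e0, e1, hB, hB']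

/-- a non-zero sum pairs with the basis in two different non-zero values. -/
theorem two_vals {μ : U} (hμ : In m μ) {β : W} (hβ : ∀ k, B μ (m k) = 0 ∨ B μ (m k) = β) : μ = 0 := by
  obtain ⟨d1, d2, d3⟩ := dist h P n0 n1 n2
  rcases hμ with rfl | ⟨i, rfl⟩ | ⟨i, j, hij, rfl⟩
  · rfl
  · have k1 := hβ (i + 1)
    have k2 := hβ (i + 2)
    rw [B_sh h P] at k1 k2
    exact absurd ((k1.resolve_left n1).trans (k2.resolve_left n2).symm) d3
  · have : ∀ i j : Fin 5, i ≠ j → ∃ k, ((k = i + 1 ∨ i = k + 1) ∧ (k = j + 2 ∨ j = k + 2)) ∨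
      ((k = i + 2 ∨ i = k + 2) ∧ (k = j + 1 ∨ j = k + 1)) := by decide
    obtain ⟨k, hk⟩ := this i j hij
    have r : B (m 0) (m 1) + B (m 0) (m 2) = q (m 0) := by
      linear_combination (norm := abel1) rel h P - h.w2 (q (m 0))
    have k1 : B (m i + m j) (m k) = q (m 0) := by
      rw [map_add, AddMonoidHom.add_apply]
      rcases hk with ⟨a, b⟩ | ⟨a, b⟩
      · rw [B1 h P a, B2 h P b, r]
      · rw [B2 h P a, B1 h P b, add_comm, r]
    have k2 := hβ k
    have k3 := hβ j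
    rw [k1] at k2
    rw [map_add, AddMonoidHom.add_apply, h.alt, add_zero, ← k2.resolve_left n0] at k3
    rcases B12 h P hij with e | e <;> rw [e] at k3
    · exact (k3.elim n1 fun e' => d1 e'.symm).elim
    · exact (k3.elim n2 fun e' => d2 e'.symm).elim

omit n0 n1 n2 in
theorem key (hm : Mn K U) (hx : x ∈ K) (ht : TS q) {c d : U} (hc : x • c = c) (hd : x • d = d)
    (e : B c d = 0) : c = 0 ∨ d = 0 ∨ c = d := by
  obtain ⟨f, f1, f2, f3⟩ := ell h P hm hx
  have k : ∀ c, x • c = c → q (f c + c) = 0 := fun c hc => by rw [q_tr h (f1 c) hc, f2, h.w2]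
  have k2 : ∀ c, x • c = c → f c + c = 0 → c = 0 := fun c hc e =>
    tr_fix h (eq_of_add h.u2 e ▸ f1 c) hc
  refine (ht _ _ (k c hc) (k d hd) ?_).imp (k2 c hc) (Or.imp (k2 d hd) fun e' => ?_)
  · rw [h.add, k c hc, k d hd]
    simp only [map_add, AddMonoidHom.add_apply, f3, e, B_tr h (f1 c) hd, h.symm c (f d),
      B_tr h (f1 d) hc, add_zero]
  · have : c + d = f c + f d := by
      linear_combination (norm := abel1) e' + h.u2 d - h.u2 (f c)
    exact eq_of_add h.u2 (tr_fix h (this ▸ add_mem (f1 c) (f1 d)) (by rw [smul_add, hc, hd]))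

theorem fixed (hm : Mn K U) (hx : x ∈ K) (ht : TS q) {c d : U} (hc : x • c = c) (hd : x • d = d) :
    c = 0 ∨ d = 0 ∨ c = d := by
  by_contra hne
  simp only [not_or] at hne
  obtain ⟨c0, d0, cd⟩ := hne
  have K0 := fun {c d : U} hc hd => key h P hm hx ht (c := c) (d := d) hc hd
  have ad : ∀ {a b : U}, x • a = a → x • b = b → x • (a + b) = a + b := fun ha hb => by
    rw [smul_add, ha, hb]
  have A : ∀ e, x • e = e → e = 0 ∨ e = c ∨ e = d ∨ e = c + d := fun e he => by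
    by_contra hne
    simp only [not_or] at hne
    obtain ⟨e0, ec, ed, ecd⟩ := hne
    have T : ∀ {a b e : U}, x • a = a → x • b = b → x • e = e → a ≠ 0 → b ≠ e → a ≠ b + e →
        B a b ≠ B a e := fun ha hb he a0 be abe e' => by
      rcases K0 ha (ad hb he) (by rw [map_add, e', h.w2]) with k | k | k
      exacts [a0 k, be (eq_of_add h.u2 k), abe k]
    have t1 : B c d ≠ B c e := T hc hd he c0 (Ne.symm ed) fun k => ecd (by
      linear_combination (norm := abel1) -k - h.u2 d)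
    have t2 : B c d ≠ B d e := h.symm d c ▸ T hd hc he d0 (Ne.symm ec) fun k => ecd (by
      linear_combination (norm := abel1) -k - h.u2 c)
    have t3 : B c e ≠ B d e := h.symm e c ▸ h.symm e d ▸ T he hc hd e0 cd ecd
    have z1 : B c d ≠ 0 := fun k => by rcases K0 hc hd k with k | k | k <;> contradiction
    have z2 : B c e ≠ 0 := fun k => by
      rcases K0 hc he k with k | k | k
      exacts [c0 k, e0 k, ec k.symm]
    have z3 : B d e ≠ 0 := fun k => by
      rcases K0 hd he k with k | k | k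
      exacts [d0 k, e0 k, ed k.symm]
    have s : B c d + B c e + B d e = 0 := by
      have r := rel h P
      rcases ((vals h P hm hx c).2 d).resolve_left z1 with a | a | a <;>
      rcases ((vals h P hm hx c).2 e).resolve_left z2 with b | b | b <;>
      rcases ((vals h P hm hx d).2 e).resolve_left z3 with g | g | g <;>
      first
        | exact absurd (a.trans b.symm) t1
        | exact absurd (a.trans g.symm) t2
        | exact absurd (b.trans g.symm) t3
        | linear_combination (norm := abel1) r + a + b + g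
    rcases K0 (ad hc hd) (ad hc he) (by
      simp only [map_add, AddMonoidHom.add_apply, h.alt, h.symm d c]
      linear_combination (norm := abel1) s) with k | k | k
    exacts [cd (eq_of_add h.u2 k), ec (eq_of_add h.u2 k).symm, ed (add_left_cancel k).symm]
  have z1 : B c d ≠ 0 := fun k => by rcases K0 hc hd k with k | k | k <;> contradiction
  let N : AddSubgroup U :=
    { carrier := {v | ∀ u, (∀ w, B u w = 0 ∨ B u w = B c d) → B u v = 0}
      zero_mem' := fun u _ => map_zero _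
      add_mem' := fun {a b} ha hb u hu => by rw [map_add, ha u hu, hb u hu, add_zero]
      neg_mem' := fun {a} ha u hu => by rw [map_neg, ha u hu, neg_zero] }
  refine not_fix h P (hm N (fun g v hv u hu => ?_) (fun hN => z1 ?_) x hx _ fun u hu => ?_)
  · rw [← smul_inv_smul g u, h.invB]
    exact hv _ fun w => by rw [← h.invB g, smul_inv_smul]; exact hu _
  · refine (hN ▸ AddSubgroup.mem_top d : d ∈ N) c fun w => ?_
    obtain ⟨e, μ, he, hμ, rfl⟩ := dec P w
    rw [map_add, h.symm c μ, B_tr h (in_tr h P hμ) hc, zero_add]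
    rcases A e he with rfl | rfl | rfl | rfl <;> simp [h.alt]
  · obtain ⟨e, μ, he, hμ, rfl⟩ := dec P u
    have k : ∀ k, B (μ + e) (m k) = B μ (m k) := fun k => by
      rw [map_add, AddMonoidHom.add_apply, h.symm e, B_tr h (m_tr h P k) he, add_zero]
    rw [k, two_vals h P n0 n1 n2 hμ fun j => k j ▸ hu (m j), map_zero, AddMonoidHom.zero_apply]

theorem two (hcard : Nat.card U ≤ 128) (hK : ⁅K, K⁆ = K) (hm : Mn K U) (hx : x ∈ K) (ht : TS q) :
    False := by
  obtain ⟨c, hc, hf⟩ : ∃ c : U, x • c = c ∧ ∀ u, x • u = u → u = 0 ∨ u = c := by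
    by_cases e : ∃ c : U, x • c = c ∧ c ≠ 0
    · obtain ⟨c, hc, c0⟩ := e
      exact ⟨c, hc, fun u hu => (fixed h P n0 n1 n2 hm hx ht hu hc).imp id fun k => k.resolve_left c0⟩
    · exact ⟨0, smul_zero _, fun u hu => Or.inl (by_contra fun k => e ⟨u, hu, k⟩)⟩
  have hB : ∀ v, B c v = 0 := fun v => by
    obtain ⟨e, μ, he, hμ, rfl⟩ := dec P v
    rw [map_add, h.symm c μ, B_tr h (in_tr h P hμ) hc, zero_add]
    rcases hf e he with rfl | rfl
    exacts [map_zero _, h.alt _]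
  have hg : ∀ g : X, g • c = c := fun g => by
    obtain ⟨e, μ, he, hμ, e1⟩ := dec P (g • c)
    have k : ∀ k, B μ (m k) = 0 := fun k => by
      have := hB (g⁻¹ • m k)
      rwa [← h.invB g, smul_inv_smul, e1, map_add, AddMonoidHom.add_apply, h.symm e,
        B_tr h (m_tr h P k) he, add_zero] at this
    rw [two_vals h P n0 n1 n2 hμ (β := 0) fun j => Or.inl (k j), zero_add] at e1
    rcases hf e he with rfl | rfl
    · rw [(smul_eq_zero_iff_eq g).1 e1, smul_zero]
    · exact e1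
  obtain ⟨m1, P1, a1, b1, c1⟩ := rebase h P hcard
  obtain ⟨m2, P2, a2, b2, c2⟩ := rebase h P1 hcard
  rcases (vals h P hm hx c).1 with e | e | e | e
  · exact perm h P n0 n1 n2 hK hx hg hB hf (Or.inl e)
  · exact perm h P n0 n1 n2 hK hx hg hB hf (Or.inr e)
  · exact perm h P1 (a1 ▸ n1) (b1 ▸ n2) (c1 ▸ n0) hK hx hg hB hf (Or.inr (a1 ▸ e))
  · exact perm h P2 (a2 ▸ b1 ▸ n2) (b2 ▸ c1 ▸ n0) (c2 ▸ a1 ▸ n1) hK hx hg hB hf
      (Or.inr (a2 ▸ b1 ▸ e))

omit P n0 n1 n2 in
theorem setup (hc : Nat.card U ≤ 128) (ht : TS q) (hK : ⁅K, K⁆ = K)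
    (hn : ∃ k ∈ K, ∃ u : U, k • u ≠ u) : ∃ x ∈ K, ∃ m : Fin 5 → U, Pent x m := by
  obtain ⟨x, hx, h5, u, hu⟩ := h.five hc ht hK hn
  refine ⟨x, hx, _, pent h.u2 hc h5 (m := u + x • u) (fun e => hu (eq_of_add h.u2 e).symm) ?_⟩
  have e := h5 u
  simp only [pow_succ, mul_smul, pow_zero, one_smul, smul_add] at e ⊢
  rw [e]
  linear_combination (norm := abel1) h.u2 u + h.u2 (x • u) + h.u2 (x • x • u) + h.u2 (x • x • x • u) +
    h.u2 (x • x • x • x • u)

end LA2'

open LA2' in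
theorem QS.la8 (h : QS X q B) (h8 : Nat.card W ≤ 8) (ha : ∀ u, q u = 0 → u = 0) {K : Subgroup X}
    (hK : ⁅K, K⁆ = K) (hm : Mn K U) : ∀ k ∈ K, ∀ u : U, k • u = u := by
  by_contra hn
  push Not at hn
  have hc := h.card_aniso ⊤ ⊤ (fun _ _ => trivial) fun u _ => ha u
  rw [AddSubgroup.card_top, AddSubgroup.card_top] at hc
  have hc' : Nat.card U ≤ 128 := by nlinarith
  have ht : TS q := fun u v hu _ _ => Or.inl (ha u hu)
  obtain ⟨x, hx, m, P⟩ := setup h hc' ht hK hn
  exact two h P (fun e => P.ne (ha _ e)) (fun e => ne01 h P (ha _ ((q_mm h P _ _).trans e)))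
    (fun e => ne02 h P (ha _ ((q_mm h P _ _).trans e))) hc' hK hm hx ht

open LA2' in
theorem QS.la4 (h : QS X q B) (h4 : Nat.card W ≤ 4) (ht : TS q) {K : Subgroup X} (hK : ⁅K, K⁆ = K) (hm : Mn K U)
    (hn : ∃ k ∈ K, ∃ u : U, k • u ≠ u) :
    ∃ z : W, z ≠ 0 ∧ ∃ x ∈ K, ∃ m : Fin 5 → U, (∀ u : U, x ^ 5 • u = u) ∧ (∀ i, x • m i = m (i + 1)) ∧
      (∀ i, q (m i) = 0) ∧ (∀ i j, i ≠ j → B (m i) (m j) = z) ∧ m 0 + m 1 + m 2 + m 3 + m 4 = 0 ∧
      ∀ u : U, u = 0 ∨ (∃ i, u = m i) ∨ ∃ i j, i ≠ j ∧ u = m i + m j := by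
  have hc := h.card_ts h4 ht
  obtain ⟨x, hx, m, P⟩ := setup h hc ht hK hn
  obtain ⟨m1, P1, a1, b1, -⟩ := rebase h P hc
  obtain ⟨m2, P2, a2, -⟩ := rebase h P1 hc
  by_cases n0 : q (m 0) = 0
  · exact one h P hm hx ht n0
  by_cases n1 : B (m 0) (m 1) = 0
  · exact one h P1 hm hx ht (a1.trans n1)
  by_cases n2 : B (m 0) (m 2) = 0
  · exact one h P2 hm hx ht (a2.trans (b1.trans n2))
  exact (two h P n0 n1 n2 hc hK hm hx ht).elim

end H22.RK
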