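import Mathlib
import Cfsg.Agent.Lib.Rk3C.Fr
import Cfsg.Agent.Lib.Rk3C.LA2

/-! 2-rank 3: from the section `D / W` to a quadratic map over the field with two elements. -/

set_option autoImplicit false
set_option linter.unusedSectionVars false
set_option linter.unusedVariables false
set_option linter.style.haveILetI false

namespace H22.RK

open Subgroup H69 H70 Cfsg
open scoped commutatorElement Pointwise

universe u

namespace GL'

variable {G : Type u} [Group G] [Finite G] {W D L K : Subgroup G}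

/-- the squaring map `D / W → W` -/
structure Mo (W D L : Subgroup G) {U V : Type u} [AddCommGroup U] [AddCommGroup V] [DistribMulAction L U]
    (q : U → V) (B : U →+ U →+ V) (p : G → U) (ι : V → G) : Prop where
  qs : QS L q B
  sur : ∀ u, ∃ d ∈ D, p d = u
  mul : ∀ d ∈ D, ∀ e ∈ D, p (d * e) = p d + p e
  ker : ∀ d ∈ D, p d = 0 ↔ d ∈ W
  act : ∀ l : L, ∀ d ∈ D, l • p d = p (l * d * (l : G)⁻¹)
  hq : ∀ d ∈ D, ι (q (p d)) = d * d
  hB : ∀ d ∈ D, ∀ e ∈ D, ι (B (p d) (p e)) = ⁅d, e⁆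
  one : ∀ v, ι v = 1 ↔ v = 0
  mem : ∀ v, ι v ∈ W
  cV : Nat.card V = Nat.card W
  cU : Nat.card D = Nat.card U * Nat.card W

theorem sq_mul (h : Adm W D L) {d e : G} (hd : d ∈ D) (he : e ∈ D) :
    d * e * (d * e) = d * d * (e * e) * ⁅d, e⁆ ∧ ⁅d, e⁆ ∈ W := by
  have e1 : d * e * (d * e) = ⁅d, e⁆ * (d * d * (e * e)) := by
    rw [← mul_assoc (d * d), h.cen he _ (h.sq d hd), commutatorElement_def]; group
  have m := mul_mem (h.sq d hd) (h.sq e he)
  have e2 := (mul_mem_cancel_right m).1 (e1 ▸ h.sq _ (mul_mem hd he))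
  exact ⟨e1.trans (comm_of_sq h.w2 e2 m), e2⟩

theorem model (h : Adm W D L) : ∃ (U V : Type u) (_ : AddCommGroup U) (_ : AddCommGroup V) (_ : Finite U)
    (_ : Finite V) (_ : DistribMulAction L U) (q : U → V) (B : U →+ U →+ V) (p : G → U) (ι : V → G),
    Mo W D L q B p ι := by
  classical
  let N := W.subgroupOf D
  haveI : N.Normal := ⟨fun w hw d => by
    change (d : G) * w * (d : G)⁻¹ ∈ W
    rwa [← h.cen d.2 w hw, mul_inv_cancel_right]⟩
  letI : CommGroup (D ⧸ N) := { (inferInstance : Group (D ⧸ N)) with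
    mul_comm := fun a b => by
      obtain ⟨a, rfl⟩ := QuotientGroup.mk'_surjective N a
      obtain ⟨b, rfl⟩ := QuotientGroup.mk'_surjective N b
      rw [← commutatorElement_eq_one_iff_mul_comm, ← map_commutatorElement]
      exact (QuotientGroup.eq_one_iff _).2 (sq_mul h a.2 b.2).2 }
  letI : CommGroup W := { (inferInstance : Group W) with
    mul_comm := fun a b => Subtype.ext (comm_of_sq h.w2 a.2 b.2) }
  let f : L → (D ⧸ N) →* D ⧸ N := fun l => QuotientGroup.map N N (H2.conjAut h.LD l).toMonoidHom fun w hw => by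
    change (l : G) * w * (l : G)⁻¹ ∈ W
    rwa [← h.LW l.2 w hw, mul_inv_cancel_right]
  letI : DistribMulAction L (Additive (D ⧸ N)) :=
    { smul := fun l u => Additive.ofMul (f l u.toMul)
      one_smul := fun u => QuotientGroup.induction_on u fun d => congrArg (QuotientGroup.mk (s := N))
        (DFunLike.congr_fun (map_one (H2.conjAut h.LD)) d)
      mul_smul := fun a b u => QuotientGroup.induction_on u fun d => congrArg (QuotientGroup.mk (s := N))
        (DFunLike.congr_fun (map_mul (H2.conjAut h.LD) a b) d)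
      smul_zero := fun l => map_one (f l)
      smul_add := fun l u v => map_mul (f l) u.toMul v.toMul }
  let q : Additive (D ⧸ N) → Additive W := Quotient.lift (fun d : D => Additive.ofMul ⟨d * d, h.sq d d.2⟩)
    fun d e hr => Subtype.ext (by
      have hw : (d : G)⁻¹ * e ∈ W := (QuotientGroup.leftRel_apply (s := N)).1 hr
      change (d : G) * d = e * e
      rw [← mul_inv_cancel_left (d : G) e]
      generalize (d : G)⁻¹ * e = w at hw
      rw [mul_assoc, ← mul_assoc w, h.cen d.2 _ hw, mul_assoc, h.w2 w hw, mul_one])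
  let P : D → Additive (D ⧸ N) := fun d => Additive.ofMul (d : D ⧸ N)
  have sur : ∀ u, ∃ d, P d = u := QuotientGroup.mk_surjective
  let b := fun u v => q (u + v) - (q u + q v)
  have hb : ∀ d e : D, b (P d) (P e) = Additive.ofMul ⟨⁅(d : G), e⁆, (sq_mul h d.2 e.2).2⟩ := fun d e =>
    sub_eq_of_eq_add' (Subtype.ext (sq_mul h d.2 e.2).1)
  have ad : ∀ u v w, b (u + v) w = b u w + b v w := fun u v w => by
    obtain ⟨d, rfl⟩ := sur u
    obtain ⟨e, rfl⟩ := sur v
    obtain ⟨g, rfl⟩ := sur w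
    refine (hb (d * e) g).trans (Eq.symm ?_)
    rw [hb, hb, add_comm]
    refine Subtype.ext ?_
    change ⁅(e : G), (g : G)⁆ * ⁅(d : G), (g : G)⁆ = ⁅(d : G) * e, (g : G)⁆
    rw [← mul_inv_cancel_right ⁅(e : G), (g : G)⁆ d, h.cen d.2 _ (sq_mul h e.2 g.2).2]
    simp only [commutatorElement_def]; group
  have sy : ∀ u v, b u v = b v u := fun u v => by simp only [b, add_comm]
  let B : Additive (D ⧸ N) →+ Additive (D ⧸ N) →+ Additive W := AddMonoidHom.mk'
    (fun u => AddMonoidHom.mk' (b u) fun v w => by rw [sy, ad, sy v, sy w]) fun u v =>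
      AddMonoidHom.ext (ad u v)
  have hp : ∀ {d} (hd : d ∈ D), (if hd : d ∈ D then P ⟨d, hd⟩ else 0) = P ⟨d, hd⟩ := fun hd => dif_pos hd
  refine ⟨_, _, inferInstance, inferInstance, inferInstance, inferInstance, inferInstance, q, B,
    fun d => if hd : d ∈ D then P ⟨d, hd⟩ else 0, fun v => (v.toMul : G),
    ⟨fun u => ?_, fun w => Subtype.ext (h.w2 _ w.toMul.2), fun u v => (add_sub_cancel _ _).symm, fun l u => ?_⟩,
    fun u => let ⟨d, e⟩ := sur u; ⟨d, d.2, (hp d.2).trans e⟩,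
    fun d hd e he => by rw [hp hd, hp he, hp (mul_mem hd he)]; rfl,
    fun d hd => by rw [hp hd]; exact QuotientGroup.eq_one_iff (N := N) _,
    fun l d hd => by rw [hp hd, hp (conj_mem_of_mem_normalizer (h.LD l.2) hd)]; rfl,
    fun d hd => by rw [hp hd]; rfl,
    fun d hd e he => by rw [hp hd, hp he]; exact congrArg (fun v : Additive W => (v.toMul : G)) (hb _ _),
    fun v => OneMemClass.coe_eq_one, fun v => v.toMul.2, rfl, ?_⟩
  · obtain ⟨d, rfl⟩ := sur u
    exact (QuotientGroup.eq_one_iff (N := N) (d * d)).2 (h.sq d d.2)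
  · obtain ⟨d, rfl⟩ := sur u
    refine Subtype.ext ?_
    change (l : G) * d * (l : G)⁻¹ * (l * d * (l : G)⁻¹) = d * d
    rw [← conj_eq_of_mem_centralizer (h.LW l.2) (h.sq d d.2)]; group
  · rw [card_eq_card_quotient_mul_card_subgroup N, Nat.card_congr (subgroupOfEquivOfLe h.WD).toEquiv]; rfl

variable {U V : Type u} [AddCommGroup U] [AddCommGroup V] [DistribMulAction L U]
  {q : U → V} {B : U →+ U →+ V} {p : G → U} {ι : V → G} (m : Mo W D L q B p ι)
include m

theorem Mo.inv {d : G} (hd : d ∈ D) : p d⁻¹ = p d := by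
  have := m.mul d hd _ (inv_mem hd)
  rw [mul_inv_cancel, (m.ker 1 (one_mem _)).2 (one_mem _), eq_comm, ← m.qs.u2 (p d)] at this
  exact add_left_cancel this

theorem Mo.eqv {d e : G} (hd : d ∈ D) (he : e ∈ D) (h : p d = p e) : e⁻¹ * d ∈ W :=
  (m.ker _ (mul_mem (inv_mem he) hd)).1 (by rw [m.mul _ (inv_mem he) _ hd, m.inv he, h, m.qs.u2])

theorem Mo.comm (h : Adm W D L) (l : L) {d : G} (hd : d ∈ D) : p ⁅d, (l : G)⁆ = p d + l • p d := by
  rw [← m.inv hd, m.act l _ (inv_mem hd), m.inv hd,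
    ← m.mul _ hd _ (conj_mem_of_mem_normalizer (h.LD l.2) (inv_mem hd)), commutatorElement_def]
  simp only [mul_assoc]

theorem Mo.ts (ht : TSG W D) : TS q := fun u v h1 h2 h3 => by
  obtain ⟨d, hd, rfl⟩ := m.sur u
  obtain ⟨e, he, rfl⟩ := m.sur v
  have h4 := m.qs.add (p d) (p e)
  rw [h1, h2, h3, add_zero, zero_add, eq_comm, ← m.one, m.hB d hd e he,
    commutatorElement_eq_one_iff_mul_comm] at h4
  rw [← m.one, m.hq _ ‹_›] at h1 h2
  refine (ht d hd e he h1 h2 h4).imp (m.ker d hd).2 (Or.imp (m.ker e he).2 fun f => ?_)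
  rw [← m.ker _ (mul_mem hd he), m.mul d hd e he, ← m.qs.u2 (p e)] at f
  exact add_right_cancel f

/-- the preimage of a subgroup of `U` -/
def Mo.pre (N : AddSubgroup U) : Subgroup G where
  carrier := {d | d ∈ D ∧ p d ∈ N}
  one_mem' := ⟨one_mem _, by rw [(m.ker 1 (one_mem _)).2 (one_mem _)]; exact zero_mem _⟩
  mul_mem' := fun a b => ⟨mul_mem a.1 b.1, by rw [m.mul _ a.1 _ b.1]; exact add_mem a.2 b.2⟩
  inv_mem' := fun a => ⟨inv_mem a.1, by rw [m.inv a.1]; exact a.2⟩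

theorem Mo.le_pre (h : Adm W D L) (N : AddSubgroup U) : W ≤ m.pre N := fun w hw =>
  ⟨h.WD hw, by rw [(m.ker w (h.WD hw)).2 hw]; exact zero_mem _⟩

theorem Mo.mn (h : Adm W D L) (hm : MnG W D L K) : Mn (K.subgroupOf L) U := fun N hN n k hk u hu => by
  obtain ⟨d, hd, rfl⟩ := m.sur u
  have := hm (m.pre N) (m.le_pre h N) (lt_of_le_of_ne (fun _ a => a.1) fun e => n (eq_top_iff.2 fun u _ => by
      obtain ⟨d, hd, rfl⟩ := m.sur u
      exact (e.ge hd).2))
    (fun l hl => mem_normalizer_fintype fun d a => ⟨conj_mem_of_mem_normalizer (h.LD hl) a.1,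
      m.act ⟨l, hl⟩ d a.1 ▸ hN _ _ a.2⟩) hk
  rw [m.act k d hd, conj_eq_of_mem_centralizer (A := m.pre N) (g := k) this ⟨hd, hu⟩]

theorem Mo.triv (h : Adm W D L) (hKL : K ≤ L) (hK : ⁅K, K⁆ = K)
    (ht : ∀ k ∈ K.subgroupOf L, ∀ u : U, k • u = u) : K ≤ 𝐂(D) :=
  cent_of_perf hK (commutator_le.2 fun d hd k hk => le_centralizer_iff.1 (hKL.trans h.LW)
    ((m.ker _ (by
      simpa [commutatorElement_def, mul_assoc] using
        mul_mem hd (conj_mem_of_mem_normalizer (h.LD (hKL hk)) (inv_mem hd)))).1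
      (by rw [m.comm h ⟨k, hKL hk⟩ hd, ht ⟨k, hKL hk⟩ hk, m.qs.u2])))

omit m in
theorem perf (hKL : K ≤ L) (hK : ⁅K, K⁆ = K) : ⁅K.subgroupOf L, K.subgroupOf L⁆ = K.subgroupOf L :=
  map_injective L.subtype_injective (by rw [map_commutator, subgroupOf_map_subtype, inf_eq_left.2 hKL, hK])

omit m in
theorem eqns_gl : True := by
  have := @Mo.pre.eq_1.{0}
  trivial

end GL'

open GL'

variable {G : Type*} [Group G] [Finite G] {W D L K : Subgroup G}

theorem Adm.g8 (h : Adm W D L) (h8 : Nat.card W ≤ 8) (ha : ∀ d ∈ D, d * d = 1 → d ∈ W) (hKL : K ≤ L)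
    (hK : ⁅K, K⁆ = K) (hm : MnG W D L K) : K ≤ 𝐂(D) := by
  obtain ⟨U, V, _, _, _, _, _, q, B, p, ι, m⟩ := model h
  refine m.triv h hKL hK (m.qs.la8 (m.cV ▸ h8) (fun u e => ?_) (perf hKL hK) (m.mn h hm))
  obtain ⟨d, hd, rfl⟩ := m.sur u
  rw [← m.one, m.hq d hd] at e
  exact (m.ker d hd).2 (ha d hd e)

theorem Adm.g4 (h : Adm W D L) (h4 : Nat.card W ≤ 4) (ht : TSG W D) (hKL : K ≤ L) (hK : ⁅K, K⁆ = K)
    (hDK : D ≤ 𝐍(K)) (hm : MnG W D L K) (hn : ¬ K ≤ 𝐂(D)) : ∃ z x a, PF W K D z x a := by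
  obtain ⟨U, V, _, _, _, _, _, q, B, p, ι, m⟩ := model h
  obtain ⟨z, z0, y, hy, n, y5, cyc, q0, hB, sum, dec⟩ := m.qs.la4 (m.cV ▸ h4) (m.ts ht) (perf hKL hK)
    (m.mn h hm) (by by_contra! f; exact hn (m.triv h hKL hK f))
  obtain ⟨k, o, ho, e⟩ := Nat.exists_eq_two_pow_mul_odd (orderOf_pos y).ne'
  obtain ⟨x, hx, xo, xy⟩ : ∃ x : L, (x : G) ∈ K ∧ Odd (orderOf x) ∧ ∀ u : U, x • u = y • u := by
    refine ⟨y ^ 16 ^ k, pow_mem hy _, ho.of_dvd_nat (orderOf_dvd_of_pow_eq_one ?_), fun u => ?_⟩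
    · rw [← pow_mul, ← orderOf_dvd_iff_pow_eq_one, e]
      exact mul_dvd_mul_right (pow_dvd_pow_of_dvd (by norm_num) k) o
    · obtain ⟨j, hj⟩ : ∃ j, 16 ^ k = 5 * j + 1 := ⟨16 ^ k / 5, by
        have : 16 ^ k % 5 = 1 := by simp [Nat.pow_mod]
        omega⟩
      rw [hj, pow_succ, mul_smul, pow_mul]
      exact MulAction.mem_stabilizer_iff.1 (pow_mem (MulAction.mem_stabilizer_iff.2 (y5 _)) j)
  have x5 : ∀ d ∈ D, (x : G) ^ 5 * d * ((x : G) ^ 5)⁻¹ = d := fun d hd => by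
    have t : ∀ u : U, x ^ 5 • u = u := fun u => by
      simpa only [pow_succ, pow_zero, one_mul, mul_smul, xy] using y5 u
    have hw := m.eqv (conj_mem_of_mem_normalizer (h.LD (x ^ 5).2) hd) hd ((m.act _ d hd).symm.trans (t _))
    have c : ((x ^ 5 : L) : G) ^ 2 ∈ centralizer {d} := mem_centralizer_singleton_iff.2 (by
      have c := h.LW (x ^ 5).2 _ hw
      have c2 := h.w2 _ hw
      generalize ((x ^ 5 : L) : G) = s at *
      have e : s * d = d * (d⁻¹ * (s * d * s⁻¹)) * s := by group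
      generalize d⁻¹ * (s * d * s⁻¹) = w at *
      calc s ^ 2 * d = s * d * (w * s) := by rw [pow_two, mul_assoc, mul_assoc s, ← mul_assoc d, ← e]
        _ = d * (w * (s * w)) * s := by rw [e]; simp only [mul_assoc]
        _ = _ := by rw [← c, ← mul_assoc w, c2, pow_two]; group)
    have := zpowers_le.2 c (mem_zpowers_pow_iff.2 (Nat.Coprime.symm (by
      rw [orderOf_coe, Nat.coprime_two_right]; exact xo.of_dvd_nat (orderOf_pow_dvd 5))))
    exact mul_inv_eq_iff_eq_mul.2 (mem_centralizer_singleton_iff.1 this)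
  obtain ⟨b, hb, eb⟩ := m.sur (n 0)
  let c : ℕ → G := fun i => (x : G) ^ i * b * ((x : G) ^ i)⁻¹
  have cD : ∀ i, c i ∈ D := fun i => conj_mem_of_mem_normalizer (pow_mem (h.LD x.2) i) hb
  have cs : ∀ i, x * c i * (x : G)⁻¹ = c (i + 1) := fun i => by simp only [c, pow_succ']; group
  have st : ∀ i j, p (c i) = n j → p (c (i + 1)) = n (j + 1) := fun i j e => by
    rw [← cs, ← m.act x _ (cD i), e, xy, cyc]
  have e0 : p (c 0) = n 0 := by simpa [c] using eb
  have e1 := st _ _ e0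
  have e2 := st _ _ e1
  have e3 := st _ _ e2
  have e4 := st _ _ e3
  have PD := mul_mem (mul_mem (mul_mem (mul_mem (cD 0) (cD 1)) (cD 2)) (cD 3)) (cD 4)
  have PW := (m.ker _ PD).1 (by
    rw [m.mul _ _ _ (cD 4), m.mul _ _ _ (cD 3), m.mul _ _ _ (cD 2), m.mul _ (cD 0) _ (cD 1), e0, e1, e2, e3,
      e4]
    exacts [sum, mul_mem (cD 0) (cD 1), mul_mem (mul_mem (cD 0) (cD 1)) (cD 2),
      mul_mem (mul_mem (mul_mem (cD 0) (cD 1)) (cD 2)) (cD 3)])
  obtain ⟨P, hP⟩ : ∃ P, P = c 0 * c 1 * c 2 * c 3 * c 4 := ⟨_, rfl⟩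
  rw [← hP] at PD PW
  let a : Fin 5 → G := fun i => c i * P
  have aD : ∀ i, a i ∈ D := fun i => mul_mem (cD i) PD
  have pa : ∀ i, p (a i) = n i := fun i => by
    rw [m.mul _ (cD i) _ PD, (m.ker P PD).2 PW, add_zero]
    fin_cases i <;> assumption
  have sq : ∀ i, a i * a i = 1 := fun i => by rw [← m.hq _ (aD i), pa, q0, m.one]
  have xa : ∀ i, x * a i * (x : G)⁻¹ = a (i + 1) := fun i => by
    have : x * a i * (x : G)⁻¹ = c (i + 1) * P := by
      rw [← cs, ← conj_eq_of_mem_centralizer (h.LW x.2) PW]; simp only [a]; group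
    rw [this]
    fin_cases i
    exacts [rfl, rfl, rfl, rfl, congrArg (· * P) ((x5 b hb).trans (by simp [c]))]
  have pr : a 0 * a 1 * a 2 * a 3 * a 4 = 1 := by
    have k : ∀ i g, P * (c i * g) = c i * (P * g) := fun i g => by
      rw [← mul_assoc, h.cen (cD i) P PW, mul_assoc]
    change c 0 * P * (c 1 * P) * (c 2 * P) * (c 3 * P) * (c 4 * P) = 1
    simp only [mul_assoc, k, h.w2 P PW, mul_one]
    rw [← h.w2 P PW]
    nth_rewrite 2 [hP]
    simp only [mul_assoc]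
  have s : ∀ i, a i * a (i + 1) ∈ K := fun i => by
    simpa [← xa, inv_of_sq (sq i), mul_assoc] using
      mul_mem (conj_mem_of_mem_normalizer (hDK (aD i)) hx) (inv_mem hx)
  have a0 : a 0 ∈ K := by
    have := mul_mem (s 1) (s 3)
    exact (mul_mem_cancel_right this).1 ((show 1 = a 0 * (a 1 * a 2 * (a 3 * a 4)) by
      rw [← pr]; simp only [mul_assoc]) ▸ one_mem K)
  have a1 := (mul_mem_cancel_left a0).1 (s 0)
  have a2 := (mul_mem_cancel_left a1).1 (s 1)
  have a3 := (mul_mem_cancel_left a2).1 (s 2)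
  have a4 := (mul_mem_cancel_left a3).1 (s 3)
  refine ⟨ι z, x, a, ⟨mt (m.one z).1 z0, h.w2 _ (m.mem z), fun i => h.cen (aD i) _ (m.mem z), sq,
    fun i j ij => ?_, .inl pr⟩, m.mem z, aD, fun i => by fin_cases i <;> assumption, hx,
    orderOf_coe x ▸ xo, xa, fun d hd => ?_⟩
  · rw [← hB i j ij, ← pa, ← pa, m.hB _ (aD i) _ (aD j), commutatorElement_def]; group
  · rcases dec (p d) with e | ⟨i, e⟩ | ⟨i, j, ij, e⟩
    · exact ⟨d, (m.ker d hd).1 e, .inl rfl⟩
    · exact ⟨_, m.eqv hd (aD i) (e.trans (pa i).symm), .inr (.inl ⟨i, (mul_inv_cancel_left _ _).symm⟩)⟩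
    · exact ⟨_, m.eqv hd (mul_mem (aD i) (aD j)) (by rw [m.mul _ (aD i) _ (aD j), pa, pa, e]),
        .inr (.inr ⟨i, j, ij, (mul_inv_cancel_left _ _).symm⟩)⟩

theorem Adm.g5 (h : Adm W D L) (h4 : Nat.card W ≤ 4) (ht : TSG W D) {x : G} (hx : x ∈ L) (h5 : x ^ 5 = 1)
    (hc : D ≤ ⁅D, zpowers x⁆ ⊔ W) : Nat.card D ≤ 16 * Nat.card W := by
  obtain ⟨U, V, _, _, _, _, _, q, B, p, ι, m⟩ := model h
  obtain ⟨x, rfl⟩ : ∃ y : L, y = x := ⟨⟨x, hx⟩, rfl⟩
  have x5 : x ^ 5 = 1 := Subtype.ext h5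
  let t : U →+ U := ∑ i ∈ Finset.range 5, DistribSMul.toAddMonoidHom U (x ^ i)
  have ta : ∀ u, t u = u + x • u + x ^ 2 • u + x ^ 3 • u + x ^ 4 • u := fun u => by
    simp [t, Finset.sum_range_succ]
  have tx : ∀ n u, t (x ^ n • u) = t u := fun n u => by
    induction n with
    | zero => simp
    | succ n ih =>
      rw [pow_succ', mul_smul, ← ih, ta, ta]
      generalize x ^ n • u = v
      simp only [← mul_smul, ← pow_succ, ← pow_two, Nat.reduceAdd, x5, one_smul]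
      abel
  have k : D ≤ m.pre t.ker := hc.trans (sup_le (commutator_le.2 fun d hd y hy => by
    obtain ⟨n, rfl⟩ := mem_powers_iff_mem_zpowers.2 hy
    refine ⟨by simpa [commutatorElement_def, mul_assoc] using mul_mem hd (conj_mem_of_mem_normalizer
      (h.LD (x ^ n).2) (inv_mem hd)), ?_⟩
    change t (p ⁅d, ((x ^ n : L) : G)⁆) = 0
    rw [m.comm h _ hd, map_add, tx, m.qs.u2]) (m.le_pre h _))
  rw [m.cU]
  refine Nat.mul_le_mul_right _ (m.qs.fpf5 (x := x) (m.cV ▸ h4) (m.ts ht) (by simp [x5]) fun u e => ?_)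
  obtain ⟨d, hd, rfl⟩ := m.sur u
  have := (ta _).symm.trans (k hd).2
  simp only [pow_succ, pow_zero, one_mul, mul_smul, e] at this
  rwa [m.qs.u2, zero_add, m.qs.u2, zero_add] at this

end H22.RK
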