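import Mathlib
import Cfsg.Agent.Lib.Rk3C.Fr
import Cfsg.Agent.Lib.Rk3C.GL

/-!
2-rank 3: a minimal non-centralised section of `O₂(C(W))`; centralisers of `E₈`'s are solvable.
-/

set_option autoImplicit false
set_option linter.unusedSectionVars false
set_option linter.unusedVariables false

namespace H22.RK

open Subgroup H69 H70 Cfsg
open scoped commutatorElement Pointwise

variable {G : Type*} [Group G] [Finite G]

namespace A1m'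

/-- the elements of `D` with square in `C`, when `D' ≤ C`. -/
def sqSub (D C : Subgroup G) (hc : ∀ d ∈ D, ∀ e ∈ D, ⁅d, e⁆ ∈ C) : Subgroup G where
  carrier := {d | d ∈ D ∧ d * d ∈ C}
  one_mem' := ⟨one_mem _, by simp⟩
  mul_mem' := by
    rintro d e ⟨hd, hd2⟩ ⟨he, he2⟩
    refine ⟨mul_mem hd he, ?_⟩
    have : d * e * (d * e) = d * d * ⁅d⁻¹, e⁆ * (e * e) := by
      simp only [commutatorElement_def]; group
    rw [this]
    exact mul_mem (mul_mem hd2 (hc _ (inv_mem hd) _ he)) he2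
  inv_mem' := by
    rintro d ⟨hd, hd2⟩
    exact ⟨inv_mem hd, by rw [← mul_inv_rev]; exact inv_mem hd2⟩

theorem mem_sqSub {D C : Subgroup G} {hc : ∀ d ∈ D, ∀ e ∈ D, ⁅d, e⁆ ∈ C} {d : G} :
    d ∈ sqSub D C hc ↔ d ∈ D ∧ d * d ∈ C := Iff.rfl

theorem norm_sqSub {D C L : Subgroup G} {hc : ∀ d ∈ D, ∀ e ∈ D, ⁅d, e⁆ ∈ C} (h1 : L ≤ 𝐍(D)) (h2 : L ≤ 𝐍(C)) :
    L ≤ 𝐍(sqSub D C hc) :=
  le_normalizer_of_cj_le fun g hg x hx => by
    obtain ⟨a, ha, rfl⟩ := mem_cj'.1 hx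
    refine ⟨conj_mem_of_mem_normalizer (h1 hg) ha.1, ?_⟩
    have : g * a * g⁻¹ * (g * a * g⁻¹) = g * (a * a) * g⁻¹ := by group
    rw [this]
    exact conj_mem_of_mem_normalizer (h2 hg) ha.2

theorem comm_sq {d r : G} (h1 : ⁅d, r⁆ * d = d * ⁅d, r⁆) (h2 : d * d * r = r * (d * d)) :
    ⁅d, r⁆ * ⁅d, r⁆ = 1 := by
  have h3 : ⁅d * d, r⁆ = d * ⁅d, r⁆ * d⁻¹ * ⁅d, r⁆ := by
    simp only [commutatorElement_def]; group
  rw [← h1, mul_inv_cancel_right] at h3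
  rw [← h3, commutatorElement_eq_one_iff_mul_comm, h2]

theorem exists_sq {C : Subgroup G} : ∀ (k : ℕ) (d : G), d ∉ C → d ^ 2 ^ k ∈ C →
    ∃ j : ℕ, d ^ j ∉ C ∧ d ^ j * d ^ j ∈ C := by
  intro k
  induction k with
  | zero => intro d h1 h2; exact absurd (by simpa using h2) h1
  | succ k ih =>
    intro d h1 h2
    by_cases h : d ^ 2 ^ k ∈ C
    · exact ih d h1 h
    · exact ⟨2 ^ k, h, by rwa [← pow_add, ← two_mul, ← pow_succ']⟩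

end A1m'

open A1m' in
theorem exists_minD {W R K : Subgroup G} (hW : ∀ w ∈ W, w * w = 1) (hWR : W ≤ R) (hR : R ≤ 𝐎(𝐂(W)))
    (hn : 𝐂(W) ≤ 𝐍(R)) (hKL : K ≤ 𝐂(W)) (hKn : 𝐂(W) ≤ 𝐍(K)) (hK : ⁅K, K⁆ = K) (hc : ¬ K ≤ 𝐂(R))
    (hΩ : ∀ d ∈ 𝐎(𝐂(W)), d * d = 1 → d ∈ 𝐂(K) → d ∈ W) :
    ∃ D ≤ R, Adm W D 𝐂(W) ∧ MnG W D 𝐂(W) K ∧ ¬ K ≤ 𝐂(D) ∧ ∀ d ∈ D, ∀ r ∈ 𝐎(𝐂(W)), ⁅d, r⁆ ∈ W := by
  haveI : Fact (Nat.Prime 2) := ⟨Nat.prime_two⟩
  obtain ⟨D, ⟨hWD, hDR, hLD, hKD⟩, hmin⟩ := exists_minimal_of_wellFoundedLT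
    (fun D : Subgroup G => W ≤ D ∧ D ≤ R ∧ 𝐂(W) ≤ 𝐍(D) ∧ ¬ K ≤ 𝐂(D)) ⟨R, hWR, le_rfl, hn, hc⟩
  have hm : MnG W D 𝐂(W) K := fun N h1 h2 h3 => by
    by_contra h4
    exact h2.not_ge (hmin ⟨h1, h2.le.trans hDR, h3, h4⟩ h2.le)
  have hDO : D ≤ 𝐎(𝐂(W)) := hDR.trans hR
  have hOL : 𝐎(𝐂(W)) ≤ 𝐂(W) := pCoreOf_le _ _
  have hDL : D ≤ 𝐂(W) := hDO.trans hOL
  have hLW : 𝐂(W) ≤ 𝐍(W) := le_normalizer_of_le_centralizer le_rfl
  have hLO : 𝐂(W) ≤ 𝐍(𝐎(𝐂(W))) := le_normalizer_pCoreOf _ _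
  have hO : IsPGroup 2 𝐎(𝐂(W)) := isPGroup_pCoreOf _ _
  have hD : IsPGroup 2 D := hO.to_le hDO
  have hWK : W ≤ 𝐂(K) := le_centralizer_comm.1 hKL
  -- an invariant subgroup between `W` and `D` is `D` or centralises `K`
  have key : ∀ N : Subgroup G, W ≤ N → N ≤ D → 𝐂(W) ≤ 𝐍(N) → D ≤ N ∨ N ≤ 𝐂(K) := fun N h1 h2 h3 => by
    rcases h2.eq_or_lt with e | e
    · exact Or.inl e.ge
    · exact Or.inr (le_centralizer_comm.1 (hm N h1 e h3))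
  have ha : D ≤ ⁅D, K⁆ ⊔ W := by
    refine (key _ le_sup_right (sup_le (commutator_le_left_of_le_normalizer (hKL.trans hLD)) hWD)
      (H69.le_normalizer_sup (le_normalizer_commutator hLD hKn) hLW)).resolve_right fun h => ?_
    exact hKD (cent_of_perf hK (le_sup_left.trans h))
  have hb0 : ⁅D, 𝐎(𝐂(W))⁆ ≤ D := commutator_le_left_of_le_normalizer (hOL.trans hLD)
  have hb : ⁅D, 𝐎(𝐂(W))⁆ ≤ 𝐂(K) := by
    refine le_sup_right.trans ((key (W ⊔ ⁅D, 𝐎(𝐂(W))⁆) le_sup_left (sup_le hWD hb0)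
      (H69.le_normalizer_sup hLW (le_normalizer_commutator hLD hLO))).resolve_left fun h => ?_)
    have := le_of_le_sup_commutator hD hO (hOL.trans hLD) hWD (hOL.trans hLW) h
    exact hKD (hKL.trans (centralizer_anti this))
  have hLC : 𝐂(W) ≤ 𝐍(D ⊓ 𝐂(K)) := H69.le_normalizer_inf hLD (H69.le_normalizer_centralizer hKn)
  have hcc : D ≤ 𝐂(D ⊓ 𝐂(K)) := by
    refine ha.trans (sup_le (three_subgroups_cent ?_ ?_) ?_)
    · rw [commutator_comm, commutator_eq_bot_of_le_centralizer inf_le_right]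
      exact bot_le
    · exact (commutator_le_left_of_le_normalizer (hDL.trans hLC)).trans inf_le_right
    · exact le_centralizer_comm.1 (inf_le_left.trans hDL)
  have hb1 : ∀ d ∈ D, ∀ r ∈ 𝐎(𝐂(W)), ⁅d, r⁆ ∈ D ⊓ 𝐂(K) := fun d hd r hr =>
    ⟨hb0 (commutator_mem_commutator hd hr), hb (commutator_mem_commutator hd hr)⟩
  have hd2 : ∀ d ∈ D, d * d ∈ D ⊓ 𝐂(K) := by
    have hs : ∀ d ∈ D, ∀ e ∈ D, ⁅d, e⁆ ∈ D ⊓ 𝐂(K) := fun d hd e he => hb1 d hd e (hDO he)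
    rcases key (sqSub D _ hs) (fun w hw => ⟨hWD hw, by rw [hW w hw]; exact one_mem _⟩) (fun d hd => hd.1)
      (norm_sqSub hLD hLC) with h | h
    · exact fun d hd => (h hd).2
    · exfalso
      refine hKD (le_centralizer_comm.1 fun d hd => ?_)
      by_contra hn'
      obtain ⟨k, hk⟩ := H69.isPGroup_iff_mem.1 hD d hd
      obtain ⟨j, h1, h2⟩ := exists_sq (C := 𝐂(K)) k d hn' (hk ▸ one_mem _)
      exact h1 (h ⟨pow_mem hd j, mul_mem (pow_mem hd j) (pow_mem hd j), h2⟩)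
  have hg : ∀ d ∈ D, ∀ r ∈ 𝐎(𝐂(W)), d * d * r = r * (d * d) → ⁅d, r⁆ ∈ W := fun d hd r hr h =>
    hΩ _ (hDO (hb1 d hd r hr).1) (comm_sq (mem_centralizer_iff_commute.1 (hcc hd) _ (hb1 d hd r hr)) h)
      (hb1 d hd r hr).2
  have he : ∀ d ∈ D, ∀ e ∈ D, ⁅d, e⁆ ∈ W := fun d hd e he =>
    hg d hd e (hDO he) (mem_centralizer_iff_commute.1 (hcc he) _ (hd2 d hd))
  have hf : D ≤ sqSub D W he := by
    refine ha.trans (sup_le (commutator_le.2 fun d hd k hk => ?_)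
      fun w hw => ⟨hWD hw, by rw [hW w hw]; exact one_mem _⟩)
    have h1 : k * d⁻¹ * k⁻¹ ∈ D := conj_mem_of_mem_normalizer (hLD (hKL hk)) (inv_mem hd)
    have h2 : ⁅d, k⁆ = d * (k * d⁻¹ * k⁻¹) := by simp only [commutatorElement_def]; group
    refine ⟨h2 ▸ mul_mem hd h1, ?_⟩
    have h3 : k * (d * d) = d * d * k := mem_centralizer_iff_commute.1 (hd2 d hd).2 k hk
    have h4 : ⁅d, k⁆ * ⁅d, k⁆ = d * d * ⁅d⁻¹, k * d⁻¹ * k⁻¹⁆ * (k * (d * d) * k⁻¹)⁻¹ := by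
      simp only [commutatorElement_def]; group
    rw [h4, h3, mul_inv_cancel_right]
    exact conj_mem_of_mem_normalizer (hLW (hDL (mul_mem hd hd))) (he _ (inv_mem hd) _ h1)
  refine ⟨D, hDR, ⟨hWD, hW, fun d hd => (hf hd).2, hDL, le_rfl, hLD⟩, hm, hKD, fun d hd r hr => hg d hd r hr ?_⟩
  exact mem_centralizer_iff_commute.1 (hOL hr) _ (hf hd).2

/-- the centraliser of an `E₈` is solvable. -/
theorem solv8 (h : Hy G) {V : Subgroup G} (hV : E8 V) : pc 𝐂(V) = ⊥ := by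
  haveI : Fact (Nat.Prime 2) := ⟨Nat.prime_two⟩
  by_contra hne
  have hVc : V ≤ 𝐂(V) := fun a ha => mem_centralizer_iff_commute.2 fun b hb => comm_of_sq hV.sq hb ha
  have hVO : V ≤ 𝐎(𝐂(V)) := le_pCoreOf (isP_of_sq hV.sq) hVc (le_normalizer_of_le_centralizer le_rfl)
  have hc : ¬ pc 𝐂(V) ≤ 𝐂(𝐎(𝐂(V))) := fun hc => by
    have h1 : pc 𝐂(V) ≤ 𝐎(𝐂(V)) := (le_inf (pc_le _) hc).trans (h.chrC (isP_of_sq hV.sq) hV.ne_bot)
    have h2 := (isPGroup_pCoreOf 2 𝐂(V)).isNilpotent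
    exact B1'.not_solv h1 hne (pc_perf _) inferInstance
  obtain ⟨D, hD, h1, h2, h3, -⟩ := exists_minD hV.sq hVO le_rfl (le_normalizer_pCoreOf _ _) (pc_le _)
    ((le_normalizer_of_le le_rfl).trans (norm_pc _)) (pc_perf _) hc
    fun d hd d2 _ => hV.mem_of_cent h.rk d2 (pCoreOf_le _ _ hd)
  exact h3 (h1.g8 hV.card.le (fun d hd d2 => hV.mem_of_cent h.rk d2 (h1.cen hd)) (pc_le _) (pc_perf _) h2)

end H22.RK
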