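import Mathlib
import Cfsg.Agent.Lib.Rk3C.Fr

set_option autoImplicit false
set_option linter.unusedSectionVars false
set_option linter.unusedVariables false

namespace H22.RK

open Subgroup H69 H70 Cfsg
open scoped commutatorElement Pointwise

variable {G : Type*} [Group G] [Finite G] {K K' : Subgroup G} {z z' u g h k : G} {a a' : Fin 5 → G} {σ τ : Equiv.Perm (Fin 5)}

namespace FR'

/-- equality modulo `z` -/
def S (z x y : G) : Prop := x = y ∨ x = z * y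

theorem force_eq : True := by
  have := @S.eq_1.{0}
  trivial

variable {x y w x' y' : G}

theorem S.rfl : S z x x := Or.inl (Eq.refl x)

theorem S.symm (z2 : z * z = 1) (h : S z x y) : S z y x :=
  h.imp Eq.symm fun e => by rw [e, ← mul_assoc, z2, one_mul]

theorem S.trans (z2 : z * z = 1) (h : S z x y) (h' : S z y w) : S z x w := by
  rcases h with rfl | rfl
  · exact h'
  · rcases h' with rfl | rfl
    exacts [Or.inr (Eq.refl _), Or.inl (by rw [← mul_assoc, z2, one_mul])]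

theorem S.right (h : S z x y) (w : G) : S z (x * w) (y * w) :=
  h.imp (congrArg (· * w)) fun e => by rw [e, mul_assoc]

theorem S.left (h : S z x y) (c : w * z = z * w) : S z (w * x) (w * y) :=
  h.imp (congrArg (w * ·)) fun e => by rw [e, ← mul_assoc, c, mul_assoc]

theorem S.mem {H : Subgroup G} (h : S z x y) (hz : z ∈ H) (hy : y ∈ H) : x ∈ H := by
  rcases h with rfl | rfl
  exacts [hy, mul_mem hz hy]

theorem S.comm (h : S z x y) (hz : u * z = z * u) (hy : u * y = y * u) : u * x = x * u := by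
  rcases h with rfl | rfl
  exacts [hy, (Commute.mul_right hz hy :)]

theorem amem (i : Fin 5) : a i ∈ Eg a := subset_closure ⟨i, Eq.refl _⟩

theorem ainv (e : Es z a) (i : Fin 5) : (a i)⁻¹ = a i := inv_eq_of_mul_eq_one_right (e.sq i)

theorem ind (e : Es z a) {p : G → Prop} (h1 : p 1) (hm : ∀ i x, x ∈ Eg a → p x → p (a i * x)) (hu : u ∈ Eg a) :
    p u :=
  closure_induction_left (p := fun x _ => p x) h1 (by rintro _ ⟨i, rfl⟩ y hy; exact hm i y hy)
    (by rintro _ ⟨i, rfl⟩ y hy; exact (ainv e i).symm ▸ hm i y hy) hu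

theorem cz (e : Es z a) (hu : u ∈ Eg a) : u * z = z * u :=
  ind e (p := fun u => Commute u z) (Commute.one_left z) (fun i _ _ h => Commute.mul_left (e.zc i).symm h) hu

theorem cmS (e : Es z a) (i j : Fin 5) : S z (a i * a j) (a j * a i) :=
  if h : i = j then h ▸ S.rfl else Or.inr (e.cm i j h)

theorem comm_cl (e : Es z a) (h : ∀ i, S z (u * a i) (a i * u)) (hg : g ∈ Eg a) : S z (u * g) (g * u) :=
  ind e (p := fun g => S z (u * g) (g * u)) (by rw [mul_one, one_mul]; exact S.rfl) (fun i x _ hx => by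
    rw [← mul_assoc]
    refine ((h i).right x).trans e.z2 ?_
    rw [mul_assoc, mul_assoc]
    exact hx.left (e.zc i).symm) hg

/-- the word of a list -/
def wd (a : Fin 5 → G) (l : List (Fin 5)) : G := (l.map a).prod

theorem wd_mem (l : List (Fin 5)) : wd a l ∈ Eg a :=
  list_prod_mem (by simp only [List.mem_map]; rintro _ ⟨i, -, rfl⟩; exact amem i)

theorem wd_perm (e : Es z a) {l l' : List (Fin 5)} (h : l.Perm l') : S z (wd a l) (wd a l') := by
  induction h with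
  | nil => exact S.rfl
  | cons i _ ih => exact ih.left (e.zc i).symm
  | swap i j l => simpa only [wd, List.map_cons, List.prod_cons, mul_assoc] using (cmS e j i).right (wd a l)
  | trans _ _ h1 h2 => exact h1.trans e.z2 h2

theorem five (e : Es z a) {i j k l n : Fin 5} (h : [i, j, k, l, n].Perm [0, 1, 2, 3, 4]) :
    S z (a i * a j * a k * a l * a n) 1 := by
  have h0 : S z (a 0 * a 1 * a 2 * a 3 * a 4) 1 := e.prod.imp id fun h => h.trans (mul_one z).symm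
  simpa only [wd, List.map_cons, List.map_nil, List.prod_cons, List.prod_nil, mul_one, mul_assoc] using
    (wd_perm e h).trans e.z2 (by
      simpa only [wd, List.map_cons, List.map_nil, List.prod_cons, List.prod_nil, mul_one, mul_assoc] using h0)

theorem cases' (e : Es z a) (hu : u ∈ Eg a) :
    S z u 1 ∨ (∃ i, S z u (a i)) ∨ ∃ i j, i ≠ j ∧ S z u (a i * a j) := by
  refine ind e (p := fun u => S z u 1 ∨ (∃ i, S z u (a i)) ∨ ∃ i j, i ≠ j ∧ S z u (a i * a j)) (Or.inl S.rfl) ?_ hu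
  rintro k x - (h | ⟨i, h⟩ | ⟨i, j, ij, h⟩) <;> replace h := h.left (e.zc k).symm
  · exact Or.inr (Or.inl ⟨k, by rwa [mul_one] at h⟩)
  · by_cases ki : k = i
    · exact Or.inl (by rwa [← ki, e.sq] at h)
    · exact Or.inr (Or.inr ⟨k, i, ki, h⟩)
  · by_cases ki : k = i
    · exact Or.inr (Or.inl ⟨j, by rwa [← ki, ← mul_assoc, e.sq, one_mul] at h⟩)
    by_cases kj : k = j
    · refine Or.inr (Or.inl ⟨i, h.trans e.z2 ?_⟩)
      simpa only [kj, ← mul_assoc, e.sq, one_mul] using (cmS e i j).left (e.zc j).symm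
    · obtain ⟨l, n, ln, p⟩ := (by decide : ∀ k i j : Fin 5, k ≠ i → k ≠ j → i ≠ j →
        ∃ l n, l ≠ n ∧ [k, i, j, n, l].Perm [0, 1, 2, 3, 4]) k i j ki kj ij
      refine Or.inr (Or.inr ⟨l, n, ln, h.trans e.z2 ?_⟩)
      simpa only [mul_assoc, ← mul_assoc (a l), e.sq, one_mul, mul_one] using (five e p).right (a l * a n)

theorem sq2 (e : Es z a) {i j : Fin 5} (h : i ≠ j) : a i * a j * (a i * a j) = z := by
  calc _ = a i * (a j * a i) * a j := by simp only [mul_assoc]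
    _ = z * (a i * a i * (a j * a j)) := by
      rw [e.cm j i h.symm, ← mul_assoc (a i), ← e.zc]; simp only [mul_assoc]
    _ = z := by rw [e.sq, e.sq, mul_one, mul_one]

theorem S.sq (z2 : z * z = 1) (h : S z x y) (c : y * z = z * y) : x * x = y * y := by
  rcases h with rfl | rfl
  · rfl
  · rw [mul_assoc, ← mul_assoc y, c, ← mul_assoc, ← mul_assoc, z2, one_mul]

theorem S.sq_aux (z2 : z * z = 1) (c : x * z = z * x) : z * x * (z * y) = x * y := by
  rw [mul_assoc, ← mul_assoc x, c, ← mul_assoc, ← mul_assoc, z2, one_mul]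

theorem conj_wd (e : Es z a) (l : List (Fin 5)) (i : Fin 5) :
    wd a l * a i * (wd a l)⁻¹ = z ^ l.countP (· ≠ i) * a i := by
  induction l with
  | nil => simp [wd]
  | cons k l ih =>
    have c : a k * z ^ l.countP (· ≠ i) = z ^ l.countP (· ≠ i) * a k :=
      ((show Commute z (a k) from e.zc k).symm.pow_right _).eq
    calc _ = a k * (wd a l * a i * (wd a l)⁻¹) * (a k)⁻¹ := by simp only [wd, List.map_cons, List.prod_cons]; group
      _ = z ^ l.countP (· ≠ i) * (a k * a i * (a k)⁻¹) := by rw [ih, ← mul_assoc, c]; simp only [mul_assoc]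
      _ = _ := by
        by_cases ki : k = i
        · simp [ki]
        · rw [e.cm k i ki, List.countP_cons_of_pos (by simpa using ki), pow_succ]; simp only [mul_assoc]; simp

theorem act_conj (e : Es z a) (hz : h * z = z * h) (hA : Act z a h 1) (hu : u ∈ Eg a) : S z (h * u * h⁻¹) u := by
  have := (comm_cl e (u := h) (fun i => by simpa using S.right (hA i) h) hu).right h⁻¹
  rwa [mul_inv_cancel_right] at this

theorem flip (e : Es z a) (h2 : u * u = 1) {ε x y : G} (hε : ε = 1 ∨ ε = z) (hz : u * z = z * u)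
    (h : u * x * u⁻¹ = ε * y) : u * y * u⁻¹ = ε * x := by
  have e1 : u * (u * x * u⁻¹) * u⁻¹ = x := by
    calc _ = u * u * x * (u * u)⁻¹ := by group
      _ = x := by rw [h2]; simp
  rcases hε with rfl | rfl
  · rw [one_mul] at h ⊢; rw [← h, e1]
  · rw [← e1, h, ← mul_assoc u, hz, mul_assoc ε u, mul_assoc ε, ← mul_assoc ε ε, e.z2, one_mul]

theorem mp_sign {i j : Fin 5} (h1 : Mp z a h i j) : ∃ ε, (ε = 1 ∨ ε = z) ∧ h * a i * h⁻¹ = ε * a j :=
  h1.elim (fun e => ⟨1, Or.inl rfl, by rw [e, one_mul]⟩) fun e => ⟨z, Or.inr rfl, e⟩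

theorem conj2 (e : Es z a) {ε : G} (hε : ε = 1 ∨ ε = z) {i j k l : Fin 5} (h1 : u * a i * u⁻¹ = ε * a k)
    (h2 : u * a j * u⁻¹ = ε * a l) : u * (a i * a j) * u⁻¹ = a k * a l := by
  rw [← conj_mul, h1, h2]
  rcases hε with rfl | rfl
  · rw [one_mul, one_mul]
  · rw [mul_assoc, ← mul_assoc (a k), ← e.zc, ← mul_assoc, ← mul_assoc, e.z2, one_mul]

theorem odd_pow (x : G) : Odd (orderOf (x ^ 4 ^ orderOf x)) := by
  obtain ⟨n, m, hm, e⟩ := Nat.exists_eq_two_pow_mul_odd (orderOf_pos x).ne'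
  refine hm.of_dvd_nat (orderOf_dvd_of_pow_eq_one ?_)
  rw [← pow_mul, ← orderOf_dvd_iff_pow_eq_one]
  nth_rewrite 1 [e]
  refine Nat.mul_dvd_mul_right ((pow_dvd_pow 2 ?_).trans (pow_dvd_pow_of_dvd (by norm_num) _)) m
  exact (Nat.lt_two_pow_self.le.trans (Nat.le_mul_of_pos_right _ hm.pos)).trans e.ge

theorem dec8 : ∀ σ : Equiv.Perm (Fin 5), σ ≠ 1 → ∃ i j k : Fin 5, i ≠ j ∧ i ≠ k ∧
    (σ * (Equiv.swap i j * Equiv.swap i k) * σ⁻¹ * (Equiv.swap i j * Equiv.swap i k)⁻¹) ^ 8 ≠ 1 := by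
  decide +kernel

theorem dec2 : ∀ σ : Equiv.Perm (Fin 5), σ * σ = 1 → σ ≠ 1 → Equiv.Perm.sign σ = 1 →
    ∃ i k n, [i, σ i, k, σ k, n].Perm [0, 1, 2, 3, 4] ∧ i ≠ σ i ∧ k ≠ σ k := by decide +kernel

theorem dec3 : ∀ σ : Equiv.Perm (Fin 5), σ * σ = 1 → Equiv.Perm.sign σ = -1 →
    ∃ i j k, i ≠ j ∧ i ≠ k ∧ j ≠ k ∧ σ i = i ∧ σ j = j ∧ σ k = k := by decide +kernel

end FR'

open FR'

theorem Es.z_mem (e : Es z a) : z ∈ Eg a := by
  exact sq2 e (show (0 : Fin 5) ≠ 1 by decide) ▸ mul_mem (mul_mem (amem 0) (amem 1)) (mul_mem (amem 0) (amem 1))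

theorem Es.ne (e : Es z a) {i j : Fin 5} (h : i ≠ j) : a i ≠ a j ∧ a i ≠ z * a j ∧ a i * a j ≠ a j * a i := by
  have n : a i * a j ≠ a j * a i := fun c => e.z1 (by simpa [c] using (e.cm i j h).symm)
  exact ⟨fun c => n (by rw [c]), fun c => n (S.comm (Or.inr c) (e.zc j).symm rfl).symm, n⟩

theorem Es.cases (e : Es z a) (hu : u ∈ Eg a) :
    ∃ ε, (ε = 1 ∨ ε = z) ∧ (u = ε ∨ (∃ i, u = ε * a i) ∨ ∃ i j, i ≠ j ∧ u = ε * (a i * a j)) := by
  rcases cases' e hu with (h | h) | ⟨i, h | h⟩ | ⟨i, j, ij, h | h⟩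
  exacts [⟨1, Or.inl rfl, Or.inl h⟩, ⟨z, Or.inr rfl, Or.inl (h.trans (mul_one z))⟩,
    ⟨1, Or.inl rfl, Or.inr (Or.inl ⟨i, h.trans (one_mul _).symm⟩)⟩, ⟨z, Or.inr rfl, Or.inr (Or.inl ⟨i, h⟩)⟩,
    ⟨1, Or.inl rfl, Or.inr (Or.inr ⟨i, j, ij, h.trans (one_mul _).symm⟩)⟩,
    ⟨z, Or.inr rfl, Or.inr (Or.inr ⟨i, j, ij, h⟩)⟩]

theorem Es.sq_cases (e : Es z a) (hu : u ∈ Eg a) : u * u = 1 ∨ u * u = z := by
  rcases cases' e hu with h | ⟨i, h⟩ | ⟨i, j, ij, h⟩
  · exact Or.inl (by rw [h.sq e.z2 (by simp), one_mul])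
  · exact Or.inl (by rw [h.sq e.z2 (e.zc i).symm, e.sq])
  · exact Or.inr (by rw [h.sq e.z2 (cz e (mul_mem (amem i) (amem j))), sq2 e ij])

theorem Es.inv_cases (e : Es z a) (hu : u ∈ Eg a) (h2 : u * u = 1) :
    u = 1 ∨ u = z ∨ ∃ i, u = a i ∨ u = z * a i := by
  rcases cases' e hu with (h | h) | ⟨i, h⟩ | ⟨i, j, ij, h⟩
  exacts [Or.inl h, Or.inr (Or.inl (h.trans (mul_one z))), Or.inr (Or.inr ⟨i, h⟩),
    absurd (by rw [← h2, h.sq e.z2 (cz e (mul_mem (amem i) (amem j))), sq2 e ij]) e.z1]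

theorem Es.comm (e : Es z a) (hu : u ∈ Eg a) (hg : g ∈ Eg a) : u * g = g * u ∨ u * g = z * (g * u) := by
  exact comm_cl e (fun i => (comm_cl e (cmS e i) hu).symm e.z2) hg

theorem Es.isP (e : Es z a) : IsPGroup 2 (Eg a) := by
  refine fun u => ⟨2, Subtype.ext ?_⟩
  change (u : G) ^ (2 * 2) = 1
  rw [pow_mul, pow_two, pow_two]
  rcases e.sq_cases u.2 with h | h <;> rw [h]
  exacts [mul_one 1, e.z2]

/-- an element fixing every `a i` modulo `z` (and `z`) acts as an element of `E`. -/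
theorem Es.inner (e : Es z a) (hz : h * z = z * h) (hA : Act z a h 1) :
    ∃ x ∈ Eg a, ∀ i, x⁻¹ * h * a i = a i * (x⁻¹ * h) := by
  have : ∀ i, ∃ s : Bool, h * a i * h⁻¹ = z ^ s.toNat * a i := fun i =>
    (hA i).elim (fun c => ⟨false, by simpa using c⟩) fun c => ⟨true, by simpa using c⟩
  choose s hs using this
  have z2 : z ^ 2 = 1 := by rw [pow_two, e.z2]
  have c : ∀ (n : ℕ) {x : G}, x ∈ Eg a → ∀ y, x * (z ^ n * y) = z ^ n * (x * y) := fun n x hx y => by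
    rw [← mul_assoc, ((show Commute x z from cz e hx).pow_right n).eq, mul_assoc]
  have ev : ((s 0).toNat + ((s 1).toNat + ((s 2).toNat + ((s 3).toNat + (s 4).toNat)))) % 2 = 0 := by
    have p : h * (a 0 * (a 1 * (a 2 * (a 3 * a 4)))) * h⁻¹ = a 0 * (a 1 * (a 2 * (a 3 * a 4))) := by
      rw [mul_inv_eq_iff_eq_mul]
      refine S.comm (y := 1) ?_ hz (by simp)
      simpa only [mul_assoc] using five e (List.Perm.refl _)
    rw [← conj_mul, ← conj_mul, ← conj_mul, ← conj_mul, hs, hs, hs, hs, hs] at p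
    simp only [mul_assoc, c _ (amem _)] at p
    simp only [← mul_assoc, ← pow_add, mul_left_inj, mul_eq_right] at p
    rw [pow_eq_pow_mod _ z2] at p
    exact (Nat.mod_two_eq_zero_or_one _).resolve_right fun q => e.z1 (by rwa [q, pow_one] at p)
  refine ⟨wd a ((List.finRange 5).filter s), wd_mem _, fun i => ?_⟩
  have q := (by decide : ∀ s : Fin 5 → Bool,
    ((s 0).toNat + ((s 1).toNat + ((s 2).toNat + ((s 3).toNat + (s 4).toNat)))) % 2 = 0 →
    ∀ i, ((List.finRange 5).filter s).countP (· ≠ i) % 2 = (s i).toNat % 2) s ev i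
  have r := conj_wd e ((List.finRange 5).filter s) i
  rw [pow_eq_pow_mod _ z2, q, ← pow_eq_pow_mod _ z2, ← hs] at r
  generalize wd a _ = x at r
  calc x⁻¹ * h * a i = x⁻¹ * (h * a i * h⁻¹) * h := by group
    _ = _ := by rw [← r]; group

theorem Es.mp_uniq (e : Es z a) {i j j' : Fin 5} (h1 : Mp z a h i j) (h2 : Mp z a h i j') : j = j' := by
  by_contra n
  exact (S.trans e.z2 (S.symm e.z2 h1) h2).elim (e.ne n).1 (e.ne n).2.1

theorem Es.act_uniq (e : Es z a) (h1 : Act z a h σ) (h2 : Act z a h τ) : σ = τ := by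
  exact Equiv.ext fun i => e.mp_uniq (h1 i) (h2 i)

theorem Es.act_mul (e : Es z a) (hz : g * z = z * g) (h1 : Act z a g σ) (h2 : Act z a h τ) :
    Act z a (g * h) (σ * τ) := by
  intro i
  have := S.trans e.z2 ((S.left (h2 i) hz).right g⁻¹) (h1 (τ i))
  rwa [show g * (h * a i * h⁻¹) * g⁻¹ = g * h * a i * (g * h)⁻¹ by group] at this

theorem Es.act_inv (e : Es z a) (hz : g * z = z * g) (h1 : Act z a g σ) : Act z a g⁻¹ σ⁻¹ := by
  intro i
  have := ((S.symm e.z2 (h1 (σ⁻¹ i))).left (show Commute g z from hz).inv_left.eq).right g⁻¹⁻¹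
  rwa [show g⁻¹ * (g * a (σ⁻¹ i) * g⁻¹) * g⁻¹⁻¹ = a (σ⁻¹ i) by group,
    show σ (σ⁻¹ i) = i from σ.apply_symm_apply i] at this

theorem Es.act_pow (e : Es z a) (hz : g * z = z * g) (h1 : Act z a g σ) (n : ℕ) : Act z a (g ^ n) (σ ^ n) := by
  induction n with
  | zero => exact fun i => Or.inl (by simp)
  | succ n ih => rw [pow_succ', pow_succ']; exact e.act_mul hz h1 ih

theorem Es.act_of_mem (e : Es z a) (hu : u ∈ Eg a) : Act z a u 1 := by
  intro i
  have := S.right (e.comm hu (amem i)) u⁻¹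
  rwa [mul_inv_cancel_right] at this

theorem act_of_comm (hu : ∀ i, u * a i = a i * u) : Act z a u 1 := by
  exact fun i => Or.inl (by rw [hu, mul_inv_cancel_right]; rfl)

/-- an involution inducing a double transposition centralises the generator at the fixed point. -/
theorem Es.type2 (e : Es z a) (hz : u * z = z * u) (h2 : u * u = 1) (hA : Act z a u σ) (h1 : σ ≠ 1)
    (hs : Equiv.Perm.sign σ = 1) : ∃ i, u * a i = a i * u := by
  have s2 : σ * σ = 1 := e.act_uniq (e.act_mul hz hA hA) (h2 ▸ act_of_comm fun i => by simp)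
  obtain ⟨i, k, n, p, hi, hk⟩ := dec2 σ s2 h1 hs
  have q : ∀ i, i ≠ σ i → u * (a i * a (σ i)) * u⁻¹ = z * (a i * a (σ i)) := fun i hi => by
    obtain ⟨ε, hε, c⟩ := mp_sign (hA i)
    rw [conj2 e hε c (flip e h2 hε hz c), e.cm _ _ hi.symm]
  have r : u * (a i * a (σ i) * (a k * a (σ k))) * u⁻¹ = a i * a (σ i) * (a k * a (σ k)) := by
    rw [← conj_mul, q i hi, q k hk, S.sq_aux e.z2 (cz e (mul_mem (amem _) (amem _)))]
  have t := (five e p).right (a n)
  rw [mul_assoc _ (a n), e.sq, mul_one, one_mul, mul_assoc (a i * a (σ i))] at t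
  exact ⟨n, (t.symm e.z2).comm hz (mul_inv_eq_iff_eq_mul.1 r)⟩

/-- an involution inducing a transposition centralises a square root of `z`. -/
theorem Es.type3 (e : Es z a) (hz : u * z = z * u) (h2 : u * u = 1) (hA : Act z a u σ)
    (hs : Equiv.Perm.sign σ = -1) : ∃ c ∈ Eg a, c * c = z ∧ u * c = c * u := by
  have s2 : σ * σ = 1 := e.act_uniq (e.act_mul hz hA hA) (h2 ▸ act_of_comm fun i => by simp)
  obtain ⟨i, j, k, ij, ik, jk, fi, fj, fk⟩ := dec3 σ s2 hs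
  have q : ∀ {i j ε}, i ≠ j → (ε = 1 ∨ ε = z) → u * a i * u⁻¹ = ε * a i → u * a j * u⁻¹ = ε * a j →
      ∃ c ∈ Eg a, c * c = z ∧ u * c = c * u := fun ij hε c d =>
    ⟨_, mul_mem (amem _) (amem _), sq2 e ij, mul_inv_eq_iff_eq_mul.1 (conj2 e hε c d)⟩
  obtain ⟨ε1, e1, c1⟩ := mp_sign (hA i)
  obtain ⟨ε2, e2, c2⟩ := mp_sign (hA j)
  obtain ⟨ε3, e3, c3⟩ := mp_sign (hA k)
  rw [fi] at c1; rw [fj] at c2; rw [fk] at c3
  rcases e1 with rfl | rfl <;> rcases e2 with rfl | e2 <;> rcases e3 with rfl | e3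
  exacts [q ij (Or.inl rfl) c1 c2, q ij (Or.inl rfl) c1 c2, q ik (Or.inl rfl) c1 c3,
    q jk (Or.inr rfl) (e2 ▸ c2) (e3 ▸ c3), q jk (Or.inl rfl) c2 c3, q ik (Or.inr rfl) c1 (e3 ▸ c3),
    q ij (Or.inr rfl) c1 (e2 ▸ c2), q ij (Or.inr rfl) c1 (e2 ▸ c2)]

namespace FR'

theorem hom (e : Es z a) (hK : ⁅K, K⁆ = K) (hz : ∀ k ∈ K, k * z = z * k) (hA : ∀ k ∈ K, ∀ i, ∃ j, Mp z a k i j) :
    (∀ k ∈ K, ∃ σ, Act z a k σ ∧ Equiv.Perm.sign σ = 1) ∧
      (¬ K ≤ 𝐂(Eg a) → ∀ σ, Equiv.Perm.sign σ = 1 → ∃ k ∈ K, Act z a k σ) := by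
  obtain ⟨φ, hφ⟩ := exists_perm (K := K) (fun k => Mp z a k) (fun k => hA k k.2) (fun _ _ _ _ => e.mp_uniq)
    (fun i => Or.inl (by simp)) fun k l i j n h1 h2 => by
      have := S.trans e.z2 ((S.left h1 (hz k k.2)).right (k : G)⁻¹) h2
      rwa [show k * (l * a i * (l : G)⁻¹) * (k : G)⁻¹ = k * l * a i * (k * l : G)⁻¹ by group] at this
  obtain ⟨p, q⟩ := perf5 (K := ⊤) (map_injective K.subtype_injective (by
    rw [map_commutator, ← MonoidHom.range_eq_map, range_subtype, hK])) φ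
  refine ⟨fun k hk => ⟨_, hφ ⟨k, hk⟩, p _ (mem_top _)⟩, fun n σ s => ?_⟩
  obtain ⟨k, -, rfl⟩ := q (by
    by_contra! c
    refine n (cent_of_perf hK (commutator_le.2 fun x hx k hk l hl => ?_))
    have := (act_conj e (hz k hk) (c ⟨k, hk⟩ (mem_top _) ▸ hφ ⟨k, hk⟩) (inv_mem hx)).left (cz e hx)
    rw [mul_inv_cancel] at this
    exact S.comm (by simpa only [commutatorElement_def, mul_assoc] using this) (hz l hl) (by simp)) σ s
  exact ⟨k, k.2, hφ k⟩

theorem nE' (c : ∀ i, h * a i * h⁻¹ ∈ Eg a) : h ∈ 𝐍(Eg a) :=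
  mem_normalizer_of_cj_le (cj_le_iff.2 ((closure_le _).2 (by
    rintro _ ⟨i, rfl⟩
    exact mem_cj.2 (by simpa using c i))))

theorem nE (f : Fr K z a) : K ≤ 𝐍(Eg a) := fun k hk => nE' fun i =>
  let ⟨j, c⟩ := f.act k hk i; S.mem c f.es.z_mem (amem j)

theorem two (e : Es z a) {P : Subgroup G} (hP : IsPGroup 2 P) (hz : ∀ u ∈ P, u * z = z * u)
    (hA : ∀ u ∈ P, ∃ σ, Act z a u σ) (hn : K ≤ 𝐍(P)) (kz : ∀ k ∈ K, k * z = z * k)
    (sj : ∀ σ, Equiv.Perm.sign σ = 1 → ∃ k ∈ K, Act z a k σ) (hh : h ∈ P) : Act z a h 1 := by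
  obtain ⟨σ, A⟩ := hA h hh
  by_cases s : σ = 1
  · exact s ▸ A
  obtain ⟨i, j, l, ij, il, n⟩ := dec8 σ s
  obtain ⟨k, hk, B⟩ := sj (Equiv.swap i j * Equiv.swap i l) (by simp [ij, il])
  have c1 : Commute h z := hz h hh
  have c2 : Commute k z := kz k hk
  have C := e.act_mul ((c1.mul_left c2).mul_left c1.inv_left) (e.act_mul (c1.mul_left c2) (e.act_mul c1 A B)
    (e.act_inv c1 A)) (e.act_inv c2 B)
  have m : h * k * h⁻¹ * k⁻¹ ∈ P := by
    simpa only [mul_assoc] using mul_mem hh ((mem_normalizer_iff.1 (hn hk) _).1 (inv_mem hh))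
  obtain ⟨r, hr⟩ := hP ⟨_, m⟩
  have D := e.act_pow (hz _ m) C (2 ^ r)
  rw [show (h * k * h⁻¹ * k⁻¹) ^ 2 ^ r = 1 from congrArg Subtype.val hr] at D
  have o := orderOf_dvd_of_pow_eq_one (e.act_uniq D (act_of_comm fun i => by simp))
  refine absurd (orderOf_dvd_iff_pow_eq_one.1 (Nat.Coprime.dvd_of_dvd_mul_right (n := 15)
    ((show Nat.Coprime (2 ^ r) 15 from Nat.Coprime.pow_left r (by norm_num)).coprime_dvd_left o) ?_)) n
  simpa [Fintype.card_perm, Nat.factorial] using orderOf_dvd_natCard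
    (σ * (Equiv.swap i j * Equiv.swap i l) * σ⁻¹ * (Equiv.swap i j * Equiv.swap i l)⁻¹)

theorem perm_of (e : Es z a) (e' : Es z a') (m : ∀ i, a' i ∈ Eg a) :
    ∃ σ : Equiv.Perm (Fin 5), ∀ i, S z (a' i) (a (σ i)) := by
  have : ∀ i, ∃ j, S z (a' i) (a j) := fun i => by
    have n := (e'.ne ((by decide : ∀ i : Fin 5, i ≠ i + 1) i)).2.2
    rcases e.inv_cases (m i) (e'.sq i) with c | c | c
    exacts [absurd (by simp [c]) n, absurd (c ▸ e'.zc _) n, c]
  choose f hf using this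
  have fi : Function.Injective f := fun i j c => by_contra fun n =>
    ((hf i).trans e.z2 (c ▸ (hf j).symm e.z2)).elim (e'.ne n).1 (e'.ne n).2.1
  exact ⟨Equiv.ofBijective f (Finite.injective_iff_bijective.1 fi), hf⟩

end FR'

theorem Fr.E_le (f : Fr K z a) : Eg a ≤ K := by
  exact (closure_le K).2 (by rintro _ ⟨i, rfl⟩; exact f.mem i)

theorem Fr.act_mem (f : Fr K z a) (hk : k ∈ K) : ∃ σ, Act z a k σ ∧ Equiv.Perm.sign σ = 1 := by
  exact (hom f.es f.perf (fun k hk => f.zc k hk) f.act).1 k hk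

theorem Fr.surj (f : Fr K z a) (hs : Equiv.Perm.sign σ = 1) : ∃ k ∈ K, Act z a k σ := by
  exact (hom f.es f.perf (fun k hk => f.zc k hk) f.act).2 (fun c => (f.es.ne (show (0 : Fin 5) ≠ 1 by decide)).2.2
    (c (f.mem 1) _ (amem 0))) σ hs

theorem Fr.lift3 (f : Fr K z a) (h3 : σ ^ 3 = 1) {i : Fin 5} (hi : σ i = i) :
    ∃ k ∈ K, Odd (orderOf k) ∧ Act z a k σ ∧ k * a i = a i * k := by
  have hs : Equiv.Perm.sign σ = 1 := by
    have := congrArg Equiv.Perm.sign h3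
    rw [map_pow, map_one] at this
    rcases Int.units_eq_one_or (Equiv.Perm.sign σ) with c | c
    · exact c
    · rw [c] at this; exact absurd this (by decide)
  obtain ⟨k, hk, A⟩ := f.surj hs
  have B := f.es.act_pow (f.zc k hk) A (4 ^ orderOf k)
  rw [pow_eq_pow_mod _ h3, Nat.pow_mod, show 4 % 3 = 1 from rfl, one_pow, show 1 % 3 = 1 from rfl, pow_one] at B
  have o := odd_pow k
  have m := pow_mem hk (4 ^ orderOf k)
  generalize k ^ 4 ^ orderOf k = y at B o m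
  refine ⟨y, m, o, B, ?_⟩
  obtain ⟨ε, hε, c⟩ := mp_sign (B i)
  rw [hi] at c
  have c2 : Commute (y ^ 2) (a i) := by
    refine mul_inv_eq_iff_eq_mul.1 ?_
    calc y ^ 2 * a i * (y ^ 2)⁻¹ = y * (y * a i * y⁻¹) * y⁻¹ := by rw [pow_two]; group
      _ = _ := by
        rcases hε with rfl | rfl
        · rw [one_mul] at c; rw [c, c]
        · rw [c, ← mul_assoc y, f.zc y m, mul_assoc ε y, mul_assoc ε, c, ← mul_assoc, f.es.z2, one_mul]
  obtain ⟨n, hn⟩ := o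
  have := (c2.pow_left (n + 1)).eq
  rwa [← pow_mul, show 2 * (n + 1) = orderOf y + 1 by omega, pow_succ, pow_orderOf_eq_one, one_mul] at this

theorem Fr.conj (f : Fr K z a) (g : G) : Fr (K ^ᶜ g) (g * z * g⁻¹) fun i => g * a i * g⁻¹ := by
  refine ⟨⟨fun c => f.es.z1 (by simpa using c), by rw [conj_mul, f.es.z2]; simp,
    fun i => by rw [conj_mul, conj_mul, f.es.zc], fun i => by rw [conj_mul, f.es.sq]; simp,
    fun i j ij => by rw [conj_mul, conj_mul, conj_mul, f.es.cm i j ij], ?_⟩, cj_perf f.perf g,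
    fun i => cj_mem g (f.mem i), cj_centralizer K g ▸ cj_mem g f.zc, fun k hk i => ?_, fun k hk c => ?_⟩
  · simp only [conj_mul]
    exact f.es.prod.imp (fun c => by rw [c]; simp) fun c => by rw [c]
  · obtain ⟨k, hk', rfl⟩ := mem_cj'.1 hk
    obtain ⟨j, c⟩ := f.act k hk' i
    refine ⟨j, ?_⟩
    simp only [Mp, conj_mul, conj_inv]
    exact c.imp (fun c => by rw [c]) fun c => by rw [c]
  · obtain ⟨k, hk', rfl⟩ := mem_cj'.1 hk
    exact cj_centralizer K g ▸ cj_mem g (f.cent k hk' fun i => by simpa only [conj_mul, mul_left_inj, mul_right_inj] using c i)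

theorem Fr.uniq (f : Fr K z a) (f' : Fr K' z' a') (h : K ≤ K') : K = K' ∧ z = z' ∧ Eg a = Eg a' := by
  have e := f.es
  have e' := f'.es
  have n01 := (e.ne (show (0 : Fin 5) ≠ 1 by decide)).2.2
  have sj := (hom e' f.perf (fun k hk => f'.zc k (h hk)) fun k hk => f'.act k (h hk)).2 fun c =>
    n01 (f'.cent _ (h (f.mem 1)) (fun i => (c (f.mem 1) _ (amem i)).symm) _ (h (f.mem 0)))
  have dc : ∀ k ∈ K', Act z' a' k 1 → ∃ x ∈ Eg a', ∃ y ∈ 𝐂(K'), k = x * y := fun k hk A => by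
    obtain ⟨x, hx, c⟩ := e'.inner (f'.zc k hk) A
    exact ⟨x, hx, _, f'.cent _ (mul_mem (inv_mem (f'.E_le hx)) hk) c, by simp⟩
  have de : ∀ u ∈ Eg a, ∃ x ∈ Eg a', ∃ y ∈ 𝐂(K'), u = x * y := fun u hu => dc u (h (f.E_le hu))
    (two e' e.isP (fun u hu => f'.zc u (h (f.E_le hu)))
      (fun u hu => (f'.act_mem (h (f.E_le hu))).imp fun _ c => c.1) (nE f) (fun k hk => f'.zc k (h hk)) sj hu)
  have cm : ∀ k ∈ K', ∀ x, ∀ y ∈ 𝐂(K'), k * (x * y) * k⁻¹ * (x * y)⁻¹ = k * x * k⁻¹ * x⁻¹ := fun k hk x y hy => by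
    rw [← conj_mul, hy k hk]; group
  have zz : z = z' := by
    obtain ⟨x0, h0, y0, c0, e0⟩ := de _ (amem 0)
    obtain ⟨x1, h1, y1, c1, e1⟩ := de _ (amem 1)
    have q : z = x0 * x1 * x0⁻¹ * x1⁻¹ := by
      calc z = a 0 * a 1 * (a 0)⁻¹ * (a 1)⁻¹ := by rw [e.cm 0 1 (by decide)]; group
        _ = x0 * (y0 * x1 * y0⁻¹) * x0⁻¹ * x1⁻¹ := by rw [e1, cm _ (h (f.mem 0)) _ _ c1, e0]; group
        _ = _ := by rw [← c0 _ (f'.E_le h1), mul_inv_cancel_right]
    rcases e'.comm h0 h1 with c | c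
    · exact absurd (by rw [q, c]; group) e.z1
    · rw [q, c]; group
  subst zz
  have p : ∀ i, a (i + 1) * a i ∈ Eg a' := fun i => by
    obtain ⟨k, hk, A⟩ := f.surj (σ := finRotate 5) (by decide)
    obtain ⟨x, hx, y, hy, c⟩ := de _ (amem i)
    have m : k * a i * k⁻¹ * (a i)⁻¹ ∈ Eg a' := by
      rw [c, cm k (h hk) x y hy]
      exact mul_mem ((mem_normalizer_iff.1 (nE f' (h hk)) x).1 hx) (inv_mem hx)
    rw [ainv e] at m
    simpa using ((S.symm e.z2 (A i)).right (a i)).mem e'.z_mem m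
  have p' : ∀ i, a i * a (i + 1) ∈ Eg a' := fun i => by simpa [ainv e] using inv_mem (p i)
  have m0 : a 0 ∈ Eg a' := by
    have : a 0 * (a 1 * a 2 * (a 3 * a 4)) ∈ Eg a' := by
      simp only [← mul_assoc]
      exact e.prod.elim (fun c => c ▸ one_mem _) fun c => c ▸ e'.z_mem
    exact (mul_mem_cancel_right (mul_mem (p' 1) (p' 3))).1 this
  have m1 : a 1 ∈ Eg a' := (mul_mem_cancel_left m0).1 (p' 0)
  have m2 : a 2 ∈ Eg a' := (mul_mem_cancel_left m1).1 (p' 1)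
  have m3 : a 3 ∈ Eg a' := (mul_mem_cancel_left m2).1 (p' 2)
  have m4 : a 4 ∈ Eg a' := (mul_mem_cancel_left m3).1 (p' 3)
  have ma : ∀ i, a i ∈ Eg a' := fun i => by fin_cases i <;> assumption
  obtain ⟨σ, hσ⟩ := perm_of e' e ma
  have le : Eg a' ≤ Eg a := (closure_le _).2 (by
    rintro _ ⟨j, rfl⟩
    obtain ⟨i, rfl⟩ := σ.surjective j
    exact ((hσ i).symm e.z2).mem e.z_mem (amem i))
  refine ⟨le_antisymm h ?_, rfl, le_antisymm ((closure_le _).2 (by rintro _ ⟨i, rfl⟩; exact ma i)) le⟩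
  have d : ∀ k' ∈ K', ∃ k ∈ K, ∃ y ∈ 𝐂(K'), k' = k * y := fun k' hk' => by
    obtain ⟨τ, A, s⟩ := f'.act_mem hk'
    obtain ⟨k, hk, B⟩ := sj τ s
    have C := e'.act_mul (f'.zc _ (h (inv_mem hk))) (e'.act_inv (f'.zc _ (h hk)) B) A
    obtain ⟨x, hx, y, hy, c⟩ := dc _ (mul_mem (inv_mem (h hk)) hk') (inv_mul_cancel τ ▸ C)
    exact ⟨k * x, mul_mem hk (f.E_le (le hx)), y, hy, by rw [mul_assoc, ← c]; simp⟩
  rw [← f'.perf, commutator_le]
  intro k1 h1 k2 h2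
  obtain ⟨l1, n1, y1, c1, e1⟩ := d k1 h1
  obtain ⟨l2, n2, y2, c2, rfl⟩ := d k2 h2
  rw [commutatorElement_def, cm _ h1 _ _ c2, e1,
    show l1 * y1 * l2 * (l1 * y1)⁻¹ = l1 * (y1 * l2 * y1⁻¹) * l1⁻¹ by group, ← c1 _ (h n2), mul_inv_cancel_right]
  exact mul_mem (mul_mem (mul_mem n1 n2) (inv_mem n1)) (inv_mem n2)

theorem Fr.norm_le (f : Fr K z a) : 𝐍(K) ≤ centralizer {z} := by
  intro h hh
  have := (f.uniq (f.conj h) (cj_eq_of_mem_normalizer hh).ge).2.1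
  exact mem_centralizer_singleton_iff.2 (mul_inv_eq_iff_eq_mul.1 this.symm)

theorem Fr.normE (f : Fr K z a) : 𝐍(K) ≤ 𝐍(Eg a) := by
  intro h hh
  have := (f.uniq (f.conj h) (cj_eq_of_mem_normalizer hh).ge).2.2
  exact nE' fun i => this ▸ amem (a := fun i => h * a i * h⁻¹) i

theorem Fr.act_norm (f : Fr K z a) (hh : h ∈ 𝐍(K)) : ∃ σ, Act z a h σ := by
  have c := f.conj h
  rw [mem_centralizer_singleton_iff.1 (f.norm_le hh), mul_inv_cancel_right] at c
  exact perm_of f.es c.es fun i => (mem_normalizer_iff.1 (f.normE hh) _).1 (amem i)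

theorem Fr.ker (f : Fr K z a) (hh : h ∈ 𝐍(K)) (hA : Act z a h 1) : ∃ x ∈ Eg a, ∃ y ∈ 𝐂(K), h = x * y := by
  obtain ⟨x, hx, c⟩ := f.es.inner (mem_centralizer_singleton_iff.1 (f.norm_le hh)) hA
  have cE : ∀ {y : G}, (∀ i, y * a i = a i * y) → y ∈ 𝐂(Eg a) := fun {y} c u hu =>
    (ind f.es (p := fun u => Commute u y) (Commute.one_left y) (fun i _ _ h => Commute.mul_left (c i).symm h) hu :)
  have : K ≤ 𝐂(𝐍(K) ⊓ 𝐂(Eg a)) := cent_of_perf f.perf (commutator_le.2 fun y hy k hk => by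
    refine f.cent _ (mul_mem ((mem_normalizer_iff.1 hy.1 k).1 hk) (inv_mem hk)) fun i => ?_
    have q := (𝐂(Eg a)).inv_mem hy.2 _ ((mem_normalizer_iff.1 (nE f (inv_mem hk)) _).1 (amem i))
    calc y * k * y⁻¹ * k⁻¹ * a i = y * k * (y⁻¹ * (k⁻¹ * a i * k⁻¹⁻¹)) * k⁻¹ := by group
      _ = y * a i * (k * y⁻¹ * k⁻¹) := by rw [← q]; group
      _ = _ := by rw [← hy.2 _ (amem i), commutatorElement_def]; group)
  exact ⟨x, hx, x⁻¹ * h, fun k hk =>
    (this hk _ ⟨(𝐍(K)).mul_mem (inv_mem (le_normalizer (f.E_le hx))) hh, cE c⟩).symm, by simp⟩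

theorem Fr.act_two (f : Fr K z a) {P : Subgroup G} (hP : IsPGroup 2 P) (h1 : P ≤ 𝐍(K)) (h2 : K ≤ 𝐍(P))
    (hh : h ∈ P) : Act z a h 1 := by
  exact two f.es hP (fun u hu => mem_centralizer_singleton_iff.1 (f.norm_le (h1 hu)))
    (fun u hu => f.act_norm (h1 hu)) h2 (fun k hk => f.zc k hk) (fun τ s => f.surj s) hh

end H22.RK
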