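import Mathlib
import Cfsg.Agent.Lib.Rk3C.Fr
import Cfsg.Agent.Lib.Rk3C.A1m
import Cfsg.Agent.Lib.Rk3C.FR

set_option autoImplicit false
set_option linter.unusedSectionVars false
set_option linter.unusedVariables false

namespace H22.RK

open Subgroup H69 H70 Cfsg
open scoped commutatorElement Pointwise

variable {G : Type*} [Group G] [Finite G]

namespace A1f'

variable {W K D : Subgroup G} {z x : G} {a : Fin 5 → G}

theorem two_le {A B : Subgroup G} (h : A ≤ B) {g : G} (h1 : g ∈ B) (h2 : g ∉ A) :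
    2 * Nat.card A ≤ Nat.card B := by
  obtain ⟨k, hk⟩ := card_dvd_of_le h
  have h3 : 0 < Nat.card B := Nat.card_pos
  have : k ≠ 1 := fun e => h2 (eq_of_le_of_card_ge h (by rw [hk, e, mul_one]) ▸ h1)
  have : k ≠ 0 := fun e => by rw [hk, e] at h3; omega
  rw [hk, mul_comm]
  exact Nat.mul_le_mul_left _ (by omega)

theorem notW (p : PF W K D z x a) (h : D ≤ 𝐂(W)) {i j : Fin 5} (ij : i ≠ j) {w g : G} (hw : w ∈ W)
    (hg : g * a j = a j * g) : a i ≠ g * w := fun e => (p.es.ne ij).2.2 (by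
  rw [e, mul_assoc, h (p.mem j) w hw, ← mul_assoc, hg, mul_assoc])

theorem notW' (p : PF W K D z x a) (h : D ≤ 𝐂(W)) (i : Fin 5) : a i ∉ W := fun hw =>
  notW p h (i := i) (j := i + 1) ((by decide : ∀ i : Fin 5, i ≠ i + 1) i) hw (g := 1) (by simp) (by simp)

theorem dec5 : ∀ σ : Equiv.Perm (Fin 5), Equiv.Perm.sign σ = 1 → σ 0 = 0 →
    ∃ τ : Equiv.Perm (Fin 5), τ 0 = 0 ∧ Equiv.Perm.sign τ = 1 ∧ ∃ υ : Equiv.Perm (Fin 5), υ 0 = 0 ∧
      Equiv.Perm.sign υ = 1 ∧ σ = τ * τ * (υ * υ) := by decide +kernel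

/-- the situation after the choice of `D` -/
structure Su (W K D : Subgroup G) (z x : G) (a : Fin 5 → G) : Prop where
  pf : PF W K D z x a
  adm : Adm W D 𝐂(W)
  card : Nat.card W = 4
  chr : CharP 2 𝐂(W)
  KL : K ≤ 𝐂(W)
  Kn : 𝐂(W) ≤ 𝐍(K)
  perf : ⁅K, K⁆ = K
  DO : D ≤ 𝐎(𝐂(W))
  cm : ∀ d ∈ D, ∀ r ∈ 𝐎(𝐂(W)), ⁅d, r⁆ ∈ W
  om : ∀ d ∈ 𝐎(𝐂(W)), d * d = 1 → d ∈ 𝐂(K) → d ∈ W
  ts : TSG W 𝐂(W)
  r2 : 𝐎(𝐂(W)) ⊓ 𝐂(D) ≤ 𝐂(K)

namespace Su

variable (s : Su W K D z x a)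
include s

theorem nR : 𝐂(W) ≤ 𝐍(𝐎(𝐂(W)) ⊓ 𝐂(D)) :=
  H69.le_normalizer_inf (le_normalizer_pCoreOf 2 _) (H69.le_normalizer_centralizer s.adm.LD)

theorem dec {d : G} (hd : d ∈ D) : ∃ e ∈ Eg a, ∃ w ∈ W, d = e * w := by
  have m : ∀ i, a i ∈ Eg a := fun i => subset_closure ⟨i, rfl⟩
  obtain ⟨w, hw, e | ⟨i, e⟩ | ⟨i, j, -, e⟩⟩ := s.pf.gen d hd
  exacts [⟨1, one_mem _, w, hw, by simpa using e⟩, ⟨_, m i, w, hw, e⟩, ⟨_, mul_mem (m i) (m j), w, hw, e⟩]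

theorem cenD {g : G} (hg : g ∈ 𝐂(W)) (h : ∀ i, g * a i = a i * g) : g ∈ 𝐂(D) := fun d hd => by
  obtain ⟨e, he, w, hw, rfl⟩ := s.dec hd
  have : Eg a ≤ centralizer {g} := (closure_le _).2 (by
    rintro _ ⟨i, rfl⟩; exact mem_centralizer_singleton_iff.2 (h i).symm)
  rw [mul_assoc, hg w hw, ← mul_assoc, mem_centralizer_singleton_iff.1 (this he), mul_assoc]

theorem odd1 {y : G} (hy : y ∈ K) (ho : (orderOf y).Coprime 2) (h : ∀ i, y * a i = a i * y) : y = 1 := by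
  have c := s.cenD (s.KL hy) h
  refine s.chr.eq_one (s.KL hy) ho (le_centralizer_of_commutator_mem
    ((isPGroup_pCoreOf 2 𝐂(W)).to_le (inf_le_left (b := 𝐂(D)))) ho
    (fun r hr => mem_centralizer_singleton_iff.2 (s.r2 hr y hy).symm) fun r hr => mem_inf.2 ⟨?_, mul_mem
      (conj_mem_of_mem_normalizer (H69.le_normalizer_centralizer s.adm.LD (pCoreOf_le 2 _ hr)) c) (inv_mem c)⟩)
  simpa [mul_assoc] using mul_mem hr (conj_mem_of_mem_normalizer (le_normalizer_pCoreOf 2 _ (s.KL hy)) (inv_mem hr))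

theorem xp (n : ℕ) (i : Fin 5) : x ^ n * a i * (x ^ n)⁻¹ = a (i + Fin.ofNat 5 n) := by
  induction n with
  | zero => simp
  | succ n ih =>
    rw [pow_succ', _root_.mul_inv_rev, mul_assoc x, mul_assoc x, ← mul_assoc (_ * a i), ← mul_assoc x, ih, s.pf.xa,
      add_assoc]
    congr 2
    exact Fin.ext (by simp [Fin.val_add])

theorem x5 : x ^ 5 = 1 :=
  s.odd1 (pow_mem s.pf.xK 5) (Nat.coprime_two_right.2 (s.pf.xo.of_dvd_nat (orderOf_pow_dvd 5))) fun i =>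
    mul_inv_eq_iff_eq_mul.1 ((s.xp 5 i).trans (congrArg a (add_zero i)))

theorem ac {r d : G} (hr : r ∈ 𝐎(𝐂(W))) (hd : d ∈ D) : ∃ w ∈ W, r * d * r⁻¹ = w * d :=
  ⟨_, inv_mem (s.cm d hd r hr), by rw [commutatorElement_inv, commutatorElement_def]; group⟩

theorem sqR {r : G} (hr : r ∈ 𝐎(𝐂(W))) : r * r ∈ 𝐎(𝐂(W)) ⊓ 𝐂(D) := ⟨mul_mem hr hr, fun d hd => by
  obtain ⟨w, hw, e⟩ := s.ac hr hd
  refine (mul_inv_eq_iff_eq_mul.1 ?_).symm
  calc _ = r * (r * d * r⁻¹) * r⁻¹ := by group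
    _ = r * w * r⁻¹ * (r * d * r⁻¹) := by rw [conj_mul, ← e]
    _ = d := by
      rw [conj_eq_of_mem_centralizer (pCoreOf_le 2 _ hr) hw, e, ← mul_assoc, s.adm.w2 w hw, one_mul]⟩

theorem cmR : ⁅𝐎(𝐂(W)), 𝐎(𝐂(W))⁆ ≤ 𝐎(𝐂(W)) ⊓ 𝐂(D) := by
  have : ⁅D, 𝐎(𝐂(W))⁆ ≤ 𝐂(𝐎(𝐂(W))) :=
    (commutator_le.2 s.cm).trans (le_centralizer_comm.1 (pCoreOf_le 2 _))
  exact le_inf (commutator_le_of_le le_rfl le_rfl) (three_subgroups_cent (by rwa [commutator_comm]) this)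

theorem card_D : 64 ≤ Nat.card D := by
  have c : ∀ {i j k}, i ≠ k → j ≠ k → a i * a j ∈ centralizer {a k} := fun {i j k} h1 h2 =>
    mem_centralizer_singleton_iff.2 (by
      rw [mul_assoc, s.pf.es.cm j k h2, ← mul_assoc, ← mul_assoc, ← s.pf.es.zc, mul_assoc z, s.pf.es.cm i k h1,
        ← mul_assoc, s.pf.es.z2, one_mul, mul_assoc])
  have n : ∀ {i j}, j ≠ i → a i * a j ∉ centralizer {a i} := fun {i j} h e => (s.pf.es.ne h).2.2 (by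
    have := mem_centralizer_singleton_iff.1 e
    rwa [mul_assoc, mul_right_inj] at this)
  have m := s.pf.mem
  have w : ∀ i, W ≤ centralizer {a i} := fun i w hw => mem_centralizer_singleton_iff.2 (s.adm.cen (m i) w hw)
  have h0 := two_le (inf_le_left (a := D) (b := centralizer {a 0})) (m 1) fun e =>
    (s.pf.es.ne (by decide)).2.2 (mem_centralizer_singleton_iff.1 e.2)
  have h1 := two_le (inf_le_left (a := D ⊓ centralizer {a 0}) (b := centralizer {a 1})) (g := a 0)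
    ⟨m 0, mem_centralizer_singleton_iff.2 rfl⟩ fun e =>
      (s.pf.es.ne (by decide)).2.2 (mem_centralizer_singleton_iff.1 e.2)
  have h2 := two_le (inf_le_left (a := D ⊓ centralizer {a 0} ⊓ centralizer {a 1}) (b := centralizer {a 2}))
    (g := a 2 * a 3) ⟨⟨mul_mem (m 2) (m 3), c (by decide) (by decide)⟩, c (by decide) (by decide)⟩ fun e =>
      n (by decide) e.2
  have h3 := two_le (inf_le_left (a := D ⊓ centralizer {a 0} ⊓ centralizer {a 1} ⊓ centralizer {a 2})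
    (b := centralizer {a 3})) (g := a 3 * a 4) ⟨⟨⟨mul_mem (m 3) (m 4), c (by decide) (by decide)⟩,
      c (by decide) (by decide)⟩, c (by decide) (by decide)⟩ fun e => n (by decide) e.2
  have h4 := card_le_of_le (le_inf (le_inf (le_inf (le_inf s.adm.WD (w 0)) (w 1)) (w 2)) (w 3))
  rw [s.card] at h4
  omega

theorem cop : (Nat.card (zpowers x)).Coprime (Nat.card 𝐎(𝐂(W))) :=
  coprime_card_zpowers (Nat.coprime_two_right.2 s.pf.xo) (isPGroup_pCoreOf 2 _)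

theorem R4 : ⁅𝐎(𝐂(W)), zpowers x⁆ ≤ D := by
  obtain ⟨R, hR⟩ : ∃ R, R = ⁅𝐎(𝐂(W)), zpowers x⁆ := ⟨_, rfl⟩
  have XK := zpowers_le_of_mem s.pf.xK
  have XO : zpowers x ≤ 𝐍(𝐎(𝐂(W))) := (XK.trans s.KL).trans (le_normalizer_pCoreOf 2 _)
  have RO : R ≤ 𝐎(𝐂(W)) := hR ▸ commutator_le_left_of_le_normalizer XO
  have RL := RO.trans (pCoreOf_le 2 _)
  have RR : ⁅R, zpowers x⁆ = R := hR ▸ H2.commutator_commutator_eq XO s.cop
  have XR : zpowers x ≤ 𝐍(R) := le_normalizer_of_commutator_le_left RR.le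
  have RC : R ≤ 𝐂(𝐎(𝐂(W)) ⊓ 𝐂(D)) := hR ▸ H2.commutator_le_centralizer_of_normalizes
    ((pCoreOf_le 2 _).trans s.nR) (XK.trans (le_centralizer_comm.1 s.r2))
  have cw : ∀ r ∈ R, ∀ r' ∈ R, ⁅r, r'⁆ ∈ W := fun r hr r' hr' => by
    have c := s.cmR (commutator_mem_commutator (RO hr) (RO hr'))
    refine s.om _ c.1 ?_ (s.r2 c)
    calc _ = r * ⁅r, r'⁆ * r⁻¹ * ⁅r, r'⁆ := by rw [conj_eq_of_mem_centralizer (RC hr) c]
      _ = r * r * (r' * (r * r) * r'⁻¹)⁻¹ := by simp only [commutatorElement_def]; group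
      _ = 1 := by rw [conj_eq_of_mem_centralizer (RC hr') (s.sqR (RO hr)), mul_inv_cancel]
  have e : ∀ r r' : G, r * r' * (r * r') = r * r * ⁅r⁻¹, r'⁆ * (r' * r') := fun r r' => by
    simp only [commutatorElement_def]; group
  let S : Subgroup G :=
    { carrier := {r | r ∈ R ∧ r * r ∈ W}
      one_mem' := ⟨one_mem _, by simpa using one_mem W⟩
      mul_mem' := fun {r r'} h h' => ⟨mul_mem h.1 h'.1, e r r' ▸ mul_mem (mul_mem h.2 (cw _ (inv_mem h.1) _ h'.1)) h'.2⟩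
      inv_mem' := fun {r} h => ⟨inv_mem h.1, by simpa using inv_mem h.2⟩ }
  have sq : R ≤ S := RR.ge.trans (commutator_le.2 fun r hr g hg => by
    have m := conj_mem_of_mem_normalizer (XR hg) (inv_mem hr)
    rw [commutatorElement_def, mul_assoc, mul_assoc, ← mul_assoc g]
    refine ⟨mul_mem hr m, ?_⟩
    rw [e, conj_mul, ← _root_.mul_inv_rev, s.r2 (inv_mem (s.sqR (RO hr))) g (XK hg), mul_inv_cancel_right,
      conj_eq_of_mem_centralizer (mul_mem (RL hr) (RL hr)) (cw _ (inv_mem hr) _ m)]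
    exact cw _ (inv_mem hr) _ m)
  have WL : W ≤ 𝐂(W) := s.adm.WD.trans s.adm.cen
  have hA : Adm W (R ⊔ W) (zpowers x) := ⟨le_sup_right, s.adm.w2, fun d hd => by
      obtain ⟨r, hr, w, hw, rfl⟩ := (mem_sup_of_le_normalizer_right (le_normalizer_of_le_centralizer RL)).1 hd
      rw [mul_assoc, ← mul_assoc w, RL hr w hw, mul_assoc, s.adm.w2 w hw, mul_one]
      exact (sq hr).2, sup_le RL WL, XK.trans s.KL,
    H69.le_normalizer_sup XR (le_normalizer_of_le_centralizer (XK.trans s.KL))⟩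
  have hc := hA.g5 s.card.le (fun d hd e he => s.ts d (hA.cen hd) e (hA.cen he)) (mem_zpowers x) s.x5
    (sup_le_sup_right (RR.ge.trans (commutator_mono le_sup_left le_rfl)) W)
  have aa : ∀ i, a i * a (i + 1) ∈ R ⊔ W := fun i => mem_sup_left (by
    have := commutator_mem_commutator (s.DO (s.pf.mem i)) (mem_zpowers x)
    rwa [← hR, commutatorElement_def, inv_of_sq (s.pf.es.sq i), mul_assoc, mul_assoc, ← mul_assoc x, s.pf.xa] at this)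
  have a0 : a 0 ∈ R ⊔ W := by
    refine (mul_mem_cancel_right (mul_mem (aa 1) (aa 3))).1 ?_
    rw [← mul_assoc, ← mul_assoc, ← mul_assoc]
    rcases s.pf.es.prod with e | e
    exacts [e ▸ one_mem _, e ▸ mem_sup_right s.pf.zW]
  have ai : Eg a ≤ R ⊔ W := (closure_le _).2 (by
    rintro _ ⟨i, rfl⟩
    simpa [s.xp] using conj_mem_of_mem_normalizer (hA.LD (npow_mem_zpowers x i.1)) a0)
  have DR : D ≤ R ⊔ W := fun d hd => by
    obtain ⟨e, he, w, hw, rfl⟩ := s.dec hd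
    exact mul_mem (ai he) (mem_sup_right hw)
  have := s.card_D
  rw [← hR, eq_of_le_of_card_ge DR (by rw [s.card] at hc; omega)]
  exact le_sup_left

theorem decO {r : G} (hr : r ∈ 𝐎(𝐂(W))) : ∃ d ∈ D, ∃ c ∈ 𝐎(𝐂(W)) ⊓ 𝐂(D), r = d * c := by
  obtain ⟨d, hd, c, hc, e⟩ := H2.exists_commutator_mul_centralizer
    (((zpowers_le_of_mem s.pf.xK).trans s.KL).trans (le_normalizer_pCoreOf 2 _)) s.cop
    (Or.inl (H2.isSolvable_zpowers x)) hr
  refine ⟨d, s.R4 hd, c, ⟨hc.1, ?_⟩, e⟩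
  have cL := pCoreOf_le 2 _ hc.1
  obtain ⟨w, hw, e0⟩ := s.ac hc.1 (s.pf.mem 0)
  have k : ∀ i, c * a i * c⁻¹ = w * a i := fun i => by
    have h1 := hc.2 _ (npow_mem_zpowers x i.1)
    have h2 : a i = x ^ i.1 * a 0 * (x ^ i.1)⁻¹ := by simp [s.xp]
    calc _ = c * x ^ i.1 * a 0 * (c * x ^ i.1)⁻¹ := by rw [h2]; group
      _ = x ^ i.1 * w * (x ^ i.1)⁻¹ * (x ^ i.1 * a 0 * (x ^ i.1)⁻¹) := by
        rw [← h1, conj_mul, ← e0]; group
      _ = _ := by rw [← h2, conj_eq_of_mem_centralizer (s.KL (pow_mem s.pf.xK _)) hw]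
  have k' : ∀ i g, a i * (w * g) = w * (a i * g) := fun i g => by
    rw [← mul_assoc, ← s.adm.cen (s.pf.mem i) w hw, mul_assoc]
  have k2 : ∀ g, w * (w * g) = g := fun g => by rw [← mul_assoc, s.adm.w2 w hw, one_mul]
  have : c * (a 0 * a 1 * a 2 * a 3 * a 4) * c⁻¹ = a 0 * a 1 * a 2 * a 3 * a 4 := by
    rcases s.pf.es.prod with e | e <;> rw [e]
    exacts [by simp, conj_eq_of_mem_centralizer cL s.pf.zW]
  simp only [← conj_mul, k] at this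
  simp only [mul_assoc, k', k2, mul_eq_right] at this
  exact s.cenD cL fun i => mul_inv_eq_iff_eq_mul.1 (by rw [k, this, one_mul])

theorem actO {r : G} (hr : r ∈ 𝐎(𝐂(W))) (i : Fin 5) : Mp z a r i i := by
  obtain ⟨d, hd, c, hc, rfl⟩ := s.decO hr
  obtain ⟨e, he, w, hw, rfl⟩ := s.dec hd
  have : e * w * c * a i * (e * w * c)⁻¹ = e * a i * e⁻¹ := by
    calc _ = e * (w * (c * a i * c⁻¹) * w⁻¹) * e⁻¹ := by group
      _ = _ := by
        rw [conj_eq_of_mem_centralizer hc.2 (s.pf.mem i), s.adm.cen (s.pf.mem i) w hw, mul_inv_cancel_right]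
  unfold Mp
  rw [this]
  exact s.pf.es.act_of_mem he i

theorem cent {k : G} (hk : k ∈ K) (h : ∀ i, k * a i = a i * k) : k ∈ 𝐂(K) := by
  have c := s.cenD (s.KL hk) h
  refine s.r2 ⟨s.chr ⟨s.KL hk, fun r hr => ?_⟩, c⟩
  obtain ⟨d, hd, c', hc, rfl⟩ := s.decO hr
  rw [mul_assoc, ← s.r2 hc k hk, ← mul_assoc, c d hd, mul_assoc]

theorem sq2 {k w : G} (hk : k ∈ 𝐂(W)) {i : Fin 5} (hw : w ∈ W) (e : k * a i * k⁻¹ = a i * w) :
    k * k * a i = a i * (k * k) := mul_inv_eq_iff_eq_mul.1 (by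
  calc _ = k * (k * a i * k⁻¹) * k⁻¹ := by group
    _ = k * a i * k⁻¹ * (k * w * k⁻¹) := by rw [conj_mul, ← e]
    _ = _ := by rw [e, conj_eq_of_mem_centralizer hk hw, mul_assoc, s.adm.w2 w hw, mul_one])

theorem act {k : G} (hk : k ∈ K) (i : Fin 5) : ∃ j, Mp z a k i j := by
  have uq : ∀ (k : G) (i j j' : Fin 5), (∃ w ∈ W, k * a i * k⁻¹ = a j * w) → (∃ w ∈ W, k * a i * k⁻¹ = a j' * w) →
      j = j' := by
    rintro k i j j' ⟨w, hw, e⟩ ⟨w', hw', e'⟩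
    by_contra n
    exact notW s.pf s.adm.cen n (mul_mem hw' (inv_mem hw)) rfl (by rw [← mul_assoc, ← e', e, mul_inv_cancel_right])
  obtain ⟨φ, hφ⟩ := exists_perm (K := 𝐂(W)) (fun k i j => ∃ w ∈ W, (k : G) * a i * (k : G)⁻¹ = a j * w)
    (fun k i => by
      obtain ⟨w, hw, e | ⟨j, e⟩ | ⟨j, l, jl, e⟩⟩ := s.pf.gen _ (conj_mem_of_mem_normalizer (s.adm.LD k.2) (s.pf.mem i))
      · refine absurd ?_ (notW' s.pf s.adm.cen i)
        rw [mul_inv_eq_iff_eq_mul, k.2 w hw, mul_right_inj] at e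
        rwa [e]
      · exact ⟨j, w, hw, e⟩
      · have : a j * a l * w * (a j * a l * w) = 1 := by rw [← e, conj_mul, s.pf.es.sq]; simp
        rw [mul_assoc, ← mul_assoc w, s.adm.cen (mul_mem (s.pf.mem j) (s.pf.mem l)) w hw, mul_assoc (a j * a l) w,
          s.adm.w2 w hw, mul_one] at this
        nth_rw 1 [s.pf.es.cm j l jl] at this
        rw [mul_assoc, mul_assoc, ← mul_assoc (a j), s.pf.es.sq, one_mul, s.pf.es.sq, mul_one] at this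
        exact absurd this s.pf.es.z1)
    (fun k => uq k) (fun i => ⟨1, one_mem _, by simp⟩) (by
      rintro k l i j n ⟨w, hw, e⟩ ⟨w', hw', e'⟩
      refine ⟨w' * w, mul_mem hw' hw, ?_⟩
      rw [← mul_assoc, ← e', ← conj_eq_of_mem_centralizer k.2 hw, conj_mul, ← e, coe_mul]
      group)
  haveI := normal_subgroupOf_of_le_normalizer s.Kn
  have N : K.subgroupOf 𝐂(W) ⊓ φ.ker ≤ pCore 2 𝐂(W) := le_pCore inferInstance
    (isPGroup_of_forall_coprime fun y hy ho => Subtype.ext (s.odd1 hy.1 (by rwa [orderOf_coe]) fun i => by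
      obtain ⟨w, hw, e⟩ := hφ y i
      rw [show φ y = 1 from hy.2] at e
      have : y ∈ zpowers (y ^ 2) := mem_zpowers_pow_iff.2 ho.symm.gcd_eq_one
      obtain ⟨n, hn⟩ := this
      rw [← hn]
      exact (Commute.zpow_left (by rw [coe_pow, sq]; exact s.sq2 y.2 hw e) n).eq))
  obtain ⟨p1, p2⟩ := perf5 (K := K.subgroupOf 𝐂(W)) (H69.map_subtype_inj.1 (by
    rw [map_commutator, map_subgroupOf_eq_of_le s.KL, s.perf])) φ
  replace p2 := p2 ⟨⟨x, s.KL s.pf.xK⟩, s.pf.xK, fun e => by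
    have := hφ ⟨x, s.KL s.pf.xK⟩ 0
    rw [e] at this
    exact absurd (uq x 0 _ _ this ⟨1, one_mem _, by simpa using s.pf.xa 0⟩) (by decide)⟩
  have act0 : ∀ k ∈ K, (∃ w ∈ W, k * a 0 * k⁻¹ = a 0 * w) → Mp z a k 0 0 := fun k hk h0 => by
    obtain ⟨τ, t0, t1, υ, u0, u1, e⟩ := dec5 _ (p1 ⟨k, s.KL hk⟩ hk) (uq k 0 _ _ (hφ ⟨k, s.KL hk⟩ 0) h0)
    obtain ⟨k1, h1, rfl⟩ := p2 τ t1
    obtain ⟨k2, h2, rfl⟩ := p2 υ u1
    obtain ⟨w1, hw1, e1⟩ := hφ k1 0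
    obtain ⟨w2, hw2, e2⟩ := hφ k2 0
    rw [t0] at e1
    rw [u0] at e2
    obtain ⟨g, hg⟩ : ∃ g, g = k1 * k1 * (k2 * k2) := ⟨_, rfl⟩
    have c : (g : G) * a 0 * (g : G)⁻¹ = a 0 := mul_inv_eq_iff_eq_mul.2 (by
      rw [hg]
      exact (Commute.mul_left (s.sq2 k1.2 hw1 e1) (s.sq2 k2.2 hw2 e2)).eq)
    have n := s.actO (mem_pCoreOf.2 (N (x := g⁻¹ * ⟨k, s.KL hk⟩) (mem_inf.2 ⟨mul_mem (inv_mem
      (hg ▸ mul_mem (mul_mem h1 h1) (mul_mem h2 h2))) hk, by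
        rw [MonoidHom.mem_ker, map_mul, map_inv, e, hg]; simp only [map_mul, inv_mul_cancel]⟩))) 0
    have : k * a 0 * k⁻¹ = g * ((g : G)⁻¹ * k * a 0 * ((g : G)⁻¹ * k)⁻¹) * (g : G)⁻¹ := by group
    rcases n with n | n <;> [left; right] <;> rw [this] <;> erw [n]
    · exact c
    · rw [← conj_mul, c, conj_eq_of_mem_centralizer g.2 s.pf.zW]
  obtain ⟨w, hw, e⟩ := hφ ⟨k, s.KL hk⟩ i
  generalize φ ⟨k, s.KL hk⟩ i = j at e
  have h2 : ∀ i : Fin 5, x ^ i.1 * a 0 * (x ^ i.1)⁻¹ = a i := fun i => by simp [s.xp]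
  have xL := fun n : ℕ => s.KL (pow_mem s.pf.xK n)
  have : k * a i * k⁻¹ = x ^ j.1 * ((x ^ j.1)⁻¹ * k * x ^ i.1 * a 0 * ((x ^ j.1)⁻¹ * k * x ^ i.1)⁻¹) * (x ^ j.1)⁻¹ := by
    rw [← h2 i]; group
  have n := act0 _ (mul_mem (mul_mem (inv_mem (pow_mem s.pf.xK j.1)) hk) (pow_mem s.pf.xK i.1)) ⟨w, hw,
    (MulAut.conj (x ^ j.1)).injective (by
      simp only [MulAut.conj_apply]
      rw [← this, ← conj_mul, h2, conj_eq_of_mem_centralizer (xL _) hw]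
      exact e)⟩
  refine ⟨j, n.imp (fun n => ?_) fun n => ?_⟩ <;> rw [this, n]
  · exact h2 j
  · rw [← conj_mul, h2, conj_eq_of_mem_centralizer (xL _) s.pf.zW]

end Su

end A1f'

open A1f'

theorem frame (h : Hy G) {W : Subgroup G} (hW : ∀ w ∈ W, w * w = 1) (h4 : Nat.card W = 4) (hn : pc 𝐂(W) ≠ ⊥) :
    ∃ z ∈ W, ∃ a, Fr (pc 𝐂(W)) z a := by
  have e8 : ∀ d ∈ 𝐂(W), d * d = 1 → d ∉ W → E8 (W ⊔ zpowers d) := fun d hd d2 n =>
    ⟨sq_adj hW d2 hd, by rw [card_adj d2 hd n, h4]⟩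
  have KL := pc_le 𝐂(W)
  have Kn : 𝐂(W) ≤ 𝐍(pc 𝐂(W)) := le_normalizer.trans (norm_pc _)
  have WL : W ≤ 𝐂(W) := fun a ha b hb => comm_of_sq hW hb ha
  have WO : W ≤ 𝐎(𝐂(W)) := le_pCoreOf (isP_of_sq hW) WL (centralizer_le_normalizer _)
  have chr := h.chrC (isP_of_sq hW) fun e => by rw [e, card_bot] at h4; omega
  have om : ∀ d ∈ 𝐎(𝐂(W)), d * d = 1 → d ∈ 𝐂(pc 𝐂(W)) → d ∈ W := fun d hd d2 hc => by
    by_contra n
    exact hn (le_bot_iff.1 ((le_pc (fun k hk => cent_sup (KL hk) (cent_zpowers (hc k hk).symm)) (pc_perf _)).trans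
      (solv8 h (e8 d (pCoreOf_le 2 _ hd) d2 n)).le))
  have ts : TSG W 𝐂(W) := fun d hd e he d2 e2 de => by
    by_cases n : d ∈ W
    · exact Or.inl n
    · exact Or.inr (de ▸ (mem_adj d2 hd).1 ((e8 d hd d2 n).mem_of_cent h.rk e2 (cent_sup he (cent_zpowers de))))
  have key : ∀ R, W ≤ R → R ≤ 𝐎(𝐂(W)) → 𝐂(W) ≤ 𝐍(R) → ¬ pc 𝐂(W) ≤ 𝐂(R) → ∃ D ≤ R, ∃ z x a,
      PF W (pc 𝐂(W)) D z x a ∧ Adm W D 𝐂(W) ∧ ∀ d ∈ D, ∀ r ∈ 𝐎(𝐂(W)), ⁅d, r⁆ ∈ W := fun R h1 h2 h3 h5 => by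
    obtain ⟨D, d1, d2, d3, d4, d5⟩ := exists_minD hW h1 h2 h3 KL Kn (pc_perf _) h5 om
    obtain ⟨z, x, a, p⟩ := d2.g4 h4.le (fun d hd e he => ts d (d2.cen hd) e (d2.cen he)) KL (pc_perf _)
      (d2.cen.trans Kn) d3 d4
    exact ⟨D, d1, z, x, a, p, d2, d5⟩
  obtain ⟨D, DO, z, x, a, p, ad, cm⟩ := key _ WO le_rfl (le_normalizer_pCoreOf 2 _) fun e => by
    haveI := (isPGroup_pCoreOf 2 𝐂(W)).isNilpotent
    exact B1'.not_solv ((le_inf KL e).trans chr) hn (pc_perf _) inferInstance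
  have r2 : 𝐎(𝐂(W)) ⊓ 𝐂(D) ≤ 𝐂(pc 𝐂(W)) := by
    by_contra n
    obtain ⟨D', d1, z', x', a', p', ad', -⟩ := key _ (le_inf WO (le_centralizer_comm.1 ad.cen)) inf_le_left
      (H69.le_normalizer_inf (le_normalizer_pCoreOf 2 _) (H69.le_normalizer_centralizer ad.LD))
      (mt le_centralizer_comm.1 n)
    have c := (d1 (p'.mem 0)).2
    rcases ts _ (ad'.cen (p'.mem 0)) _ (ad.cen (p.mem 0)) (p'.es.sq 0) (p.es.sq 0) (c _ (p.mem 0)).symm with e | e | e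
    · exact notW' p' ad'.cen 0 e
    · exact notW' p ad.cen 0 e
    · exact notW p ad.cen (i := 0) (j := 1) (by decide) e (c _ (p.mem 1)).symm
        (by rw [← mul_assoc, p'.es.sq, one_mul])
  have s : Su W _ D z x a := ⟨p, ad, h4, chr, KL, Kn, pc_perf _, DO, cm, om, ts, r2⟩
  exact ⟨z, p.zW, a, p.es, pc_perf _, p.memK, le_centralizer_comm.1 KL p.zW, fun k hk => s.act hk,
    fun k hk => s.cent hk⟩

end H22.RK
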