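import Mathlib
import Cfsg.Agent.Lib.Rk3C.Fr
import Cfsg.Agent.Lib.Rk3C.FR

/-!
2-rank 3: the centraliser of the frame group `K` has no square root of `z`, and its involutions lie in `W`.
-/

set_option autoImplicit false
set_option linter.unusedSectionVars false
set_option linter.unusedVariables false

namespace H22.RK

open Subgroup H69 H70 Cfsg
open scoped commutatorElement Pointwise

variable {G : Type*} [Group G] [Finite G] {K W : Subgroup G} {z : G} {a : Fin 5 → G}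

namespace A2b'

theorem cK {y k : G} (hy : y ∈ 𝐂(K)) (hk : k ∈ K) : k * y = y * k := mem_centralizer_iff.1 hy k hk

theorem zK (f : Fr K z a) : z ∈ K := f.E_le f.es.z_mem

theorem zY (f : Fr K z a) {y : G} (hy : y ∈ 𝐂(K)) : z * y = y * z := cK hy (zK f)

theorem KC (f : Fr K z a) : K ≤ centralizer {z} := fun k hk => mem_centralizer_singleton_iff.2 (cK f.zc hk)

theorem YC (f : Fr K z a) : 𝐂(K) ≤ centralizer {z} := fun y hy => mem_centralizer_singleton_iff.2 (zY f hy).symm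

theorem a0_ne (f : Fr K z a) {u : G} (hu : u ∈ 𝐂(K)) : a 0 ≠ u := fun e =>
  (f.es.ne (i := 1) (j := 0) (by decide)).2.2 (cK (e ▸ hu) (f.mem 1))

/-- `a i` commutes with `a j * a l` if `i ∉ {j, l}`. -/
theorem cm2 (e : Es z a) {i j l : Fin 5} (h1 : i ≠ j) (h2 : i ≠ l) : Commute (a i) (a j * a l) := by
  show a i * (a j * a l) = a j * a l * a i
  calc a i * (a j * a l) = (a i * a j) * a l := (mul_assoc _ _ _).symm
    _ = z * a j * (a i * a l) := by rw [e.cm i j h1]; simp only [mul_assoc]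
    _ = z * (a j * z) * (a l * a i) := by rw [e.cm i l h2]; simp only [mul_assoc]
    _ = (z * z) * (a j * a l * a i) := by rw [← e.zc j]; simp only [mul_assoc]
    _ = a j * a l * a i := by rw [e.z2, one_mul]

theorem one (h : Hy G) (f : Fr K z a) {y s : G} (hy : y ∈ 𝐂(K)) (y2 : y * y = z) (hs : s ∈ 𝐂(K))
    (s2 : s * s = 1) (sy : s * y = y * s) : s = 1 ∨ s = z := by
  by_contra hn
  push Not at hn
  have e := f.es
  have hK : a 1 * a 2 ∈ K := mul_mem (f.mem 1) (f.mem 2)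
  have c0 : Commute (a 0) (a 1 * a 2 * y) :=
    (cm2 e (by decide) (by decide)).mul_right (cK hy (f.mem 0))
  have c3 : Commute (a 3) (a 1 * a 2 * y) :=
    (cm2 e (by decide) (by decide)).mul_right (cK hy (f.mem 3))
  have n1 : ∀ u ∈ 𝐂(K), a 1 * a 2 * y ≠ u := fun u hu h1 => by
    have h2 : Commute (a 1) (a 1 * a 2 * y) := h1 ▸ cK hu (f.mem 1)
    have h3 : Commute (a 1) y := cK hy (f.mem 1)
    have h4 := ((Commute.refl (a 1)).inv_right.mul_right h2).mul_right h3.inv_right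
    rw [show (a 1)⁻¹ * (a 1 * a 2 * y) * y⁻¹ = a 2 by group] at h4
    exact (e.ne (by decide)).2.2 h4
  have n3 : ∀ u ∈ 𝐂(K), a 1 * a 2 * y ≠ u * a 0 := fun u hu h1 => by
    have h3 : Commute (a 3) u := cK hu (f.mem 3)
    have h4 := h3.inv_right.mul_right c3
    rw [h1, inv_mul_cancel_left] at h4
    exact (e.ne (by decide)).2.2 h4
  have d2 : a 1 * a 2 * y * (a 1 * a 2 * y) = 1 := by
    calc a 1 * a 2 * y * (a 1 * a 2 * y) = a 1 * a 2 * (y * (a 1 * a 2)) * y := by simp only [mul_assoc]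
      _ = a 1 * (a 2 * a 1) * a 2 * (y * y) := by rw [← cK hy hK]; simp only [mul_assoc]
      _ = (a 1 * z) * a 1 * (a 2 * a 2) * z := by rw [e.cm 2 1 (by decide), y2]; simp only [mul_assoc]
      _ = z * (a 1 * a 1) * z := by rw [← e.zc 1, e.sq 2]; simp only [mul_assoc, one_mul]
      _ = 1 := by rw [e.sq 1, mul_one, e.z2]
  have zd : Commute z (a 1 * a 2 * y) := Commute.mul_right (cK f.zc hK).symm (zY f hy)
  have sd : Commute s (a 1 * a 2 * y) := Commute.mul_right (cK hs hK).symm sy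
  refine h.not_r4 (r4_of e.z2 s2 (e.sq 0) d2 (zY f hs) (e.zc 0) (cK hs (f.mem 0)).symm zd sd c0
    ⟨e.z1, hn.1, hn.2, a0_ne f (one_mem _), a0_ne f f.zc, a0_ne f hs, a0_ne f (mul_mem f.zc hs)⟩ ?_)
  rintro (h1 | h1 | h1 | h1 | h1 | h1 | h1 | h1)
  exacts [n1 _ (one_mem _) h1, n1 _ f.zc h1, n1 _ hs h1, n1 _ (mul_mem f.zc hs) h1,
    n3 1 (one_mem _) (by rw [one_mul]; exact h1), n3 _ f.zc h1, n3 _ hs h1, n3 _ (mul_mem f.zc hs) h1]

theorem three (h : Hy G) (g : Gd K z a W) {t s : G} (ht : t ∈ W) (t1 : t ≠ 1) (tz : t ≠ z) (hs : s ∈ 𝐂(K))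
    (s2 : s * s = 1) (st : t * s = s * t) : s ∈ W := by
  by_contra hn
  have f := g.fr
  have e := f.es
  have hz := g.cw.mem
  have tY := g.WK ht
  refine h.not_r4 (r4_of e.z2 (g.cw.sq t ht) s2 (e.sq 0) (zY f tY) (zY f hs) st (e.zc 0)
    (cK tY (f.mem 0)).symm (cK hs (f.mem 0)).symm
    ⟨e.z1, t1, tz, fun h1 => hn (h1 ▸ one_mem _), fun h1 => hn (h1 ▸ hz), fun h1 => hn (h1 ▸ ht),
      fun h1 => hn (h1 ▸ mul_mem hz ht)⟩ ?_)
  rintro (h1 | h1 | h1 | h1 | h1 | h1 | h1 | h1)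
  exacts [a0_ne f (one_mem _) h1, a0_ne f f.zc h1, a0_ne f tY h1, a0_ne f (mul_mem f.zc tY) h1, a0_ne f hs h1,
    a0_ne f (mul_mem f.zc hs) h1, a0_ne f (mul_mem tY hs) h1, a0_ne f (mul_mem (mul_mem f.zc tY) hs) h1]

/-- an element of `C(z)` fixes `t` or maps it to `z t`. -/
theorem tcase (g : Gd K z a W) {t y : G} (ht : t ∈ W) (t1 : t ≠ 1) (tz : t ≠ z) (hy : y ∈ centralizer {z}) :
    t * y = y * t ∨ t * y = z * (y * t) := by
  have yz : y * z = z * y := mem_centralizer_singleton_iff.1 hy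
  have hw : y⁻¹ * t * y ∈ W := by
    have := (mem_normalizer_iff.1 (inv_mem (g.cw.norm hy)) t).1 ht
    rwa [inv_inv] at this
  have k : t * y = y * (y⁻¹ * t * y) := by group
  rcases cases4 g.cw.sq g.card g.cw.mem ht g.cw.z1 t1 tz hw with h1 | h1 | h1 | h1
  · rw [h1, mul_one] at k
    exact absurd (mul_eq_right.1 k) t1
  · rw [h1, yz] at k
    exact absurd (mul_right_cancel k) tz
  · exact Or.inl (by rw [k, h1])
  · exact Or.inr (by rw [k, h1, ← mul_assoc, yz, mul_assoc])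

theorem wcase (g : Gd K z a W) {w y : G} (hw : w ∈ W) (hy : y ∈ centralizer {z}) :
    w * y = y * w ∨ w * y = z * (y * w) := by
  by_cases h1 : w = 1
  · exact Or.inl (by rw [h1, mul_one, one_mul])
  by_cases h2 : w = z
  · exact Or.inl (by rw [h2]; exact (mem_centralizer_singleton_iff.1 hy).symm)
  exact tcase g hw h1 h2 hy

theorem centW (g : Gd K z a W) {t p : G} (ht : t ∈ W) (t1 : t ≠ 1) (tz : t ≠ z) (hp : p ∈ centralizer {z})
    (h : t * p = p * t) : p ∈ 𝐂(W) := by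
  have pz : Commute z p := (mem_centralizer_singleton_iff.1 hp).symm
  refine mem_centralizer_iff.2 fun w hw => ?_
  rcases cases4 g.cw.sq g.card g.cw.mem ht g.cw.z1 t1 tz hw with rfl | rfl | rfl | rfl
  exacts [(Commute.one_left p).eq, pz.eq, h, (pz.mul_left h).eq]

/-- a 2-subgroup of `C(K)` containing a square root of `z` meets `C(W)` inside `W`. -/
theorem small (h : Hy G) (g : Gd K z a W) {y : G} (y2 : y * y = z) {P : Subgroup G} (hP : IsPGroup 2 P)
    (hY : P ≤ 𝐂(K)) (hy : y ∈ P) : P ⊓ 𝐂(W) ≤ W := by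
  by_contra hn
  obtain ⟨t, ht, t1, tz⟩ := g.cw.big
  have hN : P ≤ 𝐍(W) := (hY.trans (YC g.fr)).trans g.cw.norm
  obtain ⟨c, ⟨hc, hcW⟩, cW, c2, cy⟩ := H5.exists_step_of_le hP W (N := P ⊓ 𝐂(W)) inf_le_left
    (H70.le_normalizer_inf le_normalizer (H70.le_normalizer_centralizer hN)) hn
  rw [pow_two] at c2
  have tc : t * c = c * t := mem_centralizer_iff.1 hcW t ht
  have hw := cy y hy
  have k1 : c * y = ⁅c, y⁆ * (y * c) := by rw [commutatorElement_def]; group
  have k2 : ⁅c, y⁆ * c = c * ⁅c, y⁆ := mem_centralizer_iff.1 hcW _ hw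
  have k3 : c * c * y = y * (c * c) := by
    calc c * c * y = c * (c * y) := mul_assoc _ _ _
      _ = (c * ⁅c, y⁆) * y * c := by rw [k1]; simp only [mul_assoc]
      _ = ⁅c, y⁆ * (c * y) * c := by rw [← k2]; simp only [mul_assoc]
      _ = (⁅c, y⁆ * ⁅c, y⁆) * (y * (c * c)) := by
        conv_lhs => rw [k1]
        simp only [mul_assoc]
      _ = y * (c * c) := by rw [g.cw.sq _ hw, one_mul]
  rcases one h g.fr (hY hy) y2 (g.WK c2) (g.cw.sq _ c2) k3 with h1 | h1
  · exact cW (three h g ht t1 tz (hY hc) h1 tc)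
  · exact (one h g.fr (hY hc) h1 (g.WK ht) (g.cw.sq t ht) tc).elim t1 tz

/-- elements of `C(z)` acting trivially on `Q / ⟨z⟩`. -/
def St (z : G) (z2 : z * z = 1) (Q : Subgroup G) : Subgroup G where
  carrier := {x | x * z = z * x ∧ ∀ q ∈ Q, x * q * x⁻¹ = q ∨ x * q * x⁻¹ = z * q}
  one_mem' := ⟨by simp, fun q _ => Or.inl (by simp)⟩
  mul_mem' := by
    rintro x y ⟨xz, hx⟩ ⟨yz, hy⟩
    refine ⟨(Commute.mul_left xz yz).eq, fun q hq => ?_⟩
    have k : x * y * q * (x * y)⁻¹ = x * (y * q * y⁻¹) * x⁻¹ := by group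
    have k2 : x * (z * q) * x⁻¹ = z * (x * q * x⁻¹) := by rw [← mul_assoc, xz]; simp only [mul_assoc]
    rcases hy q hq with h1 | h1
    · rw [k, h1]; exact hx q hq
    · rw [k, h1, k2]
      rcases hx q hq with h2 | h2
      · exact Or.inr (by rw [h2])
      · exact Or.inl (by rw [h2, ← mul_assoc, z2, one_mul])
  inv_mem' := by
    rintro x ⟨xz, hx⟩
    have xz' : x⁻¹ * z = z * x⁻¹ := (Commute.inv_left xz).eq
    refine ⟨xz', fun q hq => ?_⟩
    rcases hx q hq with h1 | h1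
    · left
      conv_lhs => rw [← h1]
      group
    · right
      have k : q = z * (x * q * x⁻¹) := by rw [h1, ← mul_assoc, z2, one_mul]
      conv_lhs => rw [k, ← mul_assoc x⁻¹, xz']
      group

theorem St_le (h : Hy G) (z2 : z * z = 1) (z1 : z ≠ 1) :
    St z z2 𝐎(centralizer {z}) ≤ 𝐎(centralizer {z}) := by
  refine le_pCoreOf ?_ (fun x hx => mem_centralizer_singleton_iff.2 hx.1) ?_
  · rintro ⟨x, xz, hx⟩
    have h2 : x * x ∈ 𝐎(centralizer {z}) := by
      refine h.chrz z2 z1 ⟨mem_centralizer_singleton_iff.2 (Commute.mul_left xz xz).eq,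
        mem_centralizer_iff.2 fun q hq => ?_⟩
      have k : x * x * q * (x * x)⁻¹ = x * (x * q * x⁻¹) * x⁻¹ := by group
      have k2 : x * (z * q) * x⁻¹ = z * (x * q * x⁻¹) := by rw [← mul_assoc, xz]; simp only [mul_assoc]
      have k3 : x * x * q * (x * x)⁻¹ = q := by
        rcases hx q hq with h1 | h1
        · rw [k, h1, h1]
        · rw [k, h1, k2, h1, ← mul_assoc, z2, one_mul]
      exact (mul_inv_eq_iff_eq_mul.1 k3).symm
    obtain ⟨n, hn⟩ := isPGroup_pCoreOf 2 _ ⟨_, h2⟩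
    refine ⟨n + 1, Subtype.ext ?_⟩
    have := congrArg Subtype.val hn
    simp only [SubmonoidClass.coe_pow, OneMemClass.coe_one] at this ⊢
    rw [pow_succ', pow_mul, pow_two, this]
  · have key : ∀ c ∈ centralizer ({z} : Set G), ∀ x ∈ St z z2 𝐎(centralizer {z}),
        c * x * c⁻¹ ∈ St z z2 𝐎(centralizer {z}) := by
      rintro c hc x ⟨xz, hx⟩
      have cz : Commute c z := mem_centralizer_singleton_iff.1 hc
      refine ⟨((cz.mul_left xz).mul_left cz.inv_left).eq, fun q hq => ?_⟩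
      have hq' : c⁻¹ * q * c⁻¹⁻¹ ∈ 𝐎(centralizer {z}) :=
        (mem_normalizer_iff.1 (le_normalizer_pCoreOf 2 _ (inv_mem hc)) q).1 hq
      have k : c * x * c⁻¹ * q * (c * x * c⁻¹)⁻¹ = c * (x * (c⁻¹ * q * c⁻¹⁻¹) * x⁻¹) * c⁻¹ := by group
      rcases hx _ hq' with h1 | h1
      · left; rw [k, h1]; group
      · right; rw [k, h1, ← mul_assoc c z, cz.eq]; group
    intro c hc
    refine mem_normalizer_iff.2 fun x => ⟨key c hc x, fun hx => ?_⟩
    have := key _ (inv_mem hc) _ hx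
    rwa [show c⁻¹ * (c * x * c⁻¹) * c⁻¹⁻¹ = x by group] at this

end A2b'

open A2b'

theorem Gd.nosq (h : Hy G) (g : Gd K z a W) : ∀ y ∈ 𝐂(K), y * y ≠ z := by
  intro y hy y2
  have f := g.fr
  have e := f.es
  obtain ⟨t, ht, t1, tz⟩ := g.cw.big
  have yC := YC f hy
  have yz : y * z = z * y := mem_centralizer_singleton_iff.1 yC
  have nt : t * y ≠ y * t := fun h1 => (one h f hy y2 (g.WK ht) (g.cw.sq t ht) h1).elim t1 tz
  have ty := (tcase g ht t1 tz yC).resolve_left nt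
  have y4 : y ^ 2 ^ 2 = 1 := by
    rw [show y ^ 2 ^ 2 = y * y * (y * y) by rw [show 2 ^ 2 = 2 + 2 by rfl, pow_add, pow_two], y2, e.z2]
  have hzp : IsPGroup 2 (zpowers y) := by
    rintro ⟨_, n, rfl⟩
    refine ⟨2, Subtype.ext ?_⟩
    simp only [SubmonoidClass.coe_pow, OneMemClass.coe_one]
    rw [← zpow_natCast, ← zpow_mul, mul_comm, zpow_mul, zpow_natCast, y4, one_zpow]
  have hP : IsPGroup 2 ((𝐎(centralizer {z}) ⊓ 𝐂(K)) ⊔ zpowers y : Subgroup G) :=
    IsPGroup.to_sup_of_normal_left' ((isPGroup_pCoreOf 2 _).to_inf_left) hzp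
      (zpowers_le_of_mem (H70.le_normalizer_inf (A := 𝐂(K)) ((YC f).trans (le_normalizer_pCoreOf 2 _))
        le_normalizer hy))
  have hY : ((𝐎(centralizer {z}) ⊓ 𝐂(K)) ⊔ zpowers y : Subgroup G) ≤ 𝐂(K) :=
    sup_le inf_le_right (zpowers_le_of_mem hy)
  have hyP := mem_sup_right (S := 𝐎(centralizer {z}) ⊓ 𝐂(K)) (mem_zpowers y)
  have hs := small h g y2 hP hY hyP
  have hR : ∀ p ∈ 𝐎(centralizer {z}) ⊓ 𝐂(K), p * y = y * p ∨ p * y = z * (y * p) := fun p hp => by
    have pC := YC f hp.2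
    rcases tcase g ht t1 tz pC with h1 | h1
    · exact wcase g (hs ⟨mem_sup_left hp, centW g ht t1 tz pC h1⟩) yC
    · have h2 : t * (y⁻¹ * p) = y⁻¹ * p * t := by
        have k : t * y⁻¹ = y⁻¹ * (z * t) := by
          have : y * t = z * (t * y) := by rw [ty, ← mul_assoc, e.z2, one_mul]
          calc t * y⁻¹ = y⁻¹ * (y * t) * y⁻¹ := by group
            _ = y⁻¹ * (z * t) := by rw [this]; group
        rw [← mul_assoc, k, mul_assoc, mul_assoc, h1, ← mul_assoc z, e.z2, one_mul, mul_assoc]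
      have hw := hs (mem_inf.2 ⟨mul_mem (inv_mem hyP) (mem_sup_left hp),
        centW g ht t1 tz (mul_mem (inv_mem yC) pC) h2⟩)
      have k : p * y = y * (y⁻¹ * p * y) := by group
      rcases wcase g hw yC with h3 | h3
      · left; rw [k, h3]; group
      · right; rw [k, h3, ← mul_assoc y z, yz]; group
  have hE : Eg a ≤ 𝐎(centralizer {z}) := le_pCoreOf e.isP (f.E_le.trans (KC f)) (g.norm.trans f.normE)
  have hQ : ∀ q ∈ 𝐎(centralizer {z}), q * y = y * q ∨ q * y = z * (y * q) := fun q hq => by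
    have hN := (pCoreOf_le 2 _).trans g.norm
    obtain ⟨x, hx, p, hp, rfl⟩ := f.ker (hN hq) (f.act_two (isPGroup_pCoreOf 2 _) hN
      ((KC f).trans (le_normalizer_pCoreOf 2 _)) hq)
    have xy := cK hy (f.E_le hx)
    have xz := cK f.zc (f.E_le hx)
    have hp' : p ∈ 𝐎(centralizer {z}) := by simpa using mul_mem (inv_mem (hE hx)) hq
    rcases hR p ⟨hp', hp⟩ with h1 | h1
    · left; rw [mul_assoc, h1, ← mul_assoc, xy, mul_assoc]
    · right; rw [mul_assoc, h1, ← mul_assoc, xz, mul_assoc, ← mul_assoc x, xy, mul_assoc]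
  have yQ : y ∈ 𝐎(centralizer {z}) := St_le h e.z2 e.z1 ⟨yz, fun q hq => by
    rcases hQ q hq with h1 | h1
    · left; rw [← h1, mul_inv_cancel_right]
    · right
      have : y * q = z * (q * y) := by rw [h1, ← mul_assoc, e.z2, one_mul]
      rw [this]; group⟩
  exact nt (g.cw.chr y yQ y2 hQ t ht)

theorem Gd.omega (h : Hy G) (g : Gd K z a W) : ∀ y ∈ 𝐂(K), y * y = 1 → y ∈ W := by
  intro y hy y2
  obtain ⟨t, ht, t1, tz⟩ := g.cw.big
  rcases tcase g ht t1 tz (YC g.fr hy) with h1 | h1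
  · exact three h g ht t1 tz hy y2 h1
  · refine absurd ?_ (g.nosq h (y * t) (mul_mem hy (g.WK ht)))
    calc y * t * (y * t) = y * (t * y) * t := by simp only [mul_assoc]
      _ = (y * z) * y * (t * t) := by rw [h1]; simp only [mul_assoc]
      _ = z * (y * y) := by rw [g.cw.sq t ht, ← zY g.fr hy]; simp only [mul_assoc, mul_one]
      _ = z := by rw [y2, mul_one]

end H22.RK
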