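import Mathlib
import Cfsg.Agent.Lib.Rk3C.Fr
import Cfsg.Agent.Lib.Rk3C.A2b

/-!
2-rank 3: involutions commuting with the centre of a frame (package A2c of `blueprint/RK3C2.md`).
-/

set_option autoImplicit false
set_option linter.unusedSectionVars false
set_option linter.unusedVariables false

namespace H22.RK

open Subgroup H69 H70 Cfsg
open scoped commutatorElement Pointwise

variable {G : Type*} [Group G] [Finite G] {K K' W W' : Subgroup G} {z z' u : G} {a a' : Fin 5 → G}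

namespace A2c'

theorem cm {y k : G} (hy : y ∈ 𝐂(K)) (hk : k ∈ K) : Commute k y := hy k hk

theorem e16 (h : Hy G) (f : Fr K z a) {t d : G} {i : Fin 5} (ht : t ∈ 𝐂(K)) (t2 : t * t = 1) (t1 : t ≠ 1)
    (tz : t ≠ z) (d2 : d * d = 1) (dz : z * d = d * z) (dt : t * d = d * t) (da : a i * d = d * a i) :
    Act z a d 1 := by
  have e := f.es
  have n : a i ∉ 𝐂(K) := fun hc => (e.ne (i := i + 1) (j := i) (by simp)).2.2 (cm hc (f.mem _))
  have c : ∀ y ∈ 𝐂(K), Act z a y 1 := fun y hy => act_of_comm fun j => (cm hy (f.mem j)).symm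
  have c' : ∀ y ∈ 𝐂(K), y * z = z * y → Act z a (y * a i) 1 := fun y hy yz =>
    e.act_mul yz (c y hy) (e.act_of_mem (subset_closure ⟨i, rfl⟩))
  have zK := f.E_le e.z_mem
  by_contra hn
  refine h.not_r4 (r4_of e.z2 t2 (e.sq i) d2 (cm ht zK) (e.zc i) (cm ht (f.mem i)).symm dz dt da
    ⟨e.z1, t1, tz, fun e => n (e ▸ one_mem _), fun e => n (e ▸ f.zc), fun e => n (e ▸ ht),
      fun e => n (e ▸ mul_mem f.zc ht)⟩ ?_)
  rintro (rfl | rfl | rfl | rfl | rfl | rfl | rfl | rfl)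
  exacts [hn (c _ (one_mem _)), hn (c _ f.zc), hn (c _ ht), hn (c _ (mul_mem f.zc ht)),
    hn (e.act_of_mem (subset_closure ⟨i, rfl⟩)), hn (c' _ f.zc rfl), hn (c' _ ht (cm ht zK).symm),
    hn (c' _ (mul_mem f.zc ht) (cm (mul_mem f.zc ht) zK).symm)]

theorem inv (h : Hy G) (g : Gd K z a W) {s : G} (s2 : s * s = 1) (hs : s * z = z * s) (hA : Act z a s 1) :
    s ∈ W ∨ ∃ i, ∃ w ∈ W, s = a i * w := by
  have e := g.fr.es
  obtain ⟨x, hx, y, hy, rfl⟩ := g.fr.ker (g.norm (mem_centralizer_singleton_iff.2 hs)) hA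
  rw [(cm hy (g.fr.E_le hx)).symm.mul_mul_mul_comm] at s2
  rcases e.sq_cases hx with x2 | x2 <;> rw [x2] at s2
  · have yW := g.omega h y hy (by rwa [one_mul] at s2)
    rcases e.inv_cases hx x2 with rfl | rfl | ⟨i, rfl | rfl⟩
    exacts [.inl (by rwa [one_mul]), .inl (mul_mem g.cw.mem yW), .inr ⟨i, y, yW, rfl⟩,
      .inr ⟨i, z * y, mul_mem g.cw.mem yW, by rw [e.zc, mul_assoc]⟩]
  · exact (g.nosq h y hy ((eq_inv_of_mul_eq_one_right s2).trans (inv_of_sq e.z2))).elim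

theorem odd_cm {k t : G} (o : Odd (orderOf k)) (c : Commute (k * k) t) : Commute k t := by
  obtain ⟨n, e⟩ := o
  have := c.pow_left (n + 1)
  rwa [← pow_two, ← pow_mul, show 2 * (n + 1) = orderOf k + 1 by omega, pow_succ, pow_orderOf_eq_one,
    one_mul] at this

end A2c'

open A2c'

theorem Gd.type (h : Hy G) (g : Gd K z a W) (hu : u * z = z * u) (h2 : u * u = 1) :
    Act z a u 1 ∨ ∃ σ, Act z a u σ ∧ Equiv.Perm.sign σ = -1 := by
  have f := g.fr
  have e := f.es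
  have hn := g.norm (mem_centralizer_singleton_iff.2 hu)
  obtain ⟨σ, hA⟩ := f.act_norm hn
  refine (Int.units_eq_one_or (Equiv.Perm.sign σ)).imp (fun hs => ?_) fun hs => ⟨σ, hA, hs⟩
  by_cases h1 : σ = 1
  · exact h1 ▸ hA
  obtain ⟨i, hi⟩ := e.type2 hu h2 hA h1 hs
  have σ2 : σ * σ = 1 := e.act_uniq (e.act_mul hu hA hA) (h2 ▸ act_of_comm fun i => by simp)
  obtain ⟨k, hk, hB⟩ := f.surj hs
  have kz : ∀ k ∈ K, k * z = z * k := fun k hk => cm f.zc hk
  obtain ⟨x, hx, y, hy, e1⟩ := f.ker (mul_mem (inv_mem (le_normalizer hk)) hn) (by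
    simpa using e.act_mul (kz _ (inv_mem hk)) (e.act_inv (kz k hk) hB) hA)
  have hB' : Act z a (k * x) σ := by simpa using e.act_mul (kz k hk) hB (e.act_of_mem hx)
  have hk' := mul_mem hk (f.E_le hx)
  obtain rfl : u = k * x * y := by rw [mul_assoc, ← e1, mul_inv_cancel_left]
  generalize k * x = k at *
  have c := cm hy hk'
  rcases Nat.even_or_odd' (orderOf (y * y)) with ⟨j, hj | hj⟩
  · have p := pow_orderOf_eq_one (y * y)
    have c' : Commute (k * y) (y ^ (2 * j)) := (c.mul_left (Commute.refl y)).pow_right _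
    refine e16 h f (pow_mem hy (2 * j)) (by rw [← (Commute.refl y).mul_pow, ← hj, p]) (fun e2 => ?_)
      (by rw [two_mul, pow_add]; exact g.nosq h _ (pow_mem hy j)) h2 hu.symm c'.symm hi.symm
    have := orderOf_pos (y * y)
    have := Nat.le_of_dvd (by omega) (orderOf_dvd_of_pow_eq_one (x := y * y) (n := j) (by
      rw [← pow_two, ← pow_mul, e2]))
    omega
  · obtain ⟨t, ht, t1, tz⟩ := g.cw.big
    have ka : Commute k (a i) := by
      simpa using (show Commute (k * y) (a i) from hi).mul_left (cm hy (f.mem i)).symm.inv_left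
    have m := pow_mem hk' (2 * j + 1)
    refine (h1 ?_).elim
    have := e.act_uniq (e.act_pow (kz k hk') hB' (2 * j + 1)) (e16 h f (g.WK ht) (g.cw.sq t ht) t1 tz ?_
      (kz _ m).symm (cm (g.WK ht) m).symm (ka.pow_left _).symm)
    · rwa [pow_succ, pow_mul, pow_two, σ2, one_pow, one_mul] at this
    · rw [c.symm.mul_mul_mul_comm] at h2
      rw [← (Commute.refl k).mul_pow, eq_inv_of_mul_eq_one_left h2, inv_pow, ← hj, pow_orderOf_eq_one, inv_one]

theorem Gd.fin (h : Hy G) (g : Gd K z a W) (g' : Gd K' z' a' W') (hc : z' * z = z * z') (hA : Act z a z' 1) :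
    ∃ s, s ≠ 1 ∧ s ∈ W ∧ s ∈ W' := by
  have f := g.fr
  have e := f.es
  have z2 := g'.fr.es.z2
  rcases inv h g z2 hc hA with hz | ⟨i, w, hw, e1⟩
  · exact ⟨z', g'.cw.z1, hz, g'.cw.mem⟩
  obtain ⟨t, ht, t1, tz⟩ := g'.cw.big
  have key : ∀ c ∈ K, Commute c (a i) → Commute (c * c) t := fun c hc ca => by
    have cz : Commute c z' := e1 ▸ ca.mul_right (cm (g.WK hw) hc)
    have ez : c * z' * c⁻¹ = z' := by rw [cz.eq, mul_inv_cancel_right]
    have e2 : c * c * t * (c * c)⁻¹ = c * (c * t * c⁻¹) * c⁻¹ := by group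
    refine mul_inv_eq_iff_eq_mul.1 (e2.trans ?_)
    rcases cases4 g'.cw.sq g'.card g'.cw.mem ht g'.cw.z1 t1 tz ((mem_normalizer_iff.1
      (g'.cw.norm (mem_centralizer_singleton_iff.2 cz)) t).1 ht) with e3 | e3 | e3 | e3
    · exact (t1 (by simpa using e3)).elim
    · exact (tz (by simpa using e3.trans ez.symm)).elim
    · rw [e3, e3]
    · rw [e3, ← conj_mul, e3, ez, ← mul_assoc, z2, one_mul]
  have zt : t * z = z * t := by
    have n1 : i + 1 ≠ i := by simp
    have n2 : i + 2 ≠ i := by simp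
    have n3 : i + 2 ≠ i + 1 := by simp
    have := key (a (i + 1) * a (i + 2)) (mul_mem (f.mem _) (f.mem _)) (by
      rw [Commute, SemiconjBy, mul_assoc, e.cm _ _ n2, ← mul_assoc, ← e.zc, mul_assoc, ← mul_assoc (a (i + 1)),
        e.cm _ _ n1, ← mul_assoc, ← mul_assoc, e.z2, one_mul, mul_assoc])
    rw [mul_assoc, ← mul_assoc (a (i + 2)), e.cm _ _ n3, mul_assoc, mul_assoc, e.sq, mul_one, ← mul_assoc, ← e.zc,
      mul_assoc, e.sq, mul_one] at this
    exact this.symm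
  obtain ⟨τ, hτ⟩ := f.act_norm (g.norm (mem_centralizer_singleton_iff.2 zt))
  have cs : ∀ σ : Equiv.Perm (Fin 5), σ ^ 3 = 1 → σ i = i → τ * σ = σ * τ := fun σ h3 hi => by
    obtain ⟨k, hk, o, hB, ka⟩ := f.lift3 h3 hi
    exact e.act_uniq (e.act_mul zt hτ hB) ((odd_cm o (key k hk ka)).eq ▸ e.act_mul (cm f.zc hk) hB hτ)
  obtain rfl : τ = 1 := (by decide +kernel : ∀ (i : Fin 5) (τ : Equiv.Perm (Fin 5)),
    τ * (Equiv.swap (i + 1) (i + 2) * Equiv.swap (i + 2) (i + 3)) =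
      Equiv.swap (i + 1) (i + 2) * Equiv.swap (i + 2) (i + 3) * τ →
    τ * (Equiv.swap (i + 2) (i + 3) * Equiv.swap (i + 3) (i + 4)) =
      Equiv.swap (i + 2) (i + 3) * Equiv.swap (i + 3) (i + 4) * τ → τ = 1) i τ
    (cs _ (by fin_cases i <;> decide +kernel) (by fin_cases i <;> decide +kernel))
    (cs _ (by fin_cases i <;> decide +kernel) (by fin_cases i <;> decide +kernel))
  rcases inv h g (g'.cw.sq t ht) zt hτ with hz | ⟨j, w', hw', e2⟩
  · exact ⟨t, t1, hz, ht⟩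
  have c := comm_of_sq g'.cw.sq g'.cw.mem ht
  have c1 := fun j => cm (g.WK hw) (f.mem j)
  obtain rfl : i = j := by
    by_contra n
    rw [e1, e2, (c1 j).symm.mul_mul_mul_comm, (cm (g.WK hw') (f.mem i)).symm.mul_mul_mul_comm,
      comm_of_sq g.cw.sq hw hw', mul_left_inj] at c
    exact (e.ne n).2.2 c
  refine ⟨z' * t, fun e => tz ((eq_inv_of_mul_eq_one_right e).trans (inv_of_sq z2)), ?_, mul_mem g'.cw.mem ht⟩
  rw [e1, e2, (c1 i).symm.mul_mul_mul_comm, e.sq, one_mul]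
  exact mul_mem hw hw'

end H22.RK
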