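import Mathlib
import Cfsg.Agent.Lib.Rk3C.Defs

set_option autoImplicit false
set_option linter.unusedSectionVars false
set_option linter.unusedVariables false

namespace H22.RK

open Subgroup H69 H70 Cfsg
open scoped commutatorElement Pointwise

variable {G : Type*} [Group G] [Finite G]

namespace B2x

/-- elements moved by `v` only inside their coset of `⟨z⟩`. -/
def Dv (z v : G) (hz : z * z = 1) (hv : v * z = z * v) : Subgroup G where
  carrier := {w | w * z = z * w ∧ (v * w * v⁻¹ = w ∨ v * w * v⁻¹ = z * w)}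
  one_mem' := ⟨by simp, Or.inl (by simp)⟩
  mul_mem' := by
    rintro a b ⟨ha, ha'⟩ ⟨hb, hb'⟩
    refine ⟨by rw [mul_assoc, hb, ← mul_assoc, ha, mul_assoc], ?_⟩
    rw [← conj_mul]
    rcases ha' with e | e <;> rcases hb' with e' | e' <;> rw [e, e']
    · exact Or.inl rfl
    · right; rw [← mul_assoc, ha, mul_assoc]
    · right; rw [mul_assoc]
    · left
      calc z * a * (z * b) = z * (a * z) * b := by group
        _ = (z * z) * (a * b) := by rw [ha]; group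
        _ = a * b := by rw [hz, one_mul]
  inv_mem' := by
    rintro a ⟨ha, ha'⟩
    have h1 : a⁻¹ * z = z * a⁻¹ := (Commute.inv_left ha).eq
    refine ⟨h1, ?_⟩
    rw [← conj_inv]
    rcases ha' with e | e <;> rw [e]
    · exact Or.inl rfl
    · right; rw [mul_inv_rev, inv_of_sq hz, h1]

theorem conj_z {z g a : G} (hg : g * z = z * g) : g * (z * a) * g⁻¹ = z * (g * a * g⁻¹) := by
  rw [← mul_assoc, hg]; group

theorem one_of_three (h : Hy G) {W : Subgroup G} {z s t : G} (hW : CW z W) (hs : s * s = 1)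
    (hsz : s * z = z * s) (htz : t * z = z * t) (hst : s * t = t * s) :
    ∃ v, (v = s ∨ v = t ∨ v = s * t) ∧ ∀ w ∈ W, v * w * v⁻¹ = w ∨ v * w * v⁻¹ = z * w := by
  have zz := hW.sq z hW.mem
  by_cases h1 : ∀ w ∈ W, s * w * s⁻¹ = w ∨ s * w * s⁻¹ = z * w
  · exact ⟨s, Or.inl rfl, h1⟩
  push Not at h1
  obtain ⟨a, ha, h1, h2⟩ := h1
  have hsN := hW.norm (mem_centralizer_singleton_iff.2 hsz)
  have htN := hW.norm (mem_centralizer_singleton_iff.2 htz)
  have hb : s * a * s⁻¹ ∈ W := (mem_normalizer_iff.1 hsN a).1 ha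
  have hba : s * (s * a * s⁻¹) * s⁻¹ = a := by
    calc s * (s * a * s⁻¹) * s⁻¹ = (s * s) * a * (s * s)⁻¹ := by group
      _ = a := by rw [hs]; group
  have sz : s * z * s⁻¹ = z := by rw [hsz]; group
  have tz : t * z * t⁻¹ = z := by rw [htz]; group
  have hst' : ∀ y, t * (s * y * s⁻¹) * t⁻¹ = s * (t * y * t⁻¹) * s⁻¹ := fun y => by
    calc t * (s * y * s⁻¹) * t⁻¹ = (t * s) * y * (t * s)⁻¹ := by group
      _ = _ := by rw [← hst]; group
  have hb' := hst' a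
  generalize hbd : s * a * s⁻¹ = b at *
  have hi : Ind z a b := by
    refine ⟨hW.z1, fun e => h1 ?_, fun e => h1 ?_, fun e => h1 ?_, fun e => h1 ?_, h1, h2⟩
    · rw [← hbd, e]; group
    · rw [← hbd, e, sz]
    · rw [← hba, e]; group
    · rw [← hba, e, sz]
  have cm := fun {x y : G} (hx : x ∈ W) (hy : y ∈ W) => comm_of_sq hW.sq hx hy
  have hE : E8 W := ⟨hW.sq, le_antisymm (h.card_le hW.sq) (by
    rw [← (e8_sp3 zz (hW.sq a ha) (hW.sq b hb) (cm hW.mem ha) (cm hW.mem hb) (cm ha hb) hi).card]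
    exact card_le_of_le (sup_le (sup_le (zpowers_le_of_mem hW.mem) (zpowers_le_of_mem ha))
      (zpowers_le_of_mem hb)))⟩
  have fin : ∀ v (hv : v * z = z * v), (v * a * v⁻¹ = a ∨ v * a * v⁻¹ = z * a) →
      (v * b * v⁻¹ = b ∨ v * b * v⁻¹ = z * b) →
      ∀ w ∈ W, v * w * v⁻¹ = w ∨ v * w * v⁻¹ = z * w := fun v hv e1 e2 w hw => by
    have : W ≤ Dv z v zz hv := by
      rw [hE.eq_sp3 hW.mem ha hb hi]
      exact sup_le (sup_le (zpowers_le_of_mem ⟨rfl, Or.inl (by rw [hv]; group)⟩)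
        (zpowers_le_of_mem ⟨cm ha hW.mem, e1⟩)) (zpowers_le_of_mem ⟨cm hb hW.mem, e2⟩)
    exact (this hw).2
  have hstz : s * t * z = z * (s * t) := by rw [mul_assoc, htz, ← mul_assoc, hsz, mul_assoc]
  have e3 : ∀ y, s * t * y * (s * t)⁻¹ = s * (t * y * t⁻¹) * s⁻¹ := fun y => by group
  have inj : ∀ {x y : G}, t * x * t⁻¹ = t * y * t⁻¹ → x = y := fun e => by simpa using e
  rcases hE.cases hW.mem ha hb hi ((mem_normalizer_iff.1 htN a).1 ha) with e | e | e | e | e | e | e | e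
  · exact absurd (inj (e.trans (by group : (1 : G) = t * 1 * t⁻¹))) hi.2.1
  · exact absurd (inj (e.trans tz.symm)) hi.2.2.1
  · exact ⟨t, Or.inr (Or.inl rfl), fin t htz (Or.inl e) (Or.inl (by rw [hb', e, hbd]))⟩
  · exact ⟨t, Or.inr (Or.inl rfl), fin t htz (Or.inr e) (Or.inr (by rw [hb', e, conj_z hsz, hbd]))⟩
  · exact ⟨s * t, Or.inr (Or.inr rfl), fin _ hstz (Or.inl (by rw [e3, e, hba]))
      (Or.inl (by rw [e3, hb', e, hba, hbd]))⟩
  · exact ⟨s * t, Or.inr (Or.inr rfl), fin _ hstz (Or.inr (by rw [e3, e, conj_z hsz, hba]))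
      (Or.inr (by rw [e3, hb', e, conj_z hsz, conj_z hsz, hba, hbd]))⟩
  · refine absurd (inj (hb'.trans ?_)) h1
    rw [e, ← conj_mul, hbd, hba, cm hb ha]
  · refine absurd (inj (hb'.trans ?_)) h1
    rw [e, mul_assoc z, conj_z hsz, ← conj_mul, hbd, hba, cm hb ha]

theorem trans {V : Subgroup G} {z : G} (hV : E8 V) (hF : Full V) (hz : z ∈ V) (z1 : z ≠ 1) {a b : G}
    (ha : a ∈ V) (a1 : a ≠ 1) (az : a ≠ z) (hb : b ∈ V) (b1 : b ≠ 1) (bz : b ≠ z) :
    ∃ m, m * z = z * m ∧ m * a * m⁻¹ = b := by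
  obtain ⟨c, hc, hi⟩ := hV.ext3 hz ha z1 a1 az
  obtain ⟨d, hd, hj⟩ := hV.ext3 hz hb z1 b1 bz
  obtain ⟨m, -, e1, e2, -⟩ := hF z hz a ha c hc z hz b hb d hd hi hj
  exact ⟨m, mul_inv_eq_iff_eq_mul.1 e1, e2⟩

theorem le_of {V U : Subgroup G} {z : G} (hV : E8 V) (hF : Full V) (hz : z ∈ V) (z1 : z ≠ 1)
    (hzU : z ∈ U) (hU : centralizer {z} ≤ 𝐍(U)) {a : G} (ha : a ∈ V) (a1 : a ≠ 1) (az : a ≠ z)
    (haU : a ∈ U) : V ≤ U := fun b hb => by
  by_cases b1 : b = 1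
  · exact b1 ▸ one_mem _
  by_cases bz : b = z
  · exact bz ▸ hzU
  obtain ⟨m, hm, e⟩ := trans hV hF hz z1 ha a1 az hb b1 bz
  exact e ▸ (mem_normalizer_iff.1 (hU (mem_centralizer_singleton_iff.2 hm)) a).1 haU

end B2x

open B2x in
theorem eqW (h : Hy G) {V W : Subgroup G} {z : G} (hV : E8 V) (hF : Full V) (hz : z ∈ V) (hW : CW z W) :
    W = V := by
  have zz := hW.sq z hW.mem
  have cW := fun {x y : G} (hx : x ∈ W) (hy : y ∈ W) => comm_of_sq hW.sq hx hy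
  have cV := fun {x y : G} (hx : x ∈ V) (hy : y ∈ V) => comm_of_sq hV.sq hx hy
  by_cases hc : V ≤ 𝐂(W)
  · have h1 : W ≤ V := fun w hw => hV.mem_of_cent h.rk (hW.sq w hw) fun v hv => (hc hv w hw).symm
    obtain ⟨t, ht, t1, tz⟩ := hW.big
    exact le_antisymm h1 (le_of hV hF hz hW.z1 hW.mem hW.norm (h1 ht) t1 tz ht)
  exfalso
  have h4 : ∀ a ∈ V, a ∈ W → a = 1 ∨ a = z := fun a ha haW => by
    by_contra hn
    push Not at hn
    exact hc (le_of hV hF hz hW.z1 (fun w hw => cW hw hW.mem)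
      (hW.norm.trans (H69.normalizer_le_normalizer_centralizer W)) ha hn.1 hn.2 fun w hw => cW hw haW)
  have h3 : ∀ a ∈ V, ∀ w ∈ W, a * w * a⁻¹ = w ∨ a * w * a⁻¹ = z * w := by
    obtain ⟨s, hs, t, ht, hi⟩ := hV.ext2 hz hW.z1
    obtain ⟨v, hv, hP⟩ := one_of_three h hW (hV.sq s hs) (cV hs hz) (cV ht hz) (cV hs ht)
    have hv' : v ∈ V ∧ v ≠ 1 ∧ v ≠ z := by
      rcases hv with rfl | rfl | rfl
      · exact ⟨hs, hi.2.1, hi.2.2.1⟩
      · exact ⟨ht, hi.2.2.2.1, hi.2.2.2.2.1⟩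
      · refine ⟨mul_mem hs ht, fun e => hi.2.2.2.2.2.1 ?_, fun e => hi.2.2.2.2.2.2 ?_⟩
        · rw [← inv_of_sq (hV.sq s hs)]; exact eq_inv_of_mul_eq_one_right e
        · rw [← cV hs hz, ← e, ← mul_assoc, hV.sq s hs, one_mul]
    intro a ha w hw
    by_cases a1 : a = 1
    · left; rw [a1]; group
    by_cases az : a = z
    · left; rw [az, ← cW hw hW.mem]; group
    obtain ⟨m, hm, rfl⟩ := trans hV hF hz hW.z1 hv'.1 hv'.2.1 hv'.2.2 ha a1 az
    have e : m * v * m⁻¹ * w * (m * v * m⁻¹)⁻¹ = m * (v * (m⁻¹ * w * m) * v⁻¹) * m⁻¹ := by group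
    rw [e]
    rcases hP _ ((mem_normalizer_iff''.1 (hW.norm (mem_centralizer_singleton_iff.2 hm)) w).1 hw)
      with e' | e' <;> rw [e']
    · left; group
    · right; rw [conj_z hm]; group
  obtain ⟨u, hu, hn⟩ := SetLike.not_le_iff_exists.1 hc
  rw [mem_centralizer_iff] at hn
  push Not at hn
  obtain ⟨w, hw, hn⟩ := hn
  have uw : u * w * u⁻¹ = z * w := (h3 u hu w hw).resolve_left fun e => hn (mul_inv_eq_iff_eq_mul.1 e).symm
  have ww := hW.sq w hw
  have wz := cW hw hW.mem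
  have wu : w * u * w⁻¹ = z * u := by
    calc w * u * w⁻¹ = w * (u * w * u⁻¹)⁻¹ * u := by group
      _ = z * u := by rw [uw, ← wz, mul_inv_rev, inv_of_sq zz, ← mul_assoc, wz]; group
  have u1 : u ≠ 1 := fun e => hn (by rw [e]; simp)
  have uz : u ≠ z := fun e => hn (by rw [e, wz])
  obtain ⟨v, hv, hi, vw⟩ : ∃ v ∈ V, Ind z u v ∧ v * w * v⁻¹ = w := by
    obtain ⟨c, hc, hi⟩ := hV.ext3 hz hu hW.z1 u1 uz
    rcases h3 c hc w hw with e | e
    · exact ⟨c, hc, hi, e⟩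
    · have uu := hV.sq u hu
      have k : ∀ x, c * u = x → c = x * u := fun x e => by rw [← e, mul_assoc, uu, mul_one]
      refine ⟨c * u, mul_mem hc hu, ⟨hi.1, u1, uz, fun e => hi.2.2.2.2.2.1 ?_, fun e => hi.2.2.2.2.2.2 ?_,
        fun e => hi.2.2.2.1 ?_, fun e => hi.2.2.2.2.1 ?_⟩, ?_⟩
      · rw [k _ e, one_mul]
      · exact k _ e
      · rw [k _ e, uu]
      · rw [k _ e, mul_assoc, uu, mul_one]
      · calc c * u * w * (c * u)⁻¹ = c * (u * w * u⁻¹) * c⁻¹ := by group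
          _ = w := by rw [uw, conj_z (cV hc hz), e, ← mul_assoc, zz, one_mul]
  obtain ⟨z1, -, -, v1, vz, vu, vzu⟩ := id hi
  have uzv : u ≠ z * v := fun e => vzu (by rw [e, ← mul_assoc, zz, one_mul])
  have i1 : Ind z v u := ⟨z1, v1, vz, u1, uz, vu.symm, uzv⟩
  obtain ⟨m, -, mz, mv, mu⟩ := hF z hz v hv u hu v hv z hz u hu i1
    ⟨v1, z1, vz.symm, u1, vu.symm, uz, by rwa [cV hv hz]⟩
  have wv : w * v * w⁻¹ = v := by rw [← mul_inv_eq_iff_eq_mul.1 vw]; group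
  have wz' : w * z * w⁻¹ = z := by rw [wz]; group
  have cj : ∀ y, m * w * m⁻¹ * (m * y * m⁻¹) * (m * w * m⁻¹)⁻¹ = m * (w * y * w⁻¹) * m⁻¹ := fun y => by group
  have iz := cj v
  have iv := cj z
  have iu := cj u
  rw [wv, mv] at iz
  rw [wz', mz] at iv
  rw [wu, mu, ← conj_mul (b := m), mz, mu] at iu
  have ii : m * w * m⁻¹ * (m * w * m⁻¹) = 1 := by rw [conj_mul, ww]; group
  have hg : m⁻¹ * w * m ∈ 𝐍(W) := hW.norm (mem_centralizer_singleton_iff.2 (by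
    rw [← mul_inv_eq_iff_eq_mul]
    calc m⁻¹ * w * m * z * (m⁻¹ * w * m)⁻¹ = m⁻¹ * (w * (m * z * m⁻¹) * w⁻¹) * m := by group
      _ = z := by rw [mz, wv, ← mz]; group))
  have hcm : m⁻¹ * (w⁻¹ * (m * w * m⁻¹ * w * (m * w * m⁻¹)⁻¹)) * m ∈ W := by
    have := mul_mem ((mem_normalizer_iff''.1 hg w).1 hw) (inv_mem hw)
    convert this using 1
    group
  generalize m * w * m⁻¹ = i at *
  have iz' := mul_inv_eq_iff_eq_mul.1 iz
  have hcW : w⁻¹ * (i * w * i⁻¹) ∈ W :=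
    mul_mem (inv_mem hw) ((mem_normalizer_iff.1 (hW.norm (mem_centralizer_singleton_iff.2 iz')) w).1 hw)
  have act : ∀ y, i * (w * (i * y * i⁻¹) * w⁻¹) * i⁻¹ = w * y * w⁻¹ → y * (w⁻¹ * (i * w * i⁻¹)) =
      w⁻¹ * (i * w * i⁻¹) * y := fun y e => by
    have e' : i⁻¹ * y * i = i * y * i⁻¹ := by rw [inv_of_sq ii]
    symm
    rw [← mul_inv_eq_iff_eq_mul]
    calc _ = w⁻¹ * (i * (w * (i⁻¹ * y * i) * w⁻¹) * i⁻¹) * w := by group
      _ = y := by rw [e', e]; group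
  have hcV : w⁻¹ * (i * w * i⁻¹) ∈ V := by
    refine hV.mem_of_cent h.rk (hW.sq _ hcW) ?_
    rw [hV.eq_sp3 hz hv hu i1]
    refine cent_sup (cent_sup (cent_zpowers (act z ?_)) (cent_zpowers (act v ?_))) (cent_zpowers (act u ?_))
    · rw [iz, wz', iz]
    · rw [iv, wv, iv]
    · rw [iu, ← conj_mul (b := w), wv, wu, ← conj_mul (b := i), iv, conj_z iz', iu]
      calc v * (z * (v * u)) = (v * z) * v * u := by group
        _ = z * (v * v) * u := by rw [cV hv hz]; group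
        _ = z * u := by rw [hV.sq v hv, mul_one]
  rcases h4 _ hcV hcW with e | e
  · have wi : w * i = i * w := by
      rw [inv_mul_eq_one] at e
      exact (mul_inv_eq_iff_eq_mul.1 e.symm).symm
    have zu : ∀ x : G, (x * u * x⁻¹ = u ∨ x * u * x⁻¹ = z * u) → i ≠ x := fun x hx e => by
      rw [← e, iu] at hx
      rcases hx with e | e
      · exact v1 (by simpa using e)
      · exact vz (mul_right_cancel e)
    have f1 : z * u * z⁻¹ = u := by rw [cV hz hu]; group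
    have f2 : v * u * v⁻¹ = u := by rw [cV hv hu]; group
    have f3 : z * v * u * (z * v)⁻¹ = u := by rw [cV (mul_mem hz hv) hu]; group
    have f4 : ∀ x ∈ V, x * w * u * (x * w)⁻¹ = z * u := fun x hx => by
      calc x * w * u * (x * w)⁻¹ = x * (w * u * w⁻¹) * x⁻¹ := by group
        _ = z * u := by rw [wu, cV hx (mul_mem hz hu)]; group
    have wn : w ∉ V := fun hwV => hn (cV hwV hu)
    refine h.not_r4 (r4_of zz (hV.sq v hv) ww ii (cV hz hv) wz.symm (mul_inv_eq_iff_eq_mul.1 vw) iz'.symm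
      (mul_inv_eq_iff_eq_mul.1 iv).symm wi ⟨z1, v1, vz, fun e => wn (e ▸ one_mem _), fun e => wn (e ▸ hz),
        fun e => wn (e ▸ hv), fun e => wn (e ▸ mul_mem hz hv)⟩ ?_)
    rintro (e | e | e | e | e | e | e | e)
    · exact zu 1 (Or.inl (by group)) e
    · exact zu _ (Or.inl f1) e
    · exact zu _ (Or.inl f2) e
    · exact zu _ (Or.inl f3) e
    · exact zu _ (Or.inr wu) e
    · exact zu _ (Or.inr (f4 z hz)) e
    · exact zu _ (Or.inr (f4 v hv)) e
    · exact zu _ (Or.inr (f4 _ (mul_mem hz hv))) e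
  · rw [e, ← mv] at hcm
    rcases h4 v hv (by simpa [mul_assoc] using hcm) with e | e
    · exact v1 e
    · exact vz e

end H22.RK
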