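import Mathlib
import Cfsg.Agent.Lib.Rk3C.Defs
import Cfsg.Agent.S1175

set_option autoImplicit false
set_option linter.unusedSectionVars false
set_option linter.unusedVariables false

namespace H22.RK

open Subgroup H69 H70 Cfsg
open scoped commutatorElement Pointwise

variable {G : Type*} [Group G] [Finite G]

namespace B3'

/-- an involution normalising an `E₈` centralises two of its involutions. -/
theorem two_fix {X : Subgroup G} (hX : E8 X) {s : G} (s2 : s * s = 1) (hs : s ∈ 𝐍(X)) :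
    ∃ a ∈ X, ∃ b ∈ X, a ≠ 1 ∧ b ≠ 1 ∧ b ≠ a ∧ a * s = s * a ∧ b * s = s * b := by
  by_contra hc
  have H : ∀ a ∈ X, ∀ b ∈ X, a ≠ 1 → b ≠ 1 → a * s = s * a → b * s = s * b → b = a := by
    intro a ha b hb a1 b1 h1 h2
    by_contra hn
    exact hc ⟨a, ha, b, hb, a1, b1, hn, h1, h2⟩
  have si : s⁻¹ = s := inv_of_sq s2
  have cm : ∀ x ∈ X, s * x * s ∈ X := fun x hx => by
    have := conj_mem_of_mem_normalizer hs hx
    rwa [si] at this
  have fx : ∀ x ∈ X, x * (s * x * s) * s = s * (x * (s * x * s)) := fun x hx => by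
    have h1 := comm_of_sq hX.sq hx (cm x hx)
    calc x * (s * x * s) * s = x * s * x * (s * s) := by simp only [mul_assoc]
      _ = (s * s) * (x * s * x) := by rw [s2, mul_one, one_mul]
      _ = s * (s * x * s * x) := by simp only [mul_assoc]
      _ = s * (x * (s * x * s)) := by rw [← h1]
  have k1 : ∀ x ∈ X, x * (s * x * s) = 1 → x * s = s * x := fun x hx h => by
    have x2 := hX.sq x hx
    have : s * x * s = x := by
      have := inv_eq_of_mul_eq_one_right h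
      rw [← this, inv_of_sq x2]
    calc x * s = s * x * s * s := by rw [this]
      _ = s * x := by rw [mul_assoc, s2, mul_one]
  have tri : ∀ x ∈ X, ∀ y ∈ X, x * s = s * x ∨ y * s = s * y ∨ x * y * s = s * (x * y) := by
    intro x hx y hy
    by_cases h1 : x * (s * x * s) = 1
    · exact Or.inl (k1 x hx h1)
    by_cases h2 : y * (s * y * s) = 1
    · exact Or.inr (Or.inl (k1 y hy h2))
    have h3 := H _ (mul_mem hx (cm x hx)) _ (mul_mem hy (cm y hy)) h1 h2 (fx x hx) (fx y hy)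
    refine Or.inr (Or.inr (k1 _ (mul_mem hx hy) ?_))
    have e1 : s * (x * y) * s = (s * x * s) * (s * y * s) := by
      calc s * (x * y) * s = s * x * (s * s) * y * s := by rw [s2]; simp only [mul_assoc, one_mul]
        _ = _ := by simp only [mul_assoc]
    have e2 := comm_of_sq hX.sq hy (cm x hx)
    calc x * y * (s * (x * y) * s) = x * (y * (s * x * s)) * (s * y * s) := by rw [e1]; simp only [mul_assoc]
      _ = x * (s * x * s) * (y * (s * y * s)) := by rw [e2]; simp only [mul_assoc]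
      _ = 1 := by rw [h3]; exact hX.sq _ (mul_mem hx (cm x hx))
  have ne1 : ∀ x ∈ X, ∀ y : G, y ≠ x → x * y ≠ 1 := fun x hx y h e =>
    h (by rw [← inv_eq_of_mul_eq_one_right e, inv_of_sq (hX.sq x hx)])
  obtain ⟨a, ha, a1⟩ : ∃ a ∈ X, a ≠ 1 := by
    by_contra h
    push Not at h
    exact hX.ne_bot ((eq_bot_iff_forall _).2 h)
  obtain ⟨b, hb, c, -, hi⟩ := hX.ext2 ha a1
  obtain ⟨u, hu, u1, us⟩ : ∃ u ∈ X, u ≠ 1 ∧ u * s = s * u := by
    rcases tri a ha b hb with h | h | h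
    exacts [⟨a, ha, a1, h⟩, ⟨b, hb, hi.2.1, h⟩, ⟨_, mul_mem ha hb, ne1 a ha b hi.2.2.1, h⟩]
  obtain ⟨v, hv, w, hw, -, v1, vu, w1, wu, wv, wuv⟩ := hX.ext2 hu u1
  rcases tri v hv w hw with h | h | h
  · exact vu (H u hu v hv u1 v1 us h)
  · exact wu (H u hu w hw u1 w1 us h)
  · have := H u hu _ (mul_mem hv hw) u1 (ne1 v hv w wv) us h
    apply wuv
    rw [← this, comm_of_sq hX.sq hv hw, mul_assoc, hX.sq v hv, mul_one]

theorem E8.cj {X : Subgroup G} (hX : E8 X) (g : G) : E8 (X ^ᶜ g) := by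
  refine ⟨fun a ha => ?_, by rw [card_cj, hX.card]⟩
  obtain ⟨b, hb, rfl⟩ := mem_cj'.1 ha
  calc g * b * g⁻¹ * (g * b * g⁻¹) = g * (b * b) * g⁻¹ := by group
    _ = 1 := by rw [hX.sq b hb]; group

/-- a conjugate of `V` meeting `V` is `V`. -/
theorem ti {V : Subgroup G} (hV : E8 V) (hF : Full V)
    (hC : ∀ z ∈ V, z ≠ 1 → centralizer {z} ≤ 𝐍(V)) {a g : G} (ha : a ∈ V) (a1 : a ≠ 1)
    (hg : g * a * g⁻¹ ∈ V) : g ∈ 𝐍(V) := by
  have g1 : g * a * g⁻¹ ≠ 1 := fun e => a1 (by simpa using e)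
  obtain ⟨b, hb, c, hc, hi⟩ := hV.ext2 ha a1
  obtain ⟨b', hb', c', hc', hi'⟩ := hV.ext2 hg g1
  obtain ⟨m, hm, e, -, -⟩ := hF _ ha _ hb _ hc _ hg _ hb' _ hc' hi hi'
  have : m⁻¹ * g ∈ centralizer ({a} : Set G) := by
    rw [mem_centralizer_singleton_iff]
    calc m⁻¹ * g * a = m⁻¹ * (g * a * g⁻¹) * g := by group
      _ = a * (m⁻¹ * g) := by rw [← e]; group
  simpa using mul_mem hm (hC a ha a1 this)

/-- a conjugate of an involution of `V` normalising `V` lies in `V`. -/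
theorem key (h : Hy G) {V : Subgroup G} (hV : E8 V) (hF : Full V)
    (hC : ∀ z ∈ V, z ≠ 1 → centralizer {z} ≤ 𝐍(V)) {z g : G} (hz : z ∈ V) (z1 : z ≠ 1)
    (hg : g * z * g⁻¹ ∈ 𝐍(V)) : g * z * g⁻¹ ∈ V := by
  by_contra hn
  have hU := E8.cj hV g
  have hu : g * z * g⁻¹ ∈ V ^ᶜ g := cj_mem g hz
  have u1 : g * z * g⁻¹ ≠ 1 := fun e => z1 (by simpa using e)
  have dis : ∀ x ∈ V, x ∈ V ^ᶜ g → x = 1 := by
    intro x hx hx'
    by_contra x1
    obtain ⟨y, hy, rfl⟩ := mem_cj'.1 hx'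
    have y1 : y ≠ 1 := fun e => x1 (by simp [e])
    exact hn (conj_mem_of_mem_normalizer (ti hV hF hC hy y1 hx) hz)
  have hCU : centralizer {g * z * g⁻¹} ≤ 𝐍(V ^ᶜ g) := by
    rw [← cj_centralizer_singleton, ← cj_normalizer]
    exact cj_mono g (hC z hz z1)
  obtain ⟨a, ha, a', ha', a1, a1', aa, au, au'⟩ := two_fix hV (hU.sq _ hu) hg
  have na : a ∈ 𝐍(V ^ᶜ g) := hCU (mem_centralizer_singleton_iff.2 au)
  have na' : a' ∈ 𝐍(V ^ᶜ g) := hCU (mem_centralizer_singleton_iff.2 au')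
  obtain ⟨b, hb, b', hb', b1, b1', bb, ba, ba'⟩ := two_fix hU (hV.sq a ha) na
  have cm : ∀ y ∈ V ^ᶜ g, y * a = a * y → a' * y = y * a' := by
    intro y hy hya
    have ny : y ∈ 𝐍(V) := hC a ha a1 (mem_centralizer_singleton_iff.2 hya)
    have h1 : a'⁻¹ * (y * a' * y⁻¹) ∈ V := mul_mem (inv_mem ha') (conj_mem_of_mem_normalizer ny ha')
    have h2 : a'⁻¹ * y * a' * y⁻¹ ∈ V ^ᶜ g := mul_mem (conj_mem_of_mem_normalizer' na' hy) (inv_mem hy)
    have h3 := dis _ h1 (by simpa only [mul_assoc] using h2)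
    calc a' * y = a' * (a'⁻¹ * (y * a' * y⁻¹)) * y := by rw [h3, mul_one]
      _ = y * a' := by group
  have nV : ∀ y ∈ V ^ᶜ g, y ≠ 1 → y ∉ V := fun y hy y1 hv => y1 (dis y hv hy)
  have nb := nV b hb b1
  have nb' := nV b' hb' b1'
  have nbb : b' * b ∉ V := nV _ (mul_mem hb' hb) fun e =>
    bb (by rw [← inv_of_sq (hU.sq b' hb'), inv_eq_of_mul_eq_one_right e])
  have bsq := hU.sq b hb
  refine h.not_r4 (r4_of (hV.sq a ha) (hV.sq a' ha') bsq (hU.sq b' hb') (comm_of_sq hV.sq ha ha') ba.symm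
    (cm b hb ba) ba'.symm (cm b' hb' ba') (comm_of_sq hU.sq hb hb') ⟨a1, a1', aa, b1, ?_, ?_, ?_⟩ ?_)
  · rintro rfl; exact nb ha
  · rintro rfl; exact nb ha'
  · rintro rfl; exact nb (mul_mem ha ha')
  · rintro (e | e | e | e | e | e | e | e)
    · exact b1' e
    · exact nb' (e ▸ ha)
    · exact nb' (e ▸ ha')
    · exact nb' (e ▸ mul_mem ha ha')
    · exact bb e
    · exact nbb (by rw [e, mul_assoc, bsq, mul_one]; exact ha)
    · exact nbb (by rw [e, mul_assoc, bsq, mul_one]; exact ha')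
    · exact nbb (by rw [e, mul_assoc, bsq, mul_one]; exact mul_mem ha ha')

end B3'

theorem exists_se (h : Hy G) {V : Subgroup G} (hV : E8 V) (hF : Full V)
    (hC : ∀ z ∈ V, z ≠ 1 → centralizer {z} ≤ 𝐍(V)) : ∃ H : Subgroup G, IsStronglyEmbedded H := by
  haveI := h.simple
  haveI : Fact (Nat.Prime 2) := ⟨Nat.prime_two⟩
  have hP := isP_of_sq hV.sq
  have hM : 𝐍(V) ≠ ⊤ := fun e => by
    have hn : V.Normal := normal_iff_top_le_normalizer.2 e.ge
    rcases hn.eq_bot_or_eq_top with e1 | e1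
    · exact hV.ne_bot e1
    · exact h.nab ⟨⟨fun a b => comm_of_sq hV.sq (e1 ▸ mem_top a) (e1 ▸ mem_top b)⟩⟩
  obtain ⟨T, hT, hVT⟩ := exists_isSylowIn_le hP (le_normalizer : V ≤ 𝐍(V))
  obtain ⟨⟨z, hz, hzT⟩, z1⟩ := (ne_bot_iff_exists_ne_one).1 (inf_centralizer_ne_bot hP hT.isP hT.le hV.ne_bot)
  replace z1 : z ≠ 1 := fun e => z1 (Subtype.ext e)
  have z2 := hV.sq z hz
  have sq : ∀ g : G, g * z * g⁻¹ * (g * z * g⁻¹) = 1 := fun g => by
    calc g * z * g⁻¹ * (g * z * g⁻¹) = g * (z * z) * g⁻¹ := by group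
      _ = 1 := by rw [z2]; group
  have hNT : 𝐍(T) ≤ 𝐍(V) := fun g hg => by
    have h1 : g * z * g⁻¹ ∈ 𝐂(T) :=
      conj_mem_of_mem_normalizer (H69.normalizer_le_normalizer_centralizer T hg) hzT
    exact B3'.ti hV hF hC hz z1 (hV.mem_of_cent h.rk (sq g) (centralizer_anti hVT h1))
  obtain ⟨S, hS⟩ := (isSylowIn_of_normalizer (le_top : T ≤ ⊤)
    (hT.mono (le_inf le_top le_normalizer) (inf_le_right.trans hNT))).exists_sylow_top
  refine Cfsg.Agent.S1175.result 𝐍(V) hM z (orderOf_two z2 z1) (le_normalizer hz)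
    ⟨S, ?_, fun s hs => ?_⟩ (fun g hg => ?_) fun g hc hne => ?_
  · change z ∈ (S : Subgroup G)
    rw [hS]; exact hVT hz
  · have : s ∈ T := by rw [← hS]; exact hs
    exact mem_centralizer_iff_commute.1 hzT s this
  · exact B3'.ti hV hF hC hz z1 (B3'.key h hV hF hC hz z1 hg)
  · have h1 := B3'.key h hV hF hC hz z1 (hC z hz z1 (mem_centralizer_singleton_iff.2 hc.symm.eq))
    exact hC _ (mul_mem hz h1) fun e => hne (by rw [← inv_eq_of_mul_eq_one_right e, inv_of_sq z2])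

end H22.RK
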