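import Mathlib
import Cfsg.Agent.Lib.Rk3C.Defs
import Cfsg.Agent.S3763

set_option autoImplicit false
set_option linter.unusedSectionVars false
set_option linter.unusedVariables false

namespace H22.RK

open Subgroup H69 H70 Cfsg
open scoped commutatorElement Pointwise

variable {G : Type*} [Group G] [Finite G]

namespace ES'

/-- a normal self-centralising extraspecial subgroup of order 8 with central involution `z`. -/
structure X8 (Q : Subgroup G) (z : G) : Prop where
  es : H95.ES Q z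
  cz : ∀ g, g * z = z * g
  nrm : Q.Normal
  card : Nat.card Q = 8
  sc : ∀ g, (∀ q ∈ Q, g * q = q * g) → g ∈ Q

/-- `g` fixes `p` modulo `z`. -/
def Fx (z g p : G) : Prop := g * p * g⁻¹ = p ∨ g * p * g⁻¹ = p * z

namespace X8

variable {Q : Subgroup G} {z : G} (h : X8 Q z)
include h

theorem zz (p : G) : p * z * z = p := by rw [mul_assoc, h.es.sq, mul_one]

theorem cjz (g p : G) : g * (p * z) * g⁻¹ = g * p * g⁻¹ * z := by
  rw [mul_assoc (g * p), h.cz g⁻¹]; group

theorem mz (p q : G) : p * z * q = p * q * z := by rw [mul_assoc, ← h.cz q, mul_assoc]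

theorem ne_of {x y : G} (e : x * y ≠ y * x) : x ≠ 1 ∧ x ≠ z :=
  ⟨by rintro rfl; simp at e, by rintro rfl; exact e (h.cz y).symm⟩

theorem cent {x q : G} (hx : x ∈ Q) (h1 : x ≠ 1) (h2 : x ≠ z) (hq : q ∈ Q) (e : q * x = x * q) :
    q = 1 ∨ q = z ∨ q = x ∨ q = x * z := by
  classical
  by_contra hn
  push Not at hn
  obtain ⟨n1, n2, n3, n4⟩ := hn
  have k := h.es.card_centralizer hx h1 h2
  have z1 := h.es.ne_one
  have h3 : x * z ≠ 1 := fun c => h2 (by rw [← h.zz x, c, one_mul])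
  have h4 : x * z ≠ z := by simpa using h1
  have h5 : x * z ≠ x := by simpa using z1
  have s : ({q, 1, z, x, x * z} : Set G) ⊆ (Q ⊓ centralizer ({x} : Set G) : Subgroup G) := by
    rintro p (rfl | rfl | rfl | rfl | rfl)
    exacts [⟨hq, mem_centralizer_singleton_iff.2 e⟩, one_mem _,
      ⟨h.es.mem, mem_centralizer_singleton_iff.2 (h.cz x).symm⟩,
      ⟨hx, mem_centralizer_singleton_iff.2 rfl⟩,
      ⟨mul_mem hx h.es.mem, mem_centralizer_singleton_iff.2 (by rw [h.mz, mul_assoc])⟩]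
  have := Set.ncard_le_ncard s
  rw [Set.ncard_insert_of_notMem (by simp [n1, n2, n3, n4]),
    Set.ncard_insert_of_notMem (by simp [z1.symm, h1.symm, h3.symm]),
    Set.ncard_insert_of_notMem (by simp [h2.symm, h1]), Set.ncard_pair h5.symm,
    ← Nat.card_coe_set_eq] at this
  have k2 : Nat.card ((Q ⊓ centralizer ({x} : Set G) : Subgroup G) : Set G) =
    Nat.card (Q ⊓ centralizer ({x} : Set G) : Subgroup G) := rfl
  rw [h.card] at k
  omega

theorem mem_of_comm {g x y : G} (hx : x ∈ Q) (hy : y ∈ Q) (e : x * y ≠ y * x) (h1 : g * x = x * g)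
    (h2 : g * y = y * g) : g ∈ Q := by
  have k : ∀ q ∈ Q, q * x = x * q → g * q = q * g := fun q hq c => by
    rcases h.cent hx (h.ne_of e).1 (h.ne_of e).2 hq c with rfl | rfl | rfl | rfl
    · simp
    · exact h.cz g
    · exact h1
    · rw [← mul_assoc, h1, mul_assoc, h.cz g, mul_assoc]
  refine h.sc g fun q hq => ?_
  by_cases c : q * x = x * q
  · exact k q hq c
  · have := k _ (mul_mem hq hy) (h.es.mul_comm_of_ne hx hq hy c e.symm)
    rw [mul_assoc q, ← h2, ← mul_assoc, ← mul_assoc] at this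
    exact mul_right_cancel this

theorem inner {g x y : G} (hx : x ∈ Q) (hy : y ∈ Q) (e : x * y ≠ y * x) (h1 : Fx z g x)
    (h2 : Fx z g y) : g ∈ Q := by
  have k : ∀ q ∈ Q, q * x * q⁻¹ = g * x * g⁻¹ → q * y * q⁻¹ = g * y * g⁻¹ → g ∈ Q :=
    fun q hq e1 e2 => by
      have t : ∀ p, q * p * q⁻¹ = g * p * g⁻¹ → q⁻¹ * g * p = p * (q⁻¹ * g) := fun p c => by
        calc q⁻¹ * g * p = q⁻¹ * (g * p * g⁻¹) * g := by group
          _ = _ := by rw [← c]; group
      simpa using mul_mem hq (h.mem_of_comm hx hy e (t x e1) (t y e2))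
  have a1 := h.es.conj_of_ne hx hy e.symm
  have a2 := h.es.conj_of_ne hy hx e
  rcases h1 with h1 | h1 <;> rcases h2 with h2 | h2
  · exact k 1 (one_mem _) (by simp [h1]) (by simp [h2])
  · exact k x hx (by simp [h1]) (by rw [h2, a2])
  · exact k y hy (by rw [h1, a1]) (by simp [h2])
  · refine k (x * y) (mul_mem hx hy) ?_ ?_
    · rw [h1, show x * y * x * (x * y)⁻¹ = x * (y * x * y⁻¹) * x⁻¹ by group, a1, h.cjz]; group
    · rw [h2, ← a2]; group

theorem fx_mul {g g' p : G} (h1 : Fx z g p) (h2 : Fx z g' p) : Fx z (g * g') p := by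
  have : g * g' * p * (g * g')⁻¹ = g * (g' * p * g'⁻¹) * g⁻¹ := by group
  rw [Fx, this]
  rcases h2 with h2 | h2 <;> rw [h2]
  · exact h1
  · rw [h.cjz]
    rcases h1 with h1 | h1 <;> rw [h1]
    · exact Or.inr rfl
    · exact Or.inl (h.zz p)

/-- if `g` fixes `w`, it sends `v` into `v Z` or `w v Z`. -/
theorem alt {g w v : G} (hw : w ∈ Q) (hv : v ∈ Q) (e : v * w ≠ w * v) (h1 : Fx z g w) :
    Fx z g v ∨ g * v * g⁻¹ = w * v ∨ g * v * g⁻¹ = w * v * z := by
  have hg := h.nrm.conj_mem v hv g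
  have e1 : g * v * g⁻¹ * w ≠ w * (g * v * g⁻¹) := fun c => e (by
    have c' : g * v * g⁻¹ * (g * w * g⁻¹) = g * w * g⁻¹ * (g * v * g⁻¹) := by
      rcases h1 with h1 | h1 <;> rw [h1]
      · exact c
      · rw [← mul_assoc, c, h.mz]
    rwa [conj_mul, conj_mul, mul_left_inj, mul_right_inj] at c')
  have e2 : v⁻¹ * w ≠ w * v⁻¹ := fun c => e (by
    rw [inv_mul_eq_iff_eq_mul, ← mul_assoc, eq_mul_inv_iff_mul_eq] at c; exact c.symm)
  rcases h.cent hw (h.ne_of e.symm).1 (h.ne_of e.symm).2 (mul_mem hg (inv_mem hv))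
    (h.es.mul_comm_of_ne hw hg (inv_mem hv) e1 e2) with c | c | c | c <;>
    rw [mul_inv_eq_iff_eq_mul] at c
  · exact Or.inl (Or.inl (by rw [c, one_mul]))
  · exact Or.inl (Or.inr (by rw [c, h.cz]))
  · exact Or.inr (Or.inl c)
  · exact Or.inr (Or.inr (by rw [c, h.mz]))

theorem exists_fx {a : G} (ha : a * a = 1) : ∃ w ∈ Q, w ≠ 1 ∧ w ≠ z ∧ Fx z a w := by
  obtain ⟨x, hx, y, hy, e⟩ := h.es.exists_commutator
  have e1 : x * y ≠ y * x := fun c => h.es.ne_one (by rw [← e, c]; group)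
  by_cases c : Fx z a x
  · exact ⟨x, hx, (h.ne_of e1).1, (h.ne_of e1).2, c⟩
  have hx' := h.nrm.conj_mem x hx a
  have hi : x⁻¹ = x ∨ x⁻¹ = x * z := (h.es.sq_mem hx).imp inv_of_sq fun k =>
    inv_eq_of_mul_eq_one_right (by rw [← mul_assoc, k, h.es.sq])
  refine ⟨x * (a * x * a⁻¹), mul_mem hx hx', fun k => c ?_, fun k => c ?_, ?_⟩
  · rw [Fx, ← inv_eq_of_mul_eq_one_right k]
    exact hi
  · rw [Fx, ← inv_mul_eq_iff_eq_mul.2 k.symm]
    rcases hi with i | i <;> rw [i]
    · exact Or.inr rfl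
    · exact Or.inl (h.zz x)
  · have : a * (x * (a * x * a⁻¹)) * a⁻¹ = a * x * a⁻¹ * x := by
      calc _ = a * x * a⁻¹ * ((a * a) * x * (a * a)⁻¹) := by group
        _ = _ := by rw [ha]; group
    rw [Fx, this]
    exact h.es.comm _ hx' _ hx

theorem three {a b : G} (ha : a * a = 1) (ab : a * b = b * a) : a ∈ Q ∨ b ∈ Q ∨ a * b ∈ Q := by
  obtain ⟨w, hw, w1, wz, f⟩ := h.exists_fx ha
  have hw' := h.nrm.conj_mem w hw b
  by_cases c : b * w * b⁻¹ * w = w * (b * w * b⁻¹)
  · have fb : Fx z b w := by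
      rcases h.cent hw w1 wz hw' c with k | k | k | k
      · exact absurd (by simpa using k) w1
      · refine absurd ?_ wz
        rw [mul_inv_eq_iff_eq_mul, ← h.cz] at k
        exact mul_left_cancel k
      · exact Or.inl k
      · exact Or.inr k
    obtain ⟨v, hv, e⟩ := h.es.exists_noncomm hw w1 wz
    rcases h.alt hw hv e f with k | k
    · exact Or.inl (h.inner hv hw e k f)
    rcases h.alt hw hv e fb with k' | k'
    · exact Or.inr (Or.inl (h.inner hv hw e k' fb))
    refine Or.inr (Or.inr (h.inner hv hw e ?_ (h.fx_mul f fb)))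
    have t : a * (w * v) * a⁻¹ = v ∨ a * (w * v) * a⁻¹ = v * z := by
      have i : ∀ p q, a * p * a⁻¹ = q → a * q * a⁻¹ = p := fun p q c => by
        rw [← c]
        calc _ = (a * a) * p * (a * a)⁻¹ := by group
          _ = _ := by rw [ha]; group
      rcases k with k | k
      · exact Or.inl (i _ _ k)
      · right
        rw [← h.zz (w * v), h.cjz, i _ _ k]
    have : a * b * v * (a * b)⁻¹ = a * (b * v * b⁻¹) * a⁻¹ := by group
    rw [Fx, this]
    rcases k' with k' | k' <;> rw [k']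
    · exact t
    · rw [h.cjz]
      rcases t with t | t <;> rw [t]
      · exact Or.inr rfl
      · exact Or.inl (h.zz v)
  · refine Or.inl (h.inner hw' hw c ?_ f)
    have : a * (b * w * b⁻¹) * a⁻¹ = b * (a * w * a⁻¹) * b⁻¹ := by
      calc _ = a * b * w * (a * b)⁻¹ := by group
        _ = _ := by rw [ab]; group
    rw [Fx, this]
    rcases f with f | f <;> rw [f]
    · exact Or.inl rfl
    · exact Or.inr (h.cjz ..)

theorem mem_of_inv {u a : G} (hu : u ∈ Q) (u1 : u ≠ 1) (uz : u ≠ z) (u2 : u * u = 1)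
    (e : a * u = u * a) : a ∈ Q := by
  have f : Fx z a u := Or.inl (by rw [e, mul_inv_cancel_right])
  obtain ⟨v, hv, c⟩ := h.es.exists_noncomm hu u1 uz
  refine h.inner hv hu c ((h.alt hu hv c f).resolve_right fun k => h.es.ne_one ?_) f
  have s1 : a * v * a⁻¹ * (a * v * a⁻¹) = v * v := by
    rw [conj_mul]
    rcases h.es.sq_mem hv with i | i <;> rw [i]
    · simp
    · rw [h.cz, mul_inv_cancel_right]
  have s2 : u * v * (u * v) = v * v * z := by
    rw [mul_assoc, ← mul_assoc v, (h.es.comm v hv u hu).resolve_left c, h.mz, ← mul_assoc,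
      ← mul_assoc, ← mul_assoc, u2, one_mul]
  have s3 : v * v * z = v * v := by
    rw [← s2, ← s1]
    rcases k with k | k <;> rw [k]
    rw [h.mz, ← mul_assoc _ _ z, h.zz]
  simpa using s3

theorem no_e8 {A : Subgroup G} (hA : E8 A) (hz : z ∈ A) : False := by
  obtain ⟨b, hb, c, hc, -, b1, bz, c1, cz, cb, czb⟩ := hA.ext2 hz h.es.ne_one
  have k : ∀ u ∈ A, u ∈ Q → u ≠ 1 → u ≠ z → False := fun u hu uQ u1 uz => by
    have e : A = Q := eq_of_le_of_card_ge
      (fun a ha => h.mem_of_inv uQ u1 uz (hA.sq u hu) (comm_of_sq hA.sq ha hu))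
      (by rw [h.card, hA.card])
    obtain ⟨v, hv, c⟩ := h.es.exists_noncomm uQ u1 uz
    exact c (comm_of_sq hA.sq (e.ge hv) hu)
  rcases h.three (hA.sq b hb) (comm_of_sq hA.sq hb hc) with e | e | e
  · exact k b hb e b1 bz
  · exact k c hc e c1 cz
  · refine k _ (mul_mem hb hc) e (fun i => cb ?_) fun i => czb ?_
    · rw [← inv_eq_of_mul_eq_one_right i, inv_of_sq (hA.sq b hb)]
    · rw [← h.cz, ← i, ← mul_assoc, hA.sq b hb, one_mul]

end X8

end ES'

/-- an extraspecial `F*(C(z))` in 2-rank 3 has order `32` or `128`. -/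
theorem card_es (h : Hy G) {z : G} (hz : orderOf z = 2)
    (hE : IsExtraspecial 2 (generalizedFittingSubgroup (centralizer ({z} : Set G)))) :
    Nat.card (generalizedFittingSubgroup (centralizer ({z} : Set G))) = 32 ∨
      Nat.card (generalizedFittingSubgroup (centralizer ({z} : Set G))) = 2 ^ 7 := by
  obtain ⟨-, -, -, -, -, -, -, n, -, n1, -, -, hn⟩ := H95.exists_pres_of_extraspecial hE
  obtain ⟨z2, z1⟩ := sq_of_orderOf hz
  have r3 : PRankLE 2 3 (generalizedFittingSubgroup (centralizer ({z} : Set G))) :=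
    rank_of_inj _ (subtype_injective _) (rank_of_inj _ (subtype_injective _) h.rk)
  have n3 : n ≤ 3 := by
    by_contra c
    have m : ∀ k, 3 ≤ k → PRankLE 2 k (generalizedFittingSubgroup (centralizer ({z} : Set G))) :=
      fun k hk A a1 a2 => (r3 A a1 a2).trans (Nat.pow_le_pow_right two_pos hk)
    rcases (Cfsg.Agent.S3763.result.{_, 0} hE n hn).1 with k | k
    exacts [k.2 (m _ (by omega)), k.2 (m _ (by omega))]
  obtain rfl | rfl | rfl : n = 1 ∨ n = 2 ∨ n = 3 := by omega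
  swap
  · exact Or.inl hn
  swap
  · exact Or.inr hn
  exfalso
  have hzC : z ∈ centralizer ({z} : Set G) := mem_centralizer_singleton_iff.2 rfl
  have cz : ∀ g : centralizer ({z} : Set G), g * ⟨z, hzC⟩ = ⟨z, hzC⟩ * g := fun g =>
    Subtype.ext (mem_centralizer_singleton_iff.1 g.2)
  have sc : ∀ g : centralizer ({z} : Set G),
      (∀ q ∈ generalizedFittingSubgroup (centralizer ({z} : Set G)), g * q = q * g) →
      g ∈ generalizedFittingSubgroup (centralizer ({z} : Set G)) := fun g hg =>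
    H23.centralizer_fStar_le fun q hq => (hg q hq).symm
  have x8 : ES'.X8 (generalizedFittingSubgroup (centralizer ({z} : Set G))) ⟨z, hzC⟩ :=
    ⟨H95.ES_of_central hE (sc _ fun q _ => (cz q).symm) (fun e => z1 (congrArg Subtype.val e))
      fun x _ => cz x, cz, inferInstance, hn, sc⟩
  obtain ⟨T, t1, t2⟩ := exists_isSylowIn_le (x8.es.isPGroup.map (centralizer ({z} : Set G)).subtype)
    (map_subtype_le _)
  have zT : z ∈ T := t2 ⟨_, x8.es.mem, rfl⟩
  have nT : 𝐍(T) ≤ centralizer ({z} : Set G) := fun g hg => by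
    have k1 : g * z * g⁻¹ ∈ T := conj_mem_of_mem_normalizer hg zT
    have k2 : ∀ q ∈ generalizedFittingSubgroup (centralizer ({z} : Set G)),
        (⟨_, t1.le k1⟩ : centralizer ({z} : Set G)) * q = q * ⟨_, t1.le k1⟩ := fun q hq => by
      have := mem_centralizer_singleton_iff.1
        (t1.le (conj_mem_of_mem_normalizer' hg (t2 ⟨q, hq, rfl⟩)))
      refine Subtype.ext ?_
      change g * z * g⁻¹ * q = q * (g * z * g⁻¹)
      calc g * z * g⁻¹ * q = g * (z * (g⁻¹ * q * g)) * g⁻¹ := by group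
        _ = _ := by rw [← show g⁻¹ * q * g * z = z * (g⁻¹ * q * g) from this]; group
    rcases x8.es.nondeg _ (sc _ k2) k2 with e | e
    · exact absurd (by simpa using congrArg Subtype.val e) z1
    · exact mem_centralizer_singleton_iff.2 (mul_inv_eq_iff_eq_mul.1 (congrArg Subtype.val e))
  have hT : IsSylowIn 2 T ⊤ := isSylowIn_of_normalizer le_top
    (t1.mono (le_inf le_top le_normalizer) (inf_le_right.trans nT))
  obtain ⟨A, a1, a2, a3⟩ : ∃ A : Subgroup G, IsMulCommutative A ∧ (∀ a ∈ A, a ^ 2 = 1) ∧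
      ¬ Nat.card A ≤ 2 ^ 2 := by
    by_contra c
    push Not at c
    exact h.rk' c
  have sq : ∀ a ∈ A, a * a = 1 := fun a ha => (pow_two a).symm.trans (a2 a ha)
  obtain ⟨m, hm⟩ := IsPGroup.iff_card.1 (isP_of_sq sq)
  have a4 := h.card_le sq
  have a8 : Nat.card A = 8 := by
    rw [hm] at a3 a4 ⊢
    have := (Nat.pow_le_pow_iff_right (a := 2) (n := m) (m := 3) one_lt_two).1 a4
    have := mt (Nat.pow_le_pow_right (n := 2) (i := m) (j := 2) two_pos) a3
    obtain rfl : m = 3 := by omega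
    rfl
  obtain ⟨g, -, hg⟩ := hT.exists_cj_le (isP_of_sq sq) le_top
  have e8 : E8 (A ^ᶜ g) := ⟨by
    rintro _ ⟨a, ha, rfl⟩
    rw [← map_mul, sq a ha, map_one], by rw [card_cj, a8]⟩
  have hl := hg.trans t1.le
  exact x8.no_e8 (A := (A ^ᶜ g).subgroupOf _) ⟨fun a ha => Subtype.ext (e8.sq _ ha),
    by rw [card_subgroupOf hl, e8.card]⟩
    (e8.mem_of_cent h.rk z2 fun a ha => mem_centralizer_singleton_iff.1 (hl ha))

end H22.RK
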