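import Mathlib
import Cfsg.Agent.Lib.Rk3C.Defs

set_option autoImplicit false
set_option linter.unusedSectionVars false
set_option linter.unusedVariables false

namespace H22.RK

open Subgroup H69 H70 Cfsg
open scoped commutatorElement Pointwise

namespace R1

open Matrix

/-- the product of a sub-list of `a, b, c, d`. -/
def wd {M : Type*} [Monoid M] (a b c d : M) (i j k l : Bool) : M :=
  (bif i then a else 1) * (bif j then b else 1) * (bif k then c else 1) * (bif l then d else 1)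

theorem map_wd {M N : Type*} [Monoid M] [Monoid N] (f : M →* N) (a b c d : M) (i j k l : Bool) :
    f (wd a b c d i j k l) = wd (f a) (f b) (f c) (f d) i j k l := by
  cases i <;> cases j <;> cases k <;> cases l <;> simp [wd]

theorem r4_wd {G : Type*} [Group G] [Finite G] {a b c d : G} (ha : a * a = 1) (hb : b * b = 1)
    (hc : c * c = 1) (hd : d * d = 1) (ab : a * b = b * a) (ac : a * c = c * a) (bc : b * c = c * b)
    (ad : a * d = d * a) (bd : b * d = d * b) (cd : c * d = d * c)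
    (h : ∀ i j k l : Bool, (i || j || k || l) = true → wd a b c d i j k l ≠ 1) : R4 G := by
  have e : ∀ {x y : G}, y * y = 1 → x * y ≠ 1 → y ≠ x := fun hy hn e => hn (by rw [← e, hy])
  refine r4_of ha hb hc hd ab ac bc ad bd cd ⟨?_, ?_, e hb ?_, ?_, e hc ?_, e hc ?_, e hc ?_⟩ ?_
  · simpa [wd] using h true false false false rfl
  · simpa [wd] using h false true false false rfl
  · simpa [wd] using h true true false false rfl
  · simpa [wd] using h false false true false rfl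
  · simpa [wd] using h true false true false rfl
  · simpa [wd] using h false true true false rfl
  · simpa [wd] using h true true true false rfl
  · simp only [not_or]
    refine ⟨?_, e hd ?_, e hd ?_, e hd ?_, e hd ?_, e hd ?_, e hd ?_, e hd ?_⟩
    · simpa [wd] using h false false false true rfl
    · simpa [wd] using h true false false true rfl
    · simpa [wd] using h false true false true rfl
    · simpa [wd] using h true true false true rfl
    · simpa [wd] using h false false true true rfl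
    · simpa [wd] using h true false true true rfl
    · simpa [wd] using h false true true true rfl
    · simpa [wd] using h true true true true rfl

/-- four matrices over a small ring which give an `E₁₆` modulo the centre. -/
theorem r4_mat {n : ℕ} {R F : Type*} [CommRing R] [CommRing F] (φ : R →+* F) (hφ : Function.Injective φ)
    {H : Type*} [Group H] [Finite H] (ι : H →* Matrix (Fin n) (Fin n) F) (hι : Function.Injective ι)
    (A B C D : Matrix (Fin n) (Fin n) R) (Ws : List (Matrix (Fin n) (Fin n) R))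
    (hP : ∀ X ∈ A :: B :: C :: D :: Ws, ∃ h, ι h = X.map φ)
    (sq : ∀ X ∈ [A, B, C, D], X * X = 1 ∨ X * X = -1)
    (cm : ∀ X ∈ [A, B, C, D], ∀ Y ∈ [A, B, C, D], X * Y = Y * X ∨ X * Y = -(Y * X))
    (nc : ∀ i j k l : Bool, (i || j || k || l) = true →
      ∃ W ∈ A :: B :: C :: D :: Ws, wd A B C D i j k l * W ≠ W * wd A B C D i j k l) :
    R4 (H ⧸ center H) := by
  let ψ : Matrix (Fin n) (Fin n) R →+* Matrix (Fin n) (Fin n) F := φ.mapMatrix
  have hψ : Function.Injective ψ := fun X Y h => by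
    ext i j
    exact hφ (congrFun (congrFun h i) j)
  have hz : ∀ x y : H, ι x = ι y ∨ ι x = -ι y → (x : H ⧸ center H) = y := fun x y h => by
    rw [QuotientGroup.eq, mem_center_iff]
    intro g
    apply hι
    have h1 : ι x⁻¹ * ι x = 1 := by rw [← map_mul, inv_mul_cancel, map_one]
    have h2 : ι (x⁻¹ * y) = 1 ∨ ι (x⁻¹ * y) = -1 := by
      rw [map_mul]
      rcases h with h | h
      · left; rw [← h, h1]
      · right; rw [← h1, h, mul_neg, neg_neg] 
    rw [map_mul, map_mul ι (x⁻¹ * y)]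
    rcases h2 with h2 | h2 <;> rw [h2] <;> simp
  obtain ⟨a, ha⟩ := hP A (by simp)
  obtain ⟨b, hb⟩ := hP B (by simp)
  obtain ⟨c, hc⟩ := hP C (by simp)
  obtain ⟨d, hd⟩ := hP D (by simp)
  have k1 : ∀ {x : H} {X}, X ∈ [A, B, C, D] → ι x = X.map φ →
      (x : H ⧸ center H) * (x : H ⧸ center H) = 1 := fun {x X} hX hx => by
    rw [← QuotientGroup.mk_mul, ← QuotientGroup.mk_one]
    apply hz
    rw [map_mul, hx, map_one]
    change ψ X * ψ X = 1 ∨ ψ X * ψ X = -1
    rw [← map_mul]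
    rcases sq X hX with h | h <;> rw [h] <;> simp
  have k2 : ∀ {x y : H} {X Y}, X ∈ [A, B, C, D] → Y ∈ [A, B, C, D] → ι x = X.map φ → ι y = Y.map φ →
      (x : H ⧸ center H) * (y : H ⧸ center H) = y * x := fun {x y X Y} hX hY hx hy => by
    rw [← QuotientGroup.mk_mul, ← QuotientGroup.mk_mul]
    apply hz
    rw [map_mul, map_mul, hx, hy]
    change ψ X * ψ Y = ψ Y * ψ X ∨ ψ X * ψ Y = -(ψ Y * ψ X)
    rw [← map_mul, ← map_mul, ← map_neg]
    rcases cm X hX Y hY with h | h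
    · left; rw [h]
    · right; rw [h]
  refine r4_wd (a := (a : H ⧸ center H)) (b := b) (c := c) (d := d) (k1 (by simp) ha) (k1 (by simp) hb)
    (k1 (by simp) hc) (k1 (by simp) hd) (k2 (by simp) (by simp) ha hb) (k2 (by simp) (by simp) ha hc)
    (k2 (by simp) (by simp) hb hc) (k2 (by simp) (by simp) ha hd) (k2 (by simp) (by simp) hb hd)
    (k2 (by simp) (by simp) hc hd) fun i j k l hs e => ?_
  obtain ⟨W, hW, hn⟩ := nc i j k l hs
  obtain ⟨w, hw⟩ := hP W hW
  have e1 : ((wd a b c d i j k l : H) : H ⧸ center H) = 1 := by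
    rw [← e]; exact map_wd (QuotientGroup.mk' (center H)) a b c d i j k l
  rw [QuotientGroup.eq_one_iff, mem_center_iff] at e1
  have e2 := congrArg ι (e1 w)
  have e3 : ι (wd a b c d i j k l) = ψ (wd A B C D i j k l) := by
    rw [map_wd, ha, hb, hc, hd]
    exact (map_wd (ψ : Matrix (Fin n) (Fin n) R →* Matrix (Fin n) (Fin n) F) A B C D i j k l).symm
  rw [map_mul, map_mul, e3, hw] at e2
  change ψ W * _ = _ * ψ W at e2
  rw [← map_mul, ← map_mul] at e2
  exact hn (hψ e2).symm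

theorem slToMat_inj {n : ℕ} {F : Type*} [Field F] : Function.Injective (slToMat n F) := fun x y h =>
  Subtype.ext h

theorem lift_sl {n : ℕ} {R F : Type*} [CommRing R] [Field F] (φ : R →+* F) {X : Matrix (Fin n) (Fin n) R}
    (h : X.det = 1) : ∃ g, slToMat n F g = X.map φ :=
  ⟨⟨X.map φ, by rw [← RingHom.mapMatrix_apply, ← RingHom.map_det, h, map_one]⟩, rfl⟩

theorem lift_su {n q : ℕ} {R F : Type*} [CommRing R] [Field F] (φ : R →+* F) (σ : R → R) (τ : F →+* F)
    (hτ : ∀ x, τ x = x ^ q) (hσ : ∀ x, φ (σ x) = τ (φ x)) {X : Matrix (Fin n) (Fin n) R}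
    (h : X.det = 1) (hu : Xᵀ * X.map σ = 1) :
    ∃ g, ((slToMat n F).comp (SU n F q).subtype) g = X.map φ := by
  obtain ⟨g, hg⟩ := lift_sl (F := F) φ h
  refine ⟨⟨g, fun u v => ?_⟩, hg⟩
  have h1 : (X.map φ)ᵀ * (X.map φ).map τ = 1 := by
    have : (X.map φ).map τ = (X.map σ).map φ := by
      ext i j; simp [hσ]
    rw [this, ← transpose_map, ← Matrix.map_mul, hu, Matrix.map_one _ (map_zero φ) (map_one φ)]
  have h2 : ∀ u v : Fin n → F, hermForm n F q u v = u ⬝ᵥ (τ ∘ v) := fun u v => by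
    simp [hermForm, dotProduct, hτ]
  rw [hg, h2, h2]
  have h3 : τ ∘ (X.map φ *ᵥ v) = (X.map φ).map τ *ᵥ (τ ∘ v) := by
    ext i
    exact RingHom.map_mulVec τ _ _ i
  rw [h3, dotProduct_mulVec, ← vecMul_transpose (X.map φ), vecMul_vecMul, h1, vecMul_one]

theorem su_inj {n q : ℕ} {F : Type*} [Field F] :
    Function.Injective ((slToMat n F).comp (SU n F q).subtype) :=
  slToMat_inj.comp (SU n F q).subtype_injective

theorem charP_of {F : Type} [Field F] [Fintype F] {p k : ℕ} (hp : p.Prime) (h : Fintype.card F = p ^ k) :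
    _root_.CharP F p := by
  obtain ⟨r, hr⟩ := _root_.CharP.exists F
  obtain ⟨m, hr', hm⟩ := FiniteField.card F r
  have : r = p := by
    have h1 : r ∣ p ^ k := by rw [← h, hm]; exact dvd_pow_self r m.ne_zero
    exact (Nat.prime_dvd_prime_iff_eq hr' hp).1 (hr'.dvd_of_dvd_pow h1)
  rwa [← this]

theorem det_two {n : ℕ} {R : Type*} [CommRing R] [IsDomain R] (h2 : (1 : R) = -1)
    {X : Matrix (Fin n) (Fin n) R} (h : X * X = 1) : X.det = 1 := by
  have := congrArg Matrix.det h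
  rw [det_mul, det_one, mul_self_eq_one_iff] at this
  rcases this with h | h
  · exact h
  · rw [h, ← h2]

/-- the field with four elements. -/
abbrev F4 : Type := QuadraticAlgebra (ZMod 2) 1 1

instance : Fact (∀ r : ZMod 2, r ^ 2 ≠ 1 + 1 * r) := ⟨by decide⟩

theorem f4_emb {F : Type} [Field F] [Fintype F] (h : Fintype.card F = 4) :
    ∃ (φ : F4 →+* F) (τ : F →+* F), Function.Injective φ ∧ (∀ x, τ x = x ^ 2) ∧
      ∀ x, φ (x * x) = τ (φ x) := by
  classical
  haveI : _root_.CharP F 2 := charP_of (k := 2) Nat.prime_two h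
  letI : Algebra (ZMod 2) F := ZMod.algebra F 2
  obtain ⟨w, hw⟩ : ∃ w : F, w ∉ ({0, 1} : Finset F) := by
    by_contra hc
    push Not at hc
    have := Finset.card_le_card (fun x _ => hc x : Finset.univ ⊆ ({0, 1} : Finset F))
    have h2 := Finset.card_le_two (a := (0 : F)) (b := 1)
    rw [Finset.card_univ, h] at this
    omega
  simp only [Finset.mem_insert, Finset.mem_singleton, not_or] at hw
  have h3 : w ^ 3 = 1 := by simpa [h] using FiniteField.pow_card_sub_one_eq_one w hw.1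
  have h2 : (2 : F) = 0 := CharTwo.two_eq_zero
  have h4 : w * w = (1 : ZMod 2) • (1 : F) + (1 : ZMod 2) • w := by
    rw [one_smul, one_smul]
    apply mul_left_cancel₀ (sub_ne_zero.2 hw.2)
    linear_combination h3 + (1 - w * w) * h2
  let φ : F4 →+* F := (QuadraticAlgebra.lift ⟨w, h4⟩ : F4 →ₐ[ZMod 2] F)
  exact ⟨φ, frobenius F 2, φ.injective, fun x => rfl, fun x => by rw [map_mul, frobenius_def, pow_two]⟩

/-- a generator of `F4ˣ`. -/
def om : F4 := ⟨0, 1⟩

/-- `om²`. -/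
def ob : F4 := ⟨1, 1⟩

end R1

open R1 Matrix

attribute [local instance 5000] List.decidableBAll List.decidableBEx

variable {G : Type*} [Group G] [Finite G]

theorem r4_trans (s : Matrix.SpecialLinearGroup (Fin 5) (ZMod 2))
    (hs : (s : Matrix (Fin 5) (Fin 5) (ZMod 2)) = Matrix.transvection 0 1 1) :
    R4 (centralizer ({s} : Set (Matrix.SpecialLinearGroup (Fin 5) (ZMod 2)))) := by
  let t : Fin 4 → Matrix.SpecialLinearGroup (Fin 5) (ZMod 2) := fun i =>
    ⟨Matrix.transvection 0 i.succ 1, det_transvection_of_ne _ _ (Fin.succ_ne_zero i).symm _⟩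
  have ht : ∀ i j, t i * t j = t j * t i := fun i j => Subtype.ext (by revert i j; decide +kernel)
  have ht2 : ∀ i, t i * t i = 1 := fun i => Subtype.ext (by revert i; decide +kernel)
  have ht3 : ∀ i j k l : Bool, (i || j || k || l) = true →
      wd (Matrix.transvection (0 : Fin 5) 1 (1 : ZMod 2))
        (Matrix.transvection 0 2 1) (Matrix.transvection 0 3 1) (Matrix.transvection 0 4 1) i j k l ≠ 1 := by
    decide +kernel
  obtain rfl : s = t 0 := Subtype.ext hs
  let u : Fin 4 → centralizer ({t 0} : Set (Matrix.SpecialLinearGroup (Fin 5) (ZMod 2))) := fun i =>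
    ⟨t i, mem_centralizer_singleton_iff.2 (ht i 0)⟩
  have hu : ∀ i j, u i * u j = u j * u i := fun i j => Subtype.ext (ht i j)
  have h2 : ∀ i, u i * u i = 1 := fun i => Subtype.ext (ht2 i)
  refine r4_wd (h2 0) (h2 1) (h2 2) (h2 3) (hu _ _) (hu _ _) (hu _ _) (hu _ _) (hu _ _) (hu _ _)
    fun i j k l hs e => ?_
  have e1 := congrArg ((slToMat 5 (ZMod 2)).comp (Subgroup.subtype _)) e
  rw [map_wd, map_one] at e1
  exact ht3 i j k l hs e1

theorem r4_l52 {F : Type} [Field F] [Fintype F] (h : Fintype.card F = 2) :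
    R4 (Matrix.ProjectiveSpecialLinearGroup (Fin 5) F) := by
  haveI : _root_.CharP F 2 := charP_of (k := 1) Nat.prime_two h
  refine r4_mat (ZMod.castHom (dvd_refl 2) F) (RingHom.injective _) (slToMat 5 F) slToMat_inj
    (Matrix.transvection 0 1 1) (Matrix.transvection 0 2 1) (Matrix.transvection 0 3 1)
    (Matrix.transvection 0 4 1) [Matrix.transvection 1 0 1, Matrix.transvection 2 0 1]
    (fun X hX => lift_sl _ (det_two (by decide) ?_)) (by decide +kernel) (by decide +kernel)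
    (by decide +kernel)
  revert X
  decide +kernel

theorem r4_l43 {F : Type} [Field F] [Fintype F] (h : Fintype.card F = 3) :
    R4 (Matrix.ProjectiveSpecialLinearGroup (Fin 4) F) := by
  haveI : _root_.CharP F 3 := charP_of (k := 1) Nat.prime_three h
  refine r4_mat (ZMod.castHom (dvd_refl 3) F) (RingHom.injective _) (slToMat 4 F) slToMat_inj
    !![0, 0, 1, 0; 0, 0, 0, 1; 1, 0, 0, 0; 0, 1, 0, 0] !![1, 0, 0, 0; 0, 1, 0, 0; 0, 0, -1, 0; 0, 0, 0, -1]
    !![0, 1, 0, 0; 1, 0, 0, 0; 0, 0, 0, 1; 0, 0, 1, 0] !![1, 0, 0, 0; 0, -1, 0, 0; 0, 0, 1, 0; 0, 0, 0, -1]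
    [] (fun X hX => lift_sl _ ?_) (by decide +kernel) (by decide +kernel) (by decide +kernel)
  revert X
  decide +kernel

theorem r4_u42 {F : Type} [Field F] [Fintype F] (h : Fintype.card F = 4) : R4 (PSU 4 F 2) := by
  obtain ⟨φ, τ, hφ, hτ, hσ⟩ := f4_emb h
  refine r4_mat φ hφ _ su_inj
    !![0, 1, 0, 0; 1, 0, 0, 0; 0, 0, 1, 0; 0, 0, 0, 1] !![1, 0, 0, 0; 0, 1, 0, 0; 0, 0, 0, 1; 0, 0, 1, 0]
    !![0, 1, 1, 1; 1, 0, 1, 1; 1, 1, 0, 1; 1, 1, 1, 0]
    !![0, 1, ob, ob; 1, 0, ob, ob; om, om, 0, 1; om, om, 1, 0]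
    [!![1, 0, 0, 0; 0, 0, 1, 0; 0, 1, 0, 0; 0, 0, 0, 1],
     !![1, 0, 0, 0; 0, 0, om, 0; 0, ob, 0, 0; 0, 0, 0, 1]]
    (fun X hX => ?_) (by decide +kernel) (by decide +kernel) (by decide +kernel)
  have : X * X = 1 ∧ Xᵀ * X.map (fun x => x * x) = 1 := by
    revert X
    decide +kernel
  exact lift_su φ _ τ hτ hσ (det_two (by decide) this.1) this.2

theorem r4_u52 {F : Type} [Field F] [Fintype F] (h : Fintype.card F = 4) : R4 (PSU 5 F 2) := by
  obtain ⟨φ, τ, hφ, hτ, hσ⟩ := f4_emb h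
  refine r4_mat φ hφ _ su_inj
    !![0, 1, 0, 0, 0; 1, 0, 0, 0, 0; 0, 0, 1, 0, 0; 0, 0, 0, 1, 0; 0, 0, 0, 0, 1]
    !![1, 0, 0, 0, 0; 0, 1, 0, 0, 0; 0, 0, 0, 1, 0; 0, 0, 1, 0, 0; 0, 0, 0, 0, 1]
    !![0, 1, 1, 1, 0; 1, 0, 1, 1, 0; 1, 1, 0, 1, 0; 1, 1, 1, 0, 0; 0, 0, 0, 0, 1]
    !![0, 1, ob, ob, 0; 1, 0, ob, ob, 0; om, om, 0, 1, 0; om, om, 1, 0, 0; 0, 0, 0, 0, 1]
    [!![1, 0, 0, 0, 0; 0, 0, 0, 0, 1; 0, 0, 1, 0, 0; 0, 0, 0, 1, 0; 0, 1, 0, 0, 0],
     !![1, 0, 0, 0, 0; 0, 1, 0, 0, 0; 0, 0, 0, 0, 1; 0, 0, 0, 1, 0; 0, 0, 1, 0, 0]]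
    (fun X hX => ?_) (by decide +kernel) (by decide +kernel) (by decide +kernel)
  have : X * X = 1 ∧ Xᵀ * X.map (fun x => x * x) = 1 := by
    revert X
    decide +kernel
  exact lift_su φ _ τ hτ hσ (det_two (by decide) this.1) this.2

theorem r4_u43 {F : Type} [Field F] [Fintype F] (h : Fintype.card F = 9) : R4 (PSU 4 F 3) := by
  haveI : _root_.CharP F 3 := charP_of (k := 2) Nat.prime_three h
  refine r4_mat (ZMod.castHom (dvd_refl 3) F) (RingHom.injective _) _ su_inj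
    !![0, 0, 1, 0; 0, 0, 0, 1; 1, 0, 0, 0; 0, 1, 0, 0] !![1, 0, 0, 0; 0, 1, 0, 0; 0, 0, -1, 0; 0, 0, 0, -1]
    !![0, 1, 0, 0; 1, 0, 0, 0; 0, 0, 0, 1; 0, 0, 1, 0] !![1, 0, 0, 0; 0, -1, 0, 0; 0, 0, 1, 0; 0, 0, 0, -1]
    [] (fun X hX => ?_) (by decide +kernel) (by decide +kernel) (by decide +kernel)
  have : X.det = 1 ∧ Xᵀ * X.map (fun x => x ^ 3) = 1 := by
    revert X
    decide +kernel
  exact lift_su _ _ (frobenius F 3) (fun x => rfl) (fun x => by rw [map_pow, frobenius_def]) this.1 this.2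

theorem r4_a8 : R4 (alternatingGroup (Fin 8)) := by
  refine r4_wd (a := ⟨Equiv.swap 0 1 * Equiv.swap 2 3, by simp⟩)
    (b := ⟨Equiv.swap 0 2 * Equiv.swap 1 3, by simp⟩)
    (c := ⟨Equiv.swap 4 5 * Equiv.swap 6 7, by simp⟩)
    (d := ⟨Equiv.swap 4 6 * Equiv.swap 5 7, by simp⟩) ?_ ?_ ?_ ?_ ?_ ?_ ?_ ?_ ?_ ?_ ?_ <;>
  decide +kernel

theorem r4_a9 : R4 (alternatingGroup (Fin 9)) := by
  refine r4_wd (a := ⟨Equiv.swap 0 1 * Equiv.swap 2 3, by simp⟩)
    (b := ⟨Equiv.swap 0 2 * Equiv.swap 1 3, by simp⟩)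
    (c := ⟨Equiv.swap 4 5 * Equiv.swap 6 7, by simp⟩)
    (d := ⟨Equiv.swap 4 6 * Equiv.swap 5 7, by simp⟩) ?_ ?_ ?_ ?_ ?_ ?_ ?_ ?_ ?_ ?_ ?_ <;>
  decide +kernel

end H22.RK
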