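import Mathlib
import Cfsg.Agent.Lib.Rk3C.Defs
import Cfsg.Agent.Lib.Leech.Co0
import Cfsg.Agent.Lib.Golay.Mathieu
import Cfsg.Agent.Lib.SuzSp.Model
import Cfsg.Agent.Lib.R3.Wd
import Cfsg.Prelude.Def_Spor_Conway

/-!
The Higman–Sims group and the sporadic Suzuki group have 2-rank at least 4 (helper70).
-/

set_option autoImplicit false
set_option linter.unusedSectionVars false
set_option linter.unusedVariables false
set_option maxRecDepth 100000

namespace H22.RK

open Subgroup H69 H70 Cfsg
open scoped commutatorElement Pointwise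

namespace R2

theorem fix_vec (σ : H15.fixSet (H15.ofMask H15.oct0)) (v : leechLattice) (c : ℤ)
    (h : ∀ p, p ≠ none → p ≠ some 0 → (v : GolayPt → ℤ) p = c) :
    H16.permHom ⟨σ, (H15.mem_fixSet.1 σ.2).1⟩ • v = v := by
  have h1 := (H15.mem_fixSet.1 σ.2).2 none (by decide +kernel)
  have h2 := (H15.mem_fixSet.1 σ.2).2 (some 0) (by decide +kernel)
  refine Subtype.ext (funext fun p => ?_)
  obtain ⟨q, rfl⟩ := σ.1.surjective p
  refine (H16.permHom_smul_apply ⟨σ, _⟩ v q).trans ?_
  by_cases e1 : q = none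
  · rw [e1, h1]
  by_cases e2 : q = some 0
  · rw [e2, h2]
  rw [h q e1 e2, h _ (fun e => e1 (σ.1.injective (e.trans h1.symm)))
    fun e => e2 (σ.1.injective (e.trans h2.symm))]

/-- the permutations fixing an octad pointwise, inside the Higman–Sims group -/
noncomputable def toHS : H15.fixSet (H15.ofMask H15.oct0) →* Spor.HS :=
  ((Co0.subtype.comp H16.permHom).comp (inclusion fun _ h => (H15.mem_fixSet.1 h).1)).codRestrict _
    fun σ => ⟨⟨(H16.permHom _).2, fix_vec σ Spor.leechV (-1) fun p h _ => if_neg h⟩,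
      fix_vec σ Spor.leechU' 0 fun p h h' => (if_neg h).trans (if_neg h')⟩

theorem hs : R4 Spor.HS := by
  refine R4.of_inj toHS (fun σ τ h => ?_) fun h => ?_
  · have k := congrArg Subtype.val h
    exact inclusion_injective _ (H16.permHom_injective (Subtype.ext k))
  · have := card_le_of_rank h (A := ⊤) fun a _ =>
      Subtype.ext (H15.mul_self_of_mem_fixSet_octad H15.oct0_mem a.2)
    rw [card_top, H15.card_fixSet_octad H15.oct0_mem] at this
    omega

section
open H54 H40.Suz
attribute [local instance] H40.Suz.act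

theorem eqw (v w : List ℕ)
    (e : Nat.beq (wlT cfg pT.get 5 v 0x6f4de7bd779000) (wlT cfg pT.get 5 w 0x6f4de7bd779000) = true) :
    lw lt v = lw lt w := lw_eq model.ctx model.pool.rep model.base e

theorem new (v w : List ℕ) (e : wl cfg pT.get v 8 ≠ wl cfg pT.get w 8) : lw lt v ≠ lw lt w :=
  fun h => e (H19.R3.wl_eq_of model.ctx model.pool.rep h (by decide +kernel))

theorem suz : R4 Spor.Suz := by
  haveI := H40.Suz.finite
  have k : ∀ v ∈ [[0], [4], [8], [10]], ∀ w ∈ [[0], [4], [8], [10]],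
      lw lt v * lw lt v = 1 ∧ lw lt v * lw lt w = lw lt w * lw lt v := fun v hv w hw => by
    rw [← lw_append, ← lw_append, ← lw_append]
    exact ⟨eqw _ [] (by revert v; decide +kernel), eqw _ _ (by revert v w; decide +kernel)⟩
  refine r4_of (a := lw lt [0]) (b := lw lt [4]) (c := lw lt [8]) (d := lw lt [10])
    (k _ (by simp) [0] (by simp)).1 (k _ (by simp) [0] (by simp)).1 (k _ (by simp) [0] (by simp)).1
    (k _ (by simp) [0] (by simp)).1 (k _ (by simp) _ (by simp)).2 (k _ (by simp) _ (by simp)).2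
    (k _ (by simp) _ (by simp)).2 (k _ (by simp) _ (by simp)).2 (k _ (by simp) _ (by simp)).2
    (k _ (by simp) _ (by simp)).2 ?_ ?_
  · simp only [Ind, ← lw_append]
    refine ⟨new _ [] ?_, new _ [] ?_, new _ _ ?_, new _ [] ?_, new _ _ ?_, new _ _ ?_, new _ _ ?_⟩ <;>
      decide +kernel
  · simp only [← lw_append, not_or]
    refine ⟨new _ [] ?_, new _ _ ?_, new _ _ ?_, new _ _ ?_, new _ _ ?_, new _ _ ?_, new _ _ ?_,
      new _ _ ?_⟩ <;> decide +kernel

end

end R2

variable {G : Type*} [Group G] [Finite G]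

theorem r4_hs (h : Spor.IsoHS G) : R4 G := by
  obtain ⟨e⟩ := h
  exact R2.hs.of_equiv e

theorem r4_suz (h : Spor.IsoSuz G) : R4 G := by
  obtain ⟨e⟩ := h
  exact R2.suz.of_equiv e

end H22.RK
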